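import Cfsg.Agent.OddOrderCharacters.PF11.Defs
import Cfsg.Agent.OddOrderCharacters.PF9.Three
import Cfsg.Agent.OddOrderLocal.CommProd
import Cfsg.Agent.Lib.CoprimeStab
import Cfsg.Agent.S0022
import Cfsg.Agent.SolvableStructure.AbelianSocle
import Mathlib.Data.Nat.Prime.Basic
import Mathlib.Algebra.Ring.Parity
import Mathlib.Tactic
import Mathlib
import Cfsg.Prelude.Def_OddOrderChar
import Cfsg.Agent.S1519
import Cfsg.Agent.S1520
import Cfsg.Agent.OddOrderCharacters.TypeSetsBasic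
import Cfsg.Agent.Lib.Cores
import Cfsg.Agent.OddOrderCharacters.SystemRestrict
import Cfsg.Agent.OddOrderCharacters.IndRes
import Cfsg.Agent.OddOrderLocal.TypeP
import Cfsg.Agent.S1492
import Cfsg.Agent.S1517
set_option linter.all false

-- part: OddOrderCharacters/PF11/Basic
section
/-!
# Peterfalvi, section 11: group theory of the standing hypotheses

`M' = ⁅M, M⁆`, `H = fittingHallOf M`, `C = cent M U`.
-/

set_option autoImplicit false

open Cfsg Cfsg.Agent.OddOrderCharacters Cfsg.Agent.OddOrderCharacters.PF11.Defs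
  Cfsg.Agent.OddOrderLocal Cfsg.Agent.OddOrderLocal.TypeP
open scoped commutatorElement

namespace Cfsg.Agent.OddOrderCharacters.PF11.Basic

universe u

variable {G : Type u} [Group G]

section general

/-- If the `q`-group `A` normalises `N` and `D ≤ N` and has no nontrivial fixed point on the cosets of `D` in
`N`, then `|N : D| ≡ 1 mod q`. -/
theorem relIndex_modEq_of_fixed [Finite G] {q : ℕ} [Fact q.Prime] {A N D : Subgroup G}
    (hA : IsPGroup q A) (hN : ∀ a ∈ A, ∀ x ∈ N, a * x * a⁻¹ ∈ N)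
    (hD : ∀ a ∈ A, ∀ x ∈ D, a * x * a⁻¹ ∈ D)
    (hfix : ∀ x ∈ N, (∀ a ∈ A, x⁻¹ * (a * x * a⁻¹) ∈ D) → x ∈ D) :
    D.relIndex N ≡ 1 [MOD q] := by
  let act : MulAction A (N ⧸ D.subgroupOf N) :=
    { smul := fun a => Quotient.map' (fun x : N => ⟨(a : G) * x * (a : G)⁻¹, hN a a.2 x x.2⟩) (by
        intro x y hxy
        rw [QuotientGroup.leftRel_apply, Subgroup.mem_subgroupOf] at hxy ⊢
        have h1 := hD a a.2 _ hxy
        have h2 : (((⟨(a : G) * x * (a : G)⁻¹, hN a a.2 x x.2⟩ : N)⁻¹ *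
          ⟨(a : G) * y * (a : G)⁻¹, hN a a.2 y y.2⟩ : N) : G) =
            (a : G) * ((x⁻¹ * y : N) : G) * (a : G)⁻¹ := by
          simp only [Subgroup.coe_mul, Subgroup.coe_inv]
          group
        rw [h2]
        exact h1)
      one_smul := by
        intro x
        induction x using Quotient.inductionOn' with
        | h x =>
          show Quotient.map' _ _ _ = _
          rw [Quotient.map'_mk'']
          congr 1
          apply Subtype.ext
          simp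
      mul_smul := by
        intro a b x
        induction x using Quotient.inductionOn' with
        | h x =>
          show Quotient.map' _ _ _ = Quotient.map' _ _ (Quotient.map' _ _ _)
          rw [Quotient.map'_mk'', Quotient.map'_mk'', Quotient.map'_mk'']
          congr 1
          apply Subtype.ext
          show ((a * b : A) : G) * x * ((a * b : A) : G)⁻¹ = a * (b * x * (b : G)⁻¹) * (a : G)⁻¹
          rw [Subgroup.coe_mul]
          group }
  have h1 := IsPGroup.card_modEq_card_fixedPoints hA (N ⧸ D.subgroupOf N)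
  have h2 : Nat.card (MulAction.fixedPoints A (N ⧸ D.subgroupOf N)) = 1 := by
    rw [Nat.card_eq_one_iff_exists]
    refine ⟨⟨((1 : N) : N ⧸ D.subgroupOf N), ?_⟩, ?_⟩
    · intro a
      show Quotient.map' _ _ (Quotient.mk'' (1 : N)) = _
      rw [Quotient.map'_mk'']
      show ((_ : N) : N ⧸ D.subgroupOf N) = _
      congr 1
      apply Subtype.ext
      simp
    · rintro ⟨x, hx⟩
      apply Subtype.ext
      induction x using Quotient.inductionOn' with
      | h x =>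
        have h3 : (x : G) ∈ D := by
          refine hfix x x.2 fun a ha => ?_
          have h4 : Quotient.map' _ _ (Quotient.mk'' x) = (Quotient.mk'' x : N ⧸ D.subgroupOf N) :=
            hx ⟨a, ha⟩
          rw [Quotient.map'_mk''] at h4
          have h5 := Quotient.exact' h4.symm
          rw [QuotientGroup.leftRel_apply, Subgroup.mem_subgroupOf] at h5
          exact h5
        show ((x : N) : N ⧸ D.subgroupOf N) = ((1 : N) : N ⧸ D.subgroupOf N)
        rw [QuotientGroup.eq, Subgroup.mem_subgroupOf, mul_one, Subgroup.coe_inv]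
        exact D.inv_mem h3
  rw [h2] at h1
  exact h1

theorem relIndex_mul_card_of_le [Finite G] {A B : Subgroup G} (hAB : A ≤ B) :
    A.relIndex B * Nat.card A = Nat.card B := by
  rw [mul_comm, ← Subgroup.relIndex_bot_left A, Subgroup.relIndex_mul_relIndex ⊥ A B bot_le hAB,
    Subgroup.relIndex_bot_left]

theorem le_normalizer_of_conj {A N : Subgroup G} (hN : ∀ x ∈ A, ∀ n ∈ N, x * n * x⁻¹ ∈ N) :
    A ≤ Subgroup.normalizer (N : Set G) := by
  intro x hx
  rw [Subgroup.mem_normalizer_iff]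
  intro g
  constructor
  · exact hN x hx g
  · intro hg
    have h2 := hN x⁻¹ (A.inv_mem hx) _ hg
    have h3 : x⁻¹ * (x * g * x⁻¹) * x⁻¹⁻¹ = g := by group
    rwa [h3] at h2

end general

variable {M U W₁ W₂ H₀ : Subgroup G} {p q : ℕ}

theorem H_conj [Finite G] (M : Subgroup G) : ∀ x ∈ M, ∀ y ∈ fittingHallOf M, x * y * x⁻¹ ∈ fittingHallOf M :=
  fun _ hx y hy => (Subgroup.mem_normalizer_iff.1
    (FittingHall.le_normalizer_fittingHallOf M hx) y).1 hy

theorem H_le_M (M : Subgroup G) : fittingHallOf M ≤ M := FittingHall.fittingHallOf_le M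

theorem commutator_conj (M : Subgroup G) : ∀ x ∈ M, ∀ y ∈ ⁅M, M⁆, x * y * x⁻¹ ∈ ⁅M, M⁆ :=
  fun _ hx y hy => (Subgroup.mem_normalizer_iff.1 (TypeP.le_normalizer_commutator M hx) y).1 hy

theorem H_le (h : Hyp M U W₁ W₂ H₀ p q) : fittingHallOf M ≤ ⁅M, M⁆ := kernel_le_derived h.typeP

theorem U_le (h : Hyp M U W₁ W₂ H₀ p q) : U ≤ ⁅M, M⁆ := U_le_derived h.typeP

theorem U_le_M (h : Hyp M U W₁ W₂ H₀ p q) : U ≤ M := TypeP.U_le h.typeP

theorem W₁_le_M (h : Hyp M U W₁ W₂ H₀ p q) : W₁ ≤ M := TypeP.W₁_le h.typeP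

theorem W₂_le (h : Hyp M U W₁ W₂ H₀ p q) : W₂ ≤ fittingHallOf M := PF9.Three.W₂_le_kernel h.typeP

theorem inf_U (h : Hyp M U W₁ W₂ H₀ p q) : fittingHallOf M ⊓ U = ⊥ := h.typeP.U_compl.2.2.1

theorem sup_U (h : Hyp M U W₁ W₂ H₀ p q) : fittingHallOf M ⊔ U = ⁅M, M⁆ :=
  FittingHall.sup_of_isComplIn h.typeP.U_compl

theorem sup_W₁ (h : Hyp M U W₁ W₂ H₀ p q) : ⁅M, M⁆ ⊔ W₁ = M :=
  FittingHall.sup_of_isComplIn h.typeP.W₁_compl

theorem isNilpotent_H (M : Subgroup G) [Finite M] : Group.IsNilpotent (fittingHallOf M) :=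
  FittingHall.fittingHallOf_isNilpotent M

theorem coprime_HU (h : Hyp M U W₁ W₂ H₀ p q) :
    Nat.Coprime (Nat.card (fittingHallOf M)) (Nat.card U) := by
  have := h.finite
  exact coprime_kernel_U h.typeP

theorem coprime_W₁ (h : Hyp M U W₁ W₂ H₀ p q) : Nat.Coprime (Nat.card ↥⁅M, M⁆) q := by
  have h1 := coprime_W₁_derived h.typeP
  rw [h.card_W₁] at h1
  exact h1.symm

theorem odd_card (h : Hyp M U W₁ W₂ H₀ p q) (A : Subgroup G) : Odd (Nat.card A) := by
  have := h.finite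
  exact h.odd.of_dvd_nat (Subgroup.card_subgroup_dvd_card A)

theorem p_dvd (h : Hyp M U W₁ W₂ H₀ p q) : p ∣ Nat.card (fittingHallOf M) := by
  rw [← h.card_W₂]
  exact Subgroup.card_dvd_of_le (W₂_le h)

theorem p_ne_q (h : Hyp M U W₁ W₂ H₀ p q) : p ≠ q := by
  rintro rfl
  have h1 : p ∣ Nat.card ↥⁅M, M⁆ := (p_dvd h).trans (Subgroup.card_dvd_of_le (H_le h))
  have h2 := coprime_W₁ h
  exact h.p_prime.one_lt.ne' ((Nat.gcd_eq_right h1).symm.trans h2)

theorem p_odd (h : Hyp M U W₁ W₂ H₀ p q) : Odd p := by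
  rw [← h.card_W₂]
  exact odd_card h W₂

theorem q_odd (h : Hyp M U W₁ W₂ H₀ p q) : Odd q := by
  rw [← h.card_W₁]
  exact odd_card h W₁

theorem index_W₁ (h : Hyp M U W₁ W₂ H₀ p q) : ⁅M, M⁆.relIndex M = q := by
  rw [relIndex_derived h.typeP, h.card_W₁]

/-- `C_H(U W₁) = 1`. -/
theorem cent_sup_eq_bot (h : Hyp M U W₁ W₂ H₀ p q) :
    fittingHallOf M ⊓ Subgroup.centralizer ((U ⊔ W₁ : Subgroup G) : Set G) = ⊥ := by
  have := h.finite
  exact PF9.Three.cent_eq_of_prime h.typeP h.U_ne (h.card_W₂ ▸ h.p_prime)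

/-- The order of a normal subgroup of `M` contained in `H`: `|N| = |N ∩ W₂| ^ q * |C_N(U)|`. -/
theorem card_of_le (h : Hyp M U W₁ W₂ H₀ p q) {N : Subgroup G} (hN : N ≤ fittingHallOf M)
    (hNn : ∀ x ∈ M, ∀ n ∈ N, x * n * x⁻¹ ∈ N) :
    Nat.card N = Nat.card ↥(N ⊓ W₂) ^ q * Nat.card ↥(N ⊓ Subgroup.centralizer (U : Set G)) := by
  have := h.finite
  have hcop : (Nat.card N).Coprime (Nat.card ↥(U ⊔ W₁)) :=
    Nat.Coprime.coprime_dvd_left (Subgroup.card_dvd_of_le hN) (PF9.Three.coprime_kernel_sup h.typeP)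
  have hsol : Group.IsSolvable N := by
    have h1 := isNilpotent_H M
    exact Group.isSolvable_of_isSolvable_injective (f := Subgroup.inclusion hN)
      (Subgroup.inclusion_injective hN)
  have key := Cfsg.Agent.S1545.result U W₁ N h.U_ne h.typeP.W₁_ne (PF9.Three.U_inf_W₁ h.typeP)
    (PF9.Three.conj_mem_U h.typeP) (PF9.Three.U_fpf h.typeP)
    (fun x hx n hn => hNn x (PF9.Three.sup_le h.typeP hx) n hn)
    (Subgroup.disjoint_of_coprime_natCard hcop).eq_bot hsol hcop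
  have h1 : N ⊓ Subgroup.centralizer ((U ⊔ W₁ : Subgroup G) : Set G) = ⊥ := by
    rw [eq_bot_iff, ← cent_sup_eq_bot h]
    exact inf_le_inf_right _ hN
  have h2 : N ⊓ Subgroup.centralizer (W₁ : Set G) = N ⊓ W₂ := by
    rw [← PF9.Three.inf_centralizer_W₁ h.typeP, ← inf_assoc, inf_eq_left.2 hN]
  rw [h1, Subgroup.card_bot, one_pow, one_mul, h2, h.card_W₁] at key
  exact key

theorem W₂_inf_H₀ (h : Hyp M U W₁ W₂ H₀ p q) : W₂ ⊓ H₀ = ⊥ := by
  have := h.finite
  by_contra hne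
  have h1 : W₂ ≤ H₀ := by
    rw [← inf_eq_left]
    refine Subgroup.eq_of_le_of_card_ge inf_le_left ?_
    have h2 := Subgroup.card_dvd_of_le (inf_le_left : W₂ ⊓ H₀ ≤ W₂)
    rw [h.card_W₂] at h2 ⊢
    rcases (Nat.dvd_prime h.p_prime).1 h2 with h3 | h3
    · exact absurd (Subgroup.card_eq_one.1 h3) hne
    · exact h3.ge
  have h2 := card_of_le h h.H₀_le h.H₀_normal
  have h3 := card_of_le h le_rfl (H_conj M)
  have h4 : H₀ ⊓ Subgroup.centralizer (U : Set G) = fittingHallOf M ⊓ Subgroup.centralizer (U : Set G) :=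
    le_antisymm (inf_le_inf_right _ h.H₀_le) (le_inf h.cent_le inf_le_right)
  rw [h4, inf_eq_right.2 h1] at h2
  rw [inf_eq_right.2 (W₂_le h), ← h2] at h3
  exact h.H₀_ne (Subgroup.eq_of_le_of_card_ge h.H₀_le h3.le)

/-- `H₀ = C_H(U)`. -/
theorem H₀_eq (h : Hyp M U W₁ W₂ H₀ p q) :
    H₀ = fittingHallOf M ⊓ Subgroup.centralizer (U : Set G) := by
  have := h.finite
  have h2 := card_of_le h h.H₀_le h.H₀_normal
  rw [inf_comm H₀ W₂, W₂_inf_H₀ h, Subgroup.card_bot, one_pow, one_mul] at h2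
  have h4 : H₀ ⊓ Subgroup.centralizer (U : Set G) = fittingHallOf M ⊓ Subgroup.centralizer (U : Set G) :=
    le_antisymm (inf_le_inf_right _ h.H₀_le) (le_inf h.cent_le inf_le_right)
  rw [h4] at h2
  exact (Subgroup.eq_of_le_of_card_ge h.cent_le h2.le).symm

theorem U_le_centralizer (h : Hyp M U W₁ W₂ H₀ p q) : U ≤ Subgroup.centralizer (H₀ : Set G) := by
  rw [Subgroup.le_centralizer_iff, H₀_eq h]
  exact inf_le_right

theorem card_H (h : Hyp M U W₁ W₂ H₀ p q) : Nat.card (fittingHallOf M) = p ^ q * Nat.card H₀ := by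
  have hfin := h.finite
  have h3 := card_of_le h le_rfl (H_conj M)
  rw [inf_eq_right.2 (W₂_le h), ← H₀_eq h, h.card_W₂] at h3
  exact h3

theorem relIndex_H₀ (h : Hyp M U W₁ W₂ H₀ p q) : H₀.relIndex (fittingHallOf M) = p ^ q := by
  have := h.finite
  have h1 := relIndex_mul_card_of_le h.H₀_le
  rw [card_H h] at h1
  exact Nat.eq_of_mul_eq_mul_right Nat.card_pos h1

theorem H₀_le_M (h : Hyp M U W₁ W₂ H₀ p q) : H₀ ≤ M := h.H₀_le.trans (H_le_M M)

theorem commutator_conj_of {A B : Subgroup G} {g : G} (hA : ∀ x ∈ A, g * x * g⁻¹ ∈ A)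
    (hB : ∀ x ∈ B, g * x * g⁻¹ ∈ B) : ∀ x ∈ ⁅A, B⁆, g * x * g⁻¹ ∈ ⁅A, B⁆ := by
  intro x hx
  have h1 : A.map (MulAut.conj g).toMonoidHom ≤ A := by
    rintro _ ⟨b, hb, rfl⟩
    exact hA b hb
  have h2 : B.map (MulAut.conj g).toMonoidHom ≤ B := by
    rintro _ ⟨b, hb, rfl⟩
    exact hB b hb
  have h3 : (⁅A, B⁆).map (MulAut.conj g).toMonoidHom ≤ ⁅A, B⁆ := by
    rw [Subgroup.map_commutator]
    exact Subgroup.commutator_mono h1 h2
  exact h3 ⟨x, hx, rfl⟩

theorem sup_conj_of {A B : Subgroup G} {g : G} (hA : ∀ x ∈ A, g * x * g⁻¹ ∈ A)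
    (hB : ∀ x ∈ B, g * x * g⁻¹ ∈ B) : ∀ x ∈ A ⊔ B, g * x * g⁻¹ ∈ A ⊔ B := by
  have h1 : (A ⊔ B) ≤ (A ⊔ B).comap (MulAut.conj g).toMonoidHom := by
    refine sup_le (fun x hx => ?_) (fun x hx => ?_)
    · exact Subgroup.mem_sup_left (hA x hx)
    · exact Subgroup.mem_sup_right (hB x hx)
  intro x hx
  exact h1 hx

theorem commutator_le_H₀ (h : Hyp M U W₁ W₂ H₀ p q) : ⁅fittingHallOf M, fittingHallOf M⁆ ≤ H₀ := by
  have := h.finite
  have hn := isNilpotent_H M
  have hlt : H₀ < fittingHallOf M := lt_of_le_of_ne h.H₀_le h.H₀_ne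
  rcases h.chief (H₀ ⊔ ⁅fittingHallOf M, fittingHallOf M⁆) le_sup_left
    (sup_le h.H₀_le (Subgroup.commutator_le_self _))
    (fun x hx => sup_conj_of (h.H₀_normal x hx)
      (commutator_conj_of (H_conj M x hx) (H_conj M x hx))) with h1 | h1
  · rw [← h1]
    exact le_sup_right
  · exfalso
    apply h.H₀_ne
    -- in the nilpotent group `H` a subgroup supplementing `H'` is `H`
    have hsub : H₀.subgroupOf (fittingHallOf M) ⊔ commutator (fittingHallOf M) = ⊤ := by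
      have h2 : (H₀.subgroupOf (fittingHallOf M) ⊔ commutator (fittingHallOf M)).map
          (fittingHallOf M).subtype = (⊤ : Subgroup (fittingHallOf M)).map (fittingHallOf M).subtype := by
        rw [Subgroup.map_sup, Subgroup.map_subgroupOf_eq_of_le h.H₀_le,
          Subgroup.map_subtype_commutator, h1, ← MonoidHom.range_eq_map, Subgroup.range_subtype]
      exact Subgroup.map_injective (Subgroup.subtype_injective _) h2
    have h4 := Cfsg.Agent.SolvableStructure.AbelianSocle.eq_top_of_sup_commutator hsub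
    rw [Subgroup.subgroupOf_eq_top] at h4
    exact le_antisymm h.H₀_le h4

theorem H_normal_H₀ (h : Hyp M U W₁ W₂ H₀ p q) :
    ∀ x ∈ fittingHallOf M, ∀ y ∈ H₀, x * y * x⁻¹ ∈ H₀ :=
  fun x hx => h.H₀_normal x (H_le_M M hx)

/-- `(x y)^n = x^n y^n` modulo `H₀`. -/
theorem mul_pow_mem (h : Hyp M U W₁ W₂ H₀ p q) {x y : G} (hx : x ∈ fittingHallOf M)
    (hy : y ∈ fittingHallOf M) (n : ℕ) : (x * y) ^ n * (y⁻¹ ^ n * x⁻¹ ^ n) ∈ H₀ := by
  have hfin := h.finite
  have hN : (H₀.subgroupOf (fittingHallOf M)).Normal := by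
    refine ⟨fun a ha b => ?_⟩
    rw [Subgroup.mem_subgroupOf] at ha ⊢
    exact H_normal_H₀ h b b.2 _ ha
  set f := QuotientGroup.mk' (H₀.subgroupOf (fittingHallOf M)) with hf
  have hmem : ∀ a : fittingHallOf M, f a = 1 ↔ (a : G) ∈ H₀ := by
    intro a
    rw [← MonoidHom.mem_ker, hf, QuotientGroup.ker_mk', Subgroup.mem_subgroupOf]
  have hcomm : ∀ a b : fittingHallOf M, Commute (f a) (f b) := by
    intro a b
    have h1 : f ⁅a, b⁆ = 1 := by
      rw [hmem]
      exact commutator_le_H₀ h (Subgroup.commutator_mem_commutator a.2 b.2)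
    rw [map_commutatorElement, commutatorElement_eq_one_iff_commute] at h1
    exact h1
  have h1 := (hmem ((⟨x, hx⟩ * ⟨y, hy⟩) ^ n * (⟨y, hy⟩⁻¹ ^ n * ⟨x, hx⟩⁻¹ ^ n))).1 (by
    rw [map_mul, map_pow, map_mul, (hcomm _ _).mul_pow, map_mul, map_pow, map_pow, map_inv, map_inv]
    group)
  exact h1

theorem pow_mem_H₀ (h : Hyp M U W₁ W₂ H₀ p q) : ∀ x ∈ fittingHallOf M, x ^ p ∈ H₀ := by
  have hfin := h.finite
  let N : Subgroup G :=
    { carrier := {x | x ∈ fittingHallOf M ∧ x ^ p ∈ H₀}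
      one_mem' := ⟨Subgroup.one_mem _, by rw [one_pow]; exact H₀.one_mem⟩
      mul_mem' := by
        rintro a b ⟨ha, ha'⟩ ⟨hb, hb'⟩
        refine ⟨Subgroup.mul_mem _ ha hb, ?_⟩
        have h1 := mul_pow_mem h ha hb p
        have h2 := H₀.mul_mem h1 (H₀.mul_mem ha' hb')
        have h3 : (a * b) ^ p * (b⁻¹ ^ p * a⁻¹ ^ p) * (a ^ p * b ^ p) = (a * b) ^ p := by
          rw [inv_pow, inv_pow]; group
        rwa [h3] at h2
      inv_mem' := by
        rintro a ⟨ha, ha'⟩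
        refine ⟨Subgroup.inv_mem _ ha, ?_⟩
        rw [inv_pow]
        exact H₀.inv_mem ha' }
  have hN : N = fittingHallOf M := by
    refine (h.chief N ?_ (fun x hx => hx.1) ?_).resolve_left ?_
    · intro x hx
      exact ⟨h.H₀_le hx, H₀.pow_mem hx p⟩
    · rintro x hx y ⟨hy, hy'⟩
      refine ⟨H_conj M x hx y hy, ?_⟩
      rw [conj_pow]
      exact h.H₀_normal x hx _ hy'
    · intro hN
      have h1 : W₂ ≤ H₀ := by
        intro w hw
        rw [← hN]
        refine ⟨W₂_le h hw, ?_⟩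
        have h2 : w ^ p = 1 := by
          have h4 : (⟨w, hw⟩ : W₂) ^ Nat.card W₂ = 1 := pow_card_eq_one'
          rw [h.card_W₂] at h4
          exact congrArg Subtype.val h4
        rw [h2]
        exact H₀.one_mem
      have h2 := W₂_inf_H₀ h
      rw [inf_eq_left.2 h1] at h2
      have h3 := h.card_W₂
      rw [h2, Subgroup.card_bot] at h3
      exact h.p_prime.one_lt.ne h3
  intro x hx
  rw [← hN] at hx
  exact hx.2

theorem cent_le_U : cent M U ≤ U := inf_le_left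

theorem cent_le_centralizer : cent M U ≤ Subgroup.centralizer (fittingHallOf M : Set G) := inf_le_right

theorem cent_comm : ∀ a ∈ fittingHallOf M, ∀ b ∈ cent M U, a * b = b * a :=
  fun a ha _ hb => Subgroup.mem_centralizer_iff.1 (cent_le_centralizer hb) a ha

theorem commutator_U_le (h : Hyp M U W₁ W₂ H₀ p q) : ⁅U, U⁆ ≤ cent M U := by
  have hfin := h.finite
  exact le_inf (Subgroup.commutator_le_self U) (TypeP.commutator_U_le h.typeP)

theorem cent_ne (h : Hyp M U W₁ W₂ H₀ p q) : cent M U ≠ U := by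
  have hfin := h.finite
  intro heq
  refine h.U_ne (U_eq_bot_of_le_centralizer h.typeP ?_)
  rw [← inf_eq_left]
  exact heq

/-- `F(M) = H × C`. -/
theorem fittingOf_eq (h : Hyp M U W₁ W₂ H₀ p q) : fittingOf M = fittingHallOf M ⊔ cent M U := by
  have hfin := h.finite
  exact TypeP.fittingOf_eq h.typeP

/-- `M'' ≤ H C`. -/
theorem derived_two_le (h : Hyp M U W₁ W₂ H₀ p q) :
    ⁅⁅M, M⁆, ⁅M, M⁆⁆ ≤ fittingHallOf M ⊔ cent M U := by
  rw [← fittingOf_eq h]
  exact TypeP.derived_two_le_fitting h.typeP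

/-- an element of `U` acting trivially on `H/H₀` lies in `C` -/
theorem mem_cent (h : Hyp M U W₁ W₂ H₀ p q) (x : G) (hx : x ∈ U)
    (hc : ∀ y ∈ fittingHallOf M, x * y * x⁻¹ * y⁻¹ ∈ H₀) : x ∈ cent M U := by
  have hfin := h.finite
  refine ⟨hx, ?_⟩
  show x ∈ Subgroup.centralizer _
  rw [Subgroup.mem_centralizer_iff]
  intro y hy
  have hcop : (orderOf x).Coprime (Nat.card (fittingHallOf M)) := by
    refine Nat.Coprime.coprime_dvd_left ?_ (coprime_HU h).symm
    exact Cfsg.Agent.Lib.CoprimeStab.orderOf_dvd_natCard_of_mem hx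
  have h1 : ⁅y, x⁆ ∈ H₀ := by
    have h2 := H₀.inv_mem (hc y hy)
    have h3 : (x * y * x⁻¹ * y⁻¹)⁻¹ = ⁅y, x⁆ := by rw [commutatorElement_def]; group
    rwa [h3] at h2
  refine Cfsg.Agent.Lib.CoprimeStab.commute_of_commutator_commute hcop (h.H₀_le h1) ?_
  exact (Subgroup.mem_centralizer_iff.1 (U_le_centralizer h hx) _ h1)

/-- `C` is normal in `M`. -/
theorem cent_conj (h : Hyp M U W₁ W₂ H₀ p q) : ∀ x ∈ M, ∀ y ∈ cent M U, x * y * x⁻¹ ∈ cent M U := by
  have hfin := h.finite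
  -- `C_M(H)` is normal in `M`
  have hcen : ∀ x ∈ M, ∀ y ∈ Subgroup.centralizer (fittingHallOf M : Set G),
      x * y * x⁻¹ ∈ Subgroup.centralizer (fittingHallOf M : Set G) := by
    intro x hx y hy
    rw [Subgroup.mem_centralizer_iff] at hy ⊢
    intro z hz
    have h1 := hy _ (H_conj M x⁻¹ (M.inv_mem hx) z hz)
    have h2 : z * (x * y * x⁻¹) = x * (x⁻¹ * z * x⁻¹⁻¹ * y) * x⁻¹ := by group
    rw [h2, h1]; group
  have hle : M ≤ Subgroup.normalizer (cent M U : Set G) := by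
    refine (sup_W₁ h).ge.trans (sup_le ((sup_U h).ge.trans (sup_le ?_ ?_)) ?_)
    · refine le_normalizer_of_conj fun x hx y hy => ?_
      have h1 : x * y * x⁻¹ = y := by rw [cent_comm x hx y hy]; group
      rw [h1]
      exact hy
    · refine le_normalizer_of_conj fun x hx y hy => ?_
      exact ⟨U.mul_mem (U.mul_mem hx hy.1) (U.inv_mem hx), hcen x (U_le_M h hx) y hy.2⟩
    · refine le_normalizer_of_conj fun x hx y hy => ?_
      exact ⟨PF9.Three.conj_mem_U h.typeP x hx y hy.1, hcen x (W₁_le_M h hx) y hy.2⟩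
  exact fun x hx y hy => (Subgroup.mem_normalizer_iff.1 (hle hx) y).1 hy

theorem normal_cent (h : Hyp M U W₁ W₂ H₀ p q) (N : Subgroup G) (_hN : N ≤ fittingHallOf M)
    (hNn : ∀ x ∈ M, ∀ y ∈ N, x * y * x⁻¹ ∈ N) : ∀ x ∈ M, ∀ y ∈ N ⊔ cent M U, x * y * x⁻¹ ∈ N ⊔ cent M U :=
  fun x hx => sup_conj_of (hNn x hx) (cent_conj h x hx)

theorem card_sup_cent (h : Hyp M U W₁ W₂ H₀ p q) {N : Subgroup G} (hN : N ≤ fittingHallOf M) :
    Nat.card ↥(N ⊔ cent M U) = Nat.card N * Nat.card (cent M U) := by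
  have hfin := h.finite
  refine CommProd.card_sup_of_comm (fun a ha b hb => cent_comm a (hN ha) b hb) ?_
  rw [eq_bot_iff, ← inf_U h]
  exact inf_le_inf hN cent_le_U

theorem HC_le (h : Hyp M U W₁ W₂ H₀ p q) : fittingHallOf M ⊔ cent M U ≤ ⁅M, M⁆ :=
  sup_le (H_le h) (cent_le_U.trans (U_le h))

theorem card_derived (h : Hyp M U W₁ W₂ H₀ p q) :
    Nat.card ↥⁅M, M⁆ = Nat.card (fittingHallOf M) * Nat.card U :=
  FittingHall.card_of_isComplIn h.typeP.U_compl

theorem relIndex_HC (h : Hyp M U W₁ W₂ H₀ p q) :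
    (fittingHallOf M ⊔ cent M U).relIndex ⁅M, M⁆ = (cent M U).relIndex U := by
  have hfin := h.finite
  have h1 := relIndex_mul_card_of_le (HC_le h)
  have h2 := relIndex_mul_card_of_le (cent_le_U : cent M U ≤ U)
  rw [card_sup_cent h le_rfl, card_derived h, ← h2] at h1
  have h3 : 0 < Nat.card (fittingHallOf M) * Nat.card (cent M U) := Nat.mul_pos Nat.card_pos Nat.card_pos
  apply Nat.eq_of_mul_eq_mul_right h3
  rw [h1]; ring

theorem relIndex_H₀C (h : Hyp M U W₁ W₂ H₀ p q) :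
    (H₀ ⊔ cent M U).relIndex (fittingHallOf M ⊔ cent M U) = p ^ q := by
  have hfin := h.finite
  have h1 := relIndex_mul_card_of_le (sup_le_sup_right h.H₀_le (cent M U))
  rw [card_sup_cent h le_rfl, card_sup_cent h h.H₀_le, card_H h] at h1
  have h3 : 0 < Nat.card H₀ * Nat.card (cent M U) := Nat.mul_pos Nat.card_pos Nat.card_pos
  apply Nat.eq_of_mul_eq_mul_right h3
  rw [h1]; ring

theorem modEq_two_mul {n : ℕ} (hn : Odd n) (hq : Odd q) (hnq : n ≡ 1 [MOD q]) :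
    n ≡ 1 [MOD (2 * q)] := by
  have h1 : Nat.Coprime 2 q := Nat.coprime_two_left.2 hq
  refine (Nat.modEq_and_modEq_iff_modEq_mul h1).1 ⟨?_, hnq⟩
  exact Nat.odd_iff.1 hn

theorem odd_relIndex (h : Hyp M U W₁ W₂ H₀ p q) (D N : Subgroup G) : Odd (D.relIndex N) := by
  have hfin := h.finite
  exact (odd_card h N).of_dvd_nat (Subgroup.relIndex_dvd_card D N)

/-- `W₁` acts without fixed points on every section `N/D` of `M'` (`D`, `N` invariant under `W₁`, `D ⊲ N`)
with `N ∩ W₂ ≤ D` -/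
theorem relIndex_modEq_aux (h : Hyp M U W₁ W₂ H₀ p q) (D N : Subgroup G) (hDN : D ≤ N)
    (hN : N ≤ ⁅M, M⁆) (hW : N ⊓ W₂ ≤ D) (hND : ∀ x ∈ N, ∀ y ∈ D, x * y * x⁻¹ ∈ D)
    (hDn : ∀ x ∈ W₁, ∀ y ∈ D, x * y * x⁻¹ ∈ D)
    (hNn : ∀ x ∈ W₁, ∀ y ∈ N, x * y * x⁻¹ ∈ N) :
    D.relIndex N ≡ 1 [MOD (2 * q)] := by
  have hfin := h.finite
  have hqF : Fact q.Prime := ⟨h.q_prime⟩
  refine modEq_two_mul (odd_relIndex h D N) (q_odd h) ?_
  have hA : IsPGroup q W₁ := IsPGroup.of_card (n := 1) (by rw [pow_one, h.card_W₁])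
  refine relIndex_modEq_of_fixed hA hNn hDn ?_
  intro x hx hfix
  have hcop : (Nat.card W₁).Coprime (Nat.card N) := by
    rw [h.card_W₁]
    exact (Nat.Coprime.coprime_dvd_left (Subgroup.card_dvd_of_le hN) (coprime_W₁ h)).symm
  have hsol : Group.IsSolvable W₁ := by
    have := h.typeP.W₁_cyclic
    let _ : CommGroup W₁ := IsCyclic.commGroup
    infer_instance
  obtain ⟨c, hc, hxc⟩ := Cfsg.Agent.S0022.result W₁ N (le_normalizer_of_conj hNn) hcop (Or.inl hsol)
    D hDN (le_normalizer_of_conj hND) (le_normalizer_of_conj hDn) x hx (fun a ha => by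
      have h1 := hND x hx _ (hfix a ha)
      have h2 : x * (x⁻¹ * (a * x * a⁻¹)) * x⁻¹ = a * x * a⁻¹ * x⁻¹ := by group
      rwa [h2] at h1)
  have h1 : c ∈ D := by
    apply hW
    refine ⟨hc.1, ?_⟩
    obtain ⟨w, hw⟩ := Subgroup.ne_bot_iff_exists_ne_one.1 h.typeP.W₁_ne
    have hw1 : (w : G) ≠ 1 := fun h => hw (Subtype.ext h)
    rw [← h.typeP.W₂_centralizer w w.2 hw1]
    refine ⟨hN hc.1, ?_⟩
    show c ∈ Subgroup.centralizer _
    rw [Subgroup.mem_centralizer_singleton_iff]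
    exact (Subgroup.mem_centralizer_iff.1 hc.2 w w.2).symm
  have h2 : x = c * (x⁻¹ * c)⁻¹ := by group
  rw [h2]
  exact D.mul_mem h1 (D.inv_mem hxc)

/-- `W₁` acts without fixed points on every section `N/D` of `M'` with `W₂ ≤ D` -/
theorem relIndex_modEq (h : Hyp M U W₁ W₂ H₀ p q) (D N : Subgroup G) (hDN : D ≤ N) (hN : N ≤ ⁅M, M⁆)
    (hW : W₂ ≤ D) (hDn : ∀ x ∈ M, ∀ y ∈ D, x * y * x⁻¹ ∈ D) (hNn : ∀ x ∈ M, ∀ y ∈ N, x * y * x⁻¹ ∈ N) :
    D.relIndex N ≡ 1 [MOD (2 * q)] :=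
  relIndex_modEq_aux h D N hDN hN (inf_le_right.trans hW)
    (fun x hx => hDn x ((hN.trans (Subgroup.commutator_le_self M)) hx))
    (fun x hx => hDn x (W₁_le_M h hx)) (fun x hx => hNn x (W₁_le_M h hx))

/-- `u = #U/C ≡ 1 mod q` (and u is odd, u ≠ 1, so u ≥ 2q + 1) -/
theorem u_modEq (h : Hyp M U W₁ W₂ H₀ p q) : (cent M U).relIndex U ≡ 1 [MOD (2 * q)] := by
  have hfin := h.finite
  rw [← relIndex_HC h]
  exact relIndex_modEq h _ _ (HC_le h) le_rfl ((W₂_le h).trans le_sup_left)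
    (normal_cent h _ le_rfl (H_conj M)) (commutator_conj M)

theorem u_gt (h : Hyp M U W₁ W₂ H₀ p q) : 2 * q + 1 ≤ (cent M U).relIndex U := by
  have hfin := h.finite
  have h1 := u_modEq h
  have h2 : (cent M U).relIndex U ≠ 1 := by
    rw [Ne, Subgroup.relIndex_eq_one]
    exact fun h3 => cent_ne h (le_antisymm cent_le_U h3)
  have h3 : (cent M U).relIndex U ≠ 0 := (Subgroup.index_ne_zero_of_finite)
  have h4 : 1 ≤ (cent M U).relIndex U := Nat.one_le_iff_ne_zero.2 h3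
  have h5 : 2 * q ∣ (cent M U).relIndex U - 1 := (Nat.modEq_iff_dvd' h4).1 h1.symm
  have h6 := Nat.le_of_dvd (by omega) h5
  omega

end Cfsg.Agent.OddOrderCharacters.PF11.Basic
end

-- part: OddOrderCharacters/PF11/Bound
section
/-!
# Peterfalvi (11.1)
-/

set_option autoImplicit false

namespace Cfsg.Agent.OddOrderCharacters.PF11.Bound

theorem three_pow_gt {q : ℕ} (hq : 5 ≤ q) : 4 * q ^ 2 + 1 < 3 ^ q := by
  induction q, hq using Nat.le_induction with
  | base => norm_num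
  | succ n hn ih =>
    have h : 3 ^ (n + 1) = 3 * 3 ^ n := by ring
    rw [h]
    nlinarith

theorem five_pow_gt {q : ℕ} (hq : 3 ≤ q) : 4 * q ^ 2 + 1 < 5 ^ q := by
  induction q, hq using Nat.le_induction with
  | base => norm_num
  | succ n hn ih =>
    have h : 5 ^ (n + 1) = 5 * 5 ^ n := by ring
    rw [h]
    nlinarith

/-- Peterfalvi (11.1): `4 q² + 1 < p ^ q` for distinct odd primes `p`, `q`. -/
theorem lbound_expn_odd_prime {p q : ℕ} (hp : p.Prime) (hq : q.Prime) (hpo : Odd p) (hqo : Odd q)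
    (h : p ≠ q) : 4 * q ^ 2 + 1 < p ^ q := by
  have hp3 : 3 ≤ p := by
    have := hp.two_le
    rcases hpo with ⟨k, hk⟩
    omega
  have hq3 : 3 ≤ q := by
    have := hq.two_le
    rcases hqo with ⟨k, hk⟩
    omega
  rcases eq_or_lt_of_le hp3 with h3 | h3
  · subst h3
    have : 5 ≤ q := by
      rcases hqo with ⟨k, hk⟩
      omega
    exact three_pow_gt this
  · have hp5 : 5 ≤ p := by
      rcases hpo with ⟨k, hk⟩
      omega
    exact lt_of_lt_of_le (five_pow_gt hq3) (Nat.pow_le_pow_left hp5 q)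

end Cfsg.Agent.OddOrderCharacters.PF11.Bound
end

-- part: OddOrderCharacters/PF11/Bounds34
section
/-!
# Abstract forms of Peterfalvi (11.3) and (11.4)
-/

set_option autoImplicit false

open Cfsg

namespace Cfsg.Agent.OddOrderCharacters.PF11.Bounds34

universe u v

variable {L : Type u} [Group L] [Fintype L] {G : Type v} [Group G] [Fintype G]

/-- Contrapositive form of (6.2) with `C = D`: if `S(A)` is coherent, `S(B)` is not, and `C / B` is
abelian, then `|K : A| ≤ 2 |L : C| + 1`. -/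
theorem relIndex_le_of_not_coherent (K : Subgroup L) [hK : K.Normal]
    (hsolv : Group.IsSolvable K) (τ : (L → ℂ) → (G → ℂ)) (R : (L → ℂ) → Finset (G → ℂ))
    (hS : IsCoherenceSystem (inducedIrrAbove K ⊥) τ R) (A B C : Subgroup L)
    [A.Normal] [B.Normal] [C.Normal] (hAK : A < K) (hBK : B < K) (hBC : B ≤ C) (hCK : C ≤ K)
    (hab : ∀ x ∈ C, ∀ y ∈ C, x * y * x⁻¹ * y⁻¹ ∈ B)
    (hA : IsCoherent (inducedIrrAbove K A) {1}ᶜ τ)
    (hB : ¬ IsCoherent (inducedIrrAbove K B) {1}ᶜ τ) :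
    A.relIndex K ≤ 2 * C.index + 1 := by
  by_contra hcon
  push Not at hcon
  apply hB
  refine S1519.result K hsolv τ R hS A B C C hAK hBK hBC le_rfl hCK hab hA ?_
  rw [Subgroup.relIndex_self, mul_one]
  have h1 : 2 * C.index < A.relIndex K - 1 := by omega
  calc 4 * C.index ^ 2 = (2 * C.index) ^ 2 := by ring
    _ < (A.relIndex K - 1) ^ 2 := Nat.pow_lt_pow_left h1 two_ne_zero

end Cfsg.Agent.OddOrderCharacters.PF11.Bounds34
end

-- part: OddOrderCharacters/PF11/Noncoherence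
section
/-!
# Peterfalvi (11.3) and (11.4)
-/

set_option autoImplicit false

open Cfsg Cfsg.Agent.OddOrderCharacters.PFDefs Cfsg.Agent.OddOrderCharacters.PF11.Defs

namespace Cfsg.Agent.OddOrderCharacters.PF11.Noncoherence

universe u

variable {G : Type u} [Group G] {M U W₁ W₂ H₀ : Subgroup G} {p q : ℕ}

theorem normal_subgroupOf {M N : Subgroup G} (h : ∀ x ∈ M, ∀ y ∈ N, x * y * x⁻¹ ∈ N) :
    (N.subgroupOf M).Normal :=
  ⟨fun y hy x => h x x.2 y hy⟩

theorem U_le (h : Hyp M U W₁ W₂ H₀ p q) : U ≤ ⁅M, M⁆ := h.typeP.U_compl.2.1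

theorem fittingHallOf_le_derived (h : Hyp M U W₁ W₂ H₀ p q) : fittingHallOf M ≤ ⁅M, M⁆ :=
  h.typeP.U_compl.1

theorem cent_le_U (M U : Subgroup G) : cent M U ≤ U := inf_le_left

theorem HC_le (h : Hyp M U W₁ W₂ H₀ p q) : fittingHallOf M ⊔ cent M U ≤ ⁅M, M⁆ :=
  sup_le (fittingHallOf_le_derived h) ((cent_le_U M U).trans (U_le h))

theorem H₀C_le_HC (h : Hyp M U W₁ W₂ H₀ p q) :
    H₀ ⊔ cent M U ≤ fittingHallOf M ⊔ cent M U := sup_le_sup_right h.H₀_le _

theorem derived_le (M : Subgroup G) : ⁅M, M⁆ ≤ M := TypeSetsBasic.commutator_le_self M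

theorem normal_derived (M : Subgroup G) : (⁅M, M⁆.subgroupOf M).Normal :=
  normal_subgroupOf fun _ hx _ hy => TypeSetsBasic.commutator_conj_mem hx hy

/-- `HC ≤ F(M)`. -/
theorem HC_le_fittingOf (h : Hyp M U W₁ W₂ H₀ p q) :
    fittingHallOf M ⊔ cent M U ≤ fittingOf M := by
  rw [← h.typeP.fitting_eq]
  refine sup_le_sup_left (le_inf ?_ inf_le_right) _
  exact (cent_le_U M U).trans ((U_le h).trans (derived_le M))

/-- `HC` is nilpotent, as a subgroup of `M`. -/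
theorem HC_nilpotent (h : Hyp M U W₁ W₂ H₀ p q) :
    Group.IsNilpotent ↥((fittingHallOf M ⊔ cent M U).subgroupOf M) := by
  have := h.finite
  have hF := Lib.Cores.fittingSubgroup_isNilpotent (G := ↥M)
  have hle : (fittingHallOf M ⊔ cent M U).subgroupOf M ≤ fittingSubgroup M := by
    intro x hx
    have hx' : (x : G) ∈ fittingOf M := HC_le_fittingOf h hx
    obtain ⟨y, hy, hyx⟩ := hx'
    have : y = x := Subtype.ext hyx
    rwa [← this]
  exact (Group.isNilpotent_congr (Subgroup.subgroupOfEquivOfLe hle)).1 inferInstance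

/-- `x ∈ HC` is a product `a c` with `a ∈ H`, `c ∈ C`; here for arbitrary commuting subgroups. -/
theorem exists_mul_of_mem_sup {A C : Subgroup G} (hcomm : ∀ a ∈ A, ∀ c ∈ C, c * a = a * c) :
    ∀ x ∈ A ⊔ C, ∃ a ∈ A, ∃ c ∈ C, x = a * c := by
  let S : Subgroup G :=
    { carrier := {x | ∃ a ∈ A, ∃ c ∈ C, x = a * c}
      one_mem' := ⟨1, one_mem _, 1, one_mem _, by simp⟩
      mul_mem' := by
        rintro x y ⟨a, ha, c, hc, rfl⟩ ⟨b, hb, d, hd, rfl⟩
        refine ⟨a * b, mul_mem ha hb, c * d, mul_mem hc hd, ?_⟩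
        have := hcomm b hb c hc
        calc a * c * (b * d) = a * (c * b) * d := by group
          _ = a * (b * c) * d := by rw [this]
          _ = a * b * (c * d) := by group
      inv_mem' := by
        rintro x ⟨a, ha, c, hc, rfl⟩
        refine ⟨a⁻¹, inv_mem ha, c⁻¹, inv_mem hc, ?_⟩
        rw [mul_inv_rev]
        exact hcomm _ (inv_mem ha) _ (inv_mem hc) }
  have hle : A ⊔ C ≤ S := sup_le (fun a ha => ⟨a, ha, 1, one_mem _, by simp⟩)
    (fun c hc => ⟨1, one_mem _, c, hc, by simp⟩)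
  exact fun x hx => hle hx

/-- `HC / H₀C` is abelian. -/
theorem commutator_HC (h : Hyp M U W₁ W₂ H₀ p q) :
    ∀ x ∈ fittingHallOf M ⊔ cent M U, ∀ y ∈ fittingHallOf M ⊔ cent M U,
      x * y * x⁻¹ * y⁻¹ ∈ H₀ ⊔ cent M U := by
  have hcomm : ∀ a ∈ fittingHallOf M, ∀ c ∈ cent M U, c * a = a * c := by
    intro a ha c hc
    exact (Subgroup.mem_centralizer_iff.1 hc.2 a ha).symm
  have hdec := exists_mul_of_mem_sup hcomm
  intro x hx y hy
  obtain ⟨a, ha, c, hc, rfl⟩ := hdec x hx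
  obtain ⟨b, hb, d, hd, rfl⟩ := hdec y hy
  have e1 : c * b = b * c := hcomm b hb c hc
  have e2 : c * d * c⁻¹ * a⁻¹ = a⁻¹ * (c * d * c⁻¹) :=
    hcomm _ (inv_mem ha) _ (mul_mem (mul_mem hc hd) (inv_mem hc))
  have e3 : (c * d * c⁻¹ * d⁻¹) * b⁻¹ = b⁻¹ * (c * d * c⁻¹ * d⁻¹) :=
    hcomm _ (inv_mem hb) _ (mul_mem (mul_mem (mul_mem hc hd) (inv_mem hc)) (inv_mem hd))
  have h1 : a * c * (b * d) * (a * c)⁻¹ * (b * d)⁻¹ =
      (a * b * a⁻¹ * b⁻¹) * (c * d * c⁻¹ * d⁻¹) := by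
    calc a * c * (b * d) * (a * c)⁻¹ * (b * d)⁻¹
        = a * (c * b) * (d * c⁻¹ * a⁻¹ * d⁻¹) * b⁻¹ := by group
      _ = a * (b * c) * (d * c⁻¹ * a⁻¹ * d⁻¹) * b⁻¹ := by rw [e1]
      _ = a * b * (c * d * c⁻¹ * a⁻¹) * d⁻¹ * b⁻¹ := by group
      _ = a * b * (a⁻¹ * (c * d * c⁻¹)) * d⁻¹ * b⁻¹ := by rw [e2]
      _ = a * b * a⁻¹ * ((c * d * c⁻¹ * d⁻¹) * b⁻¹) := by group
      _ = a * b * a⁻¹ * (b⁻¹ * (c * d * c⁻¹ * d⁻¹)) := by rw [e3]
      _ = _ := by group
  rw [h1]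
  refine mul_mem (Subgroup.mem_sup_left (Basic.commutator_le_H₀ h ?_)) (Subgroup.mem_sup_right
    (mul_mem (mul_mem (mul_mem hc hd) (inv_mem hc)) (inv_mem hd)))
  exact Subgroup.commutator_mem_commutator ha hb

variable [Fintype G] [Fintype ↥M]

/-- Peterfalvi (11.3). -/
theorem FTtype34_noncoherence (h : Hyp M U W₁ W₂ H₀ p q)
    (τ : (↥M → ℂ) → (G → ℂ)) (R : (↥M → ℂ) → Finset (G → ℂ))
    (hS : IsCoherenceSystem (inducedIrrAbove (⁅M, M⁆.subgroupOf M) ⊥) τ R)
    (h8 : ¬ IsCoherent (inducedIrrAbove (⁅M, M⁆.subgroupOf M) ⊥) {1}ᶜ τ) :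
    ¬ IsCoherent (inducedIrrAbove (⁅M, M⁆.subgroupOf M) ((H₀ ⊔ cent M U).subgroupOf M)) {1}ᶜ τ := by
  intro hcoh
  apply h8
  have := h.solvable
  have := normal_derived M
  have : ((H₀ ⊔ cent M U).subgroupOf M).Normal :=
    normal_subgroupOf (Basic.normal_cent h H₀ h.H₀_le h.H₀_normal)
  have : ((fittingHallOf M ⊔ cent M U).subgroupOf M).Normal :=
    normal_subgroupOf (Basic.normal_cent h _ le_rfl
      (fun _ hx _ hy => TypeSetsBasic.fittingHallOf_conj_mem hx hy))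
  have hHCM : fittingHallOf M ⊔ cent M U ≤ M := (HC_le h).trans (derived_le M)
  have hnil := HC_nilpotent h
  refine S1520.result (⁅M, M⁆.subgroupOf M) inferInstance τ R hS ⊥
    ((H₀ ⊔ cent M U).subgroupOf M) ((fittingHallOf M ⊔ cent M U).subgroupOf M) bot_le
    (fun x hx => H₀C_le_HC h hx) (fun x hx => HC_le h hx) inferInstance hcoh ?_
  have h1 : (⁅M, M⁆.subgroupOf M).index = q := Basic.index_W₁ h
  rw [h1, Subgroup.relIndex_subgroupOf hHCM, Basic.relIndex_H₀C h]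
  exact Bound.lbound_expn_odd_prime h.p_prime h.q_prime (Basic.p_odd h) (Basic.q_odd h)
    (Basic.p_ne_q h)

/-- Peterfalvi (11.4). -/
theorem bounded_proper_coherent (h : Hyp M U W₁ W₂ H₀ p q)
    (τ : (↥M → ℂ) → (G → ℂ)) (R : (↥M → ℂ) → Finset (G → ℂ))
    (hS : IsCoherenceSystem (inducedIrrAbove (⁅M, M⁆.subgroupOf M) ⊥) τ R)
    (h8 : ¬ IsCoherent (inducedIrrAbove (⁅M, M⁆.subgroupOf M) ⊥) {1}ᶜ τ)
    (H₁ : Subgroup ↥M) [H₁.Normal] (hlt : H₁ < ⁅M, M⁆.subgroupOf M)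
    (hcoh : IsCoherent (inducedIrrAbove (⁅M, M⁆.subgroupOf M) H₁) {1}ᶜ τ) :
    H₁.relIndex (⁅M, M⁆.subgroupOf M) ≤ 2 * q * (cent M U).relIndex U + 1 := by
  have := h.solvable
  have := normal_derived M
  have : ((H₀ ⊔ cent M U).subgroupOf M).Normal :=
    normal_subgroupOf (Basic.normal_cent h H₀ h.H₀_le h.H₀_normal)
  have : ((fittingHallOf M ⊔ cent M U).subgroupOf M).Normal :=
    normal_subgroupOf (Basic.normal_cent h _ le_rfl
      (fun _ hx _ hy => TypeSetsBasic.fittingHallOf_conj_mem hx hy))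
  have hHCM : fittingHallOf M ⊔ cent M U ≤ M := (HC_le h).trans (derived_le M)
  have hne : (H₀ ⊔ cent M U).subgroupOf M < ⁅M, M⁆.subgroupOf M := by
    refine lt_of_le_of_ne (fun x hx => HC_le h (H₀C_le_HC h hx)) ?_
    intro heq
    have h1 := Basic.relIndex_H₀C h
    have h2 : (H₀ ⊔ cent M U).relIndex (fittingHallOf M ⊔ cent M U) = 1 := by
      rw [Subgroup.relIndex_eq_one]
      intro x hx
      have hxM : x ∈ M := hHCM hx
      have h3 : (⟨x, hxM⟩ : M) ∈ (H₀ ⊔ cent M U).subgroupOf M := by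
        rw [heq]; exact HC_le h hx
      exact h3
    rw [h2] at h1
    exact absurd h1.symm (Nat.one_lt_pow h.q_prime.ne_zero h.p_prime.one_lt).ne'
  have h1 := Bounds34.relIndex_le_of_not_coherent (⁅M, M⁆.subgroupOf M) inferInstance τ R hS H₁
    ((H₀ ⊔ cent M U).subgroupOf M) ((fittingHallOf M ⊔ cent M U).subgroupOf M) hlt hne
    (fun x hx => H₀C_le_HC h hx) (fun x hx => HC_le h hx)
    (fun x hx y hy => commutator_HC h x hx y hy) hcoh (FTtype34_noncoherence h τ R hS h8)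
  have h2 : ((fittingHallOf M ⊔ cent M U).subgroupOf M).index = (cent M U).relIndex U * q := by
    rw [← Basic.relIndex_HC h, ← Basic.index_W₁ h,
      Subgroup.relIndex_mul_relIndex _ _ _ (HC_le h) (derived_le M)]
    rfl
  rw [h2] at h1
  calc _ ≤ 2 * ((cent M U).relIndex U * q) + 1 := h1
    _ = 2 * q * (cent M U).relIndex U + 1 := by ring

end Cfsg.Agent.OddOrderCharacters.PF11.Noncoherence
end

-- part: OddOrderCharacters/PF11/Der2
section
/-!
# Peterfalvi (11.5): `M'' = HC`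
-/

set_option autoImplicit false

open Cfsg Cfsg.Agent.OddOrderCharacters.PFDefs Cfsg.Agent.OddOrderCharacters.PF11.Defs

namespace Cfsg.Agent.OddOrderCharacters.PF11.Der2

universe u

/-- An irreducible character whose kernel contains all commutators is linear. -/
theorem apply_one_of_commutator {K : Type*} [Group K] [Finite K] {θ : K → ℂ}
    (hθ : IsIrrCharacter K θ) (B : Subgroup K) (hB : ∀ x y : K, x * y * x⁻¹ * y⁻¹ ∈ B)
    (hker : ∀ b ∈ B, θ b = θ 1) : θ 1 = 1 := by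
  have hBn : ∀ c : K, ∀ b ∈ B, c * b * c⁻¹ ∈ B := by
    intro c b hb
    have := B.mul_mem (hB c b) hb
    simpa [mul_assoc] using this
  have h1 := Cfsg.Agent.S1492.result θ hθ B ⊤ ⊤ le_top le_rfl (fun c _ b hb => hBn c b hb)
    (fun x _ y _ => hB x y) hker
  obtain ⟨n, hn0, hn⟩ := Characters.Core.isIrr_apply_one hθ
  rw [hn, Complex.norm_natCast, Subgroup.card_top] at h1
  have hK : (0 : ℝ) < Nat.card K := by exact_mod_cast Nat.card_pos
  have h2 : ((n : ℝ)) ^ 2 ≤ 1 := by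
    have h3 : (n : ℝ) ^ 2 * ((Nat.card K : ℝ) ^ 2) ≤ 1 * (Nat.card K : ℝ) ^ 2 := by
      nlinarith
    exact le_of_mul_le_mul_right h3 (by positivity)
  have h4 : n ^ 2 ≤ 1 := by exact_mod_cast h2
  have h5 : n = 1 := by nlinarith
  rw [hn, h5, Nat.cast_one]

variable {G : Type u} [Group G] {M U W₁ W₂ H₀ : Subgroup G} {p q : ℕ}

/-- `M'' ≤ HC`. -/
theorem derived_two_le (h : Hyp M U W₁ W₂ H₀ p q) :
    ⁅⁅M, M⁆, ⁅M, M⁆⁆ ≤ fittingHallOf M ⊔ cent M U := by
  have := h.finite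
  refine h.typeP.derived_two_le.trans ?_
  rw [h.typeP.fitting_eq, OddOrderLocal.TypeP.fittingOf_eq h.typeP]
  exact le_rfl

theorem conj_mem_commutator_commutator {M : Subgroup G} :
    ∀ x ∈ M, ∀ y ∈ ⁅⁅M, M⁆, ⁅M, M⁆⁆, x * y * x⁻¹ ∈ ⁅⁅M, M⁆, ⁅M, M⁆⁆ := by
  intro x hx y hy
  have hn : ⁅M, M⁆.map (MulAut.conj x).toMonoidHom ≤ ⁅M, M⁆ := by
    rintro _ ⟨z, hz, rfl⟩
    exact TypeSetsBasic.commutator_conj_mem hx hz
  have h1 : ⁅⁅M, M⁆, ⁅M, M⁆⁆.map (MulAut.conj x).toMonoidHom ≤ ⁅⁅M, M⁆, ⁅M, M⁆⁆ := by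
    rw [Subgroup.map_commutator]
    exact Subgroup.commutator_mono hn hn
  exact h1 ⟨y, hy, rfl⟩

/-- `M'' < M'`. -/
theorem derived_two_lt (h : Hyp M U W₁ W₂ H₀ p q) : ⁅⁅M, M⁆, ⁅M, M⁆⁆ < ⁅M, M⁆ := by
  have := h.finite
  refine lt_of_le_of_ne (TypeSetsBasic.commutator_le_self _) ?_
  intro heq
  have h1 := (derived_two_le h).trans (Noncoherence.HC_le h)
  have h2 : fittingHallOf M ⊔ cent M U = ⁅M, M⁆ :=
    le_antisymm (Noncoherence.HC_le h) (by rw [← heq]; exact derived_two_le h)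
  have h3 := Basic.relIndex_HC h
  rw [h2, Subgroup.relIndex_self] at h3
  have h4 := Basic.u_gt h
  have h5 := h.q_prime.pos
  omega

variable [Fintype G] [Fintype ↥M]

/-- Peterfalvi (11.5). -/
theorem FTtype34_der2 (h : Hyp M U W₁ W₂ H₀ p q)
    (τ : (↥M → ℂ) → (G → ℂ)) (R : (↥M → ℂ) → Finset (G → ℂ))
    (hS : IsCoherenceSystem (inducedIrrAbove (⁅M, M⁆.subgroupOf M) ⊥) τ R)
    (h8 : ¬ IsCoherent (inducedIrrAbove (⁅M, M⁆.subgroupOf M) ⊥) {1}ᶜ τ) :
    ⁅⁅M, M⁆, ⁅M, M⁆⁆ = fittingHallOf M ⊔ cent M U := by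
  have := h.finite
  have := h.solvable
  have := Noncoherence.normal_derived M
  set D : Subgroup G := ⁅⁅M, M⁆, ⁅M, M⁆⁆ with hD
  have hDn : (D.subgroupOf M).Normal :=
    Noncoherence.normal_subgroupOf conj_mem_commutator_commutator
  have hDM' : D ≤ ⁅M, M⁆ := (derived_two_lt h).le
  have hM'M : ⁅M, M⁆ ≤ M := Noncoherence.derived_le M
  have hlt : D.subgroupOf M < ⁅M, M⁆.subgroupOf M := by
    refine lt_of_le_of_ne (fun x hx => hDM' hx) ?_
    intro heq
    apply (derived_two_lt h).ne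
    apply le_antisymm hDM'
    intro x hx
    have h3 : (⟨x, hM'M hx⟩ : M) ∈ D.subgroupOf M := by
      rw [heq]; exact hx
    exact h3
  have hsolvK : Group.IsSolvable ↥(⁅M, M⁆.subgroupOf M) := inferInstance
  -- the induced characters with `M''` in the kernel all have degree `q`
  have hdeg : ∀ φ ∈ inducedIrrAbove (⁅M, M⁆.subgroupOf M) (D.subgroupOf M),
      φ 1 = ((⁅M, M⁆.subgroupOf M).index : ℂ) := by
    rintro φ ⟨θ, hθ, -, hker, rfl⟩
    rw [IndRes.indFun_apply_one]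
    have h1 : θ 1 = 1 := by
      apply apply_one_of_commutator hθ ((D.subgroupOf M).subgroupOf (⁅M, M⁆.subgroupOf M))
      · intro x y
        show ((x * y * x⁻¹ * y⁻¹ : ↥(⁅M, M⁆.subgroupOf M)) : ↥M).1 ∈ D
        exact Subgroup.commutator_mem_commutator x.2 y.2
      · intro b hb
        exact hker b hb
    rw [h1, mul_one]
  have hne := SystemRestrict.inducedIrrAbove_nonempty hlt hsolvK
  have hS' : IsCoherenceSystem (inducedIrrAbove (⁅M, M⁆.subgroupOf M) (D.subgroupOf M)) τ R :=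
    SystemRestrict.isCoherenceSystem_subset hS
      (SystemRestrict.inducedIrrAbove_mono _ bot_le) hne
      (fun χ hχ => SystemRestrict.conjFun_mem_inducedIrrAbove hχ)
  have hcoh := Cfsg.Agent.S1517.result _ τ R hS'
    (fun φ hφ ψ hψ => by rw [hdeg φ hφ, hdeg ψ hψ])
  have hbd := Noncoherence.bounded_proper_coherent h τ R hS h8 (D.subgroupOf M) hlt hcoh
  rw [Subgroup.relIndex_subgroupOf hM'M] at hbd
  have hmod := Basic.relIndex_modEq h D (fittingHallOf M ⊔ cent M U) (derived_two_le h)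
    (Noncoherence.HC_le h) ((h.typeP.W₂_le).trans inf_le_right) conj_mem_commutator_commutator
    (Basic.normal_cent h _ le_rfl (fun _ hx _ hy => TypeSetsBasic.fittingHallOf_conj_mem hx hy))
  have hprod := Subgroup.relIndex_mul_relIndex D (fittingHallOf M ⊔ cent M U) ⁅M, M⁆
    (derived_two_le h) (Noncoherence.HC_le h)
  rw [Basic.relIndex_HC h] at hprod
  have hu := Basic.u_gt h
  have hq := h.q_prime.two_le
  -- the index is one
  have hone : D.relIndex (fittingHallOf M ⊔ cent M U) = 1 := by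
    by_contra hne1
    set m := D.relIndex (fittingHallOf M ⊔ cent M U) with hm
    have hm0 : m ≠ 0 := Subgroup.index_ne_zero_of_finite
    have hm2 : 2 * q + 1 ≤ m := by
      have h1 : (2 * q) ∣ m - 1 := (Nat.modEq_iff_dvd' (by omega)).mp hmod.symm
      have h2 := Nat.le_of_dvd (by omega) h1
      omega
    rw [← hprod] at hbd
    have : (2 * q + 1) * (cent M U).relIndex U ≤ m * (cent M U).relIndex U :=
      Nat.mul_le_mul_right _ hm2
    nlinarith
  rw [Subgroup.relIndex_eq_one] at hone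
  exact le_antisymm (derived_two_le h) hone

end Cfsg.Agent.OddOrderCharacters.PF11.Der2
end
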