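import Cfsg.Agent.OddOrderCharacters.PF11.Defs
import Cfsg.Agent.OddOrderCharacters.PF9.Three
import Cfsg.Agent.OddOrderCharacters.PF9.Kernel
import Cfsg.Agent.S1545
set_option linter.all false

/-!
# From the standing hypotheses of section 11 to the `Setup` of section 9

`setup : PF11.Hyp M U W₁ W₂ H₀ p q → PF9.Setup …` inside `↥M`, with `C = C_U(H)`.
-/

set_option autoImplicit false

open Cfsg

namespace Cfsg.Agent.OddOrderCharacters.PF11.ToSetup

open Cfsg.Agent.OddOrderCharacters.PF11.Defs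
open Cfsg.Agent.OddOrderCharacters Cfsg.Agent.OddOrderLocal

universe u

variable {G : Type u} [Group G] {M U W₁ W₂ H₀ : Subgroup G} {p q : ℕ}

theorem odd_M (h : Hyp M U W₁ W₂ H₀ p q) : Odd (Nat.card ↥M) := by
  have := h.finite
  have h1 := h.odd
  rw [← Nat.not_even_iff_odd] at h1 ⊢
  exact fun h2 => h1 (h2.trans_dvd (Subgroup.card_subgroup_dvd_card _))

/-- Hypothesis (9.2), (9.3) for the configuration of section 11. -/
theorem pf9_hyp (h : Hyp M U W₁ W₂ H₀ p q) :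
    PF9.Defs.Hyp ((⁅M, M⁆ : Subgroup G).subgroupOf M) ((fittingHallOf M).subgroupOf M)
      (U.subgroupOf M) (W₁.subgroupOf M) (W₂.subgroupOf M) := by
  have := h.finite
  refine PF9.Three.hyp_of_typeP (odd_M h) h.typeP h.U_ne ?_ ?_
  · rw [h.card_W₁]; exact h.q_prime
  · refine PF9.Three.cent_eq_of_prime h.typeP h.U_ne ?_
    rw [h.card_W₂]; exact h.p_prime

theorem U_le (h : Hyp M U W₁ W₂ H₀ p q) : U ≤ M := TypeP.U_le h.typeP

theorem W₁_le (h : Hyp M U W₁ W₂ H₀ p q) : W₁ ≤ M := TypeP.W₁_le h.typeP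

theorem H_le (M : Subgroup G) : fittingHallOf M ≤ M := by
  rintro _ ⟨y, _, rfl⟩
  exact y.2

theorem pf9_kernel (h : Hyp M U W₁ W₂ H₀ p q) :
    PF9.Defs.IsKernel ((fittingHallOf M).subgroupOf M) (U.subgroupOf M) (H₀.subgroupOf M) where
  normal := ⟨fun n hn g => h.H₀_normal g g.2 n hn⟩
  lt := by
    refine lt_of_le_of_ne (fun x hx => h.H₀_le hx) (fun heq => h.H₀_ne ?_)
    refine le_antisymm h.H₀_le (fun x hx => ?_)
    have h1 : (⟨x, H_le M hx⟩ : ↥M) ∈ (fittingHallOf M).subgroupOf M := hx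
    rw [← heq] at h1
    exact h1
  max := by
    intro N hN hle1 hle2
    have h1 : H₀ ≤ N.map M.subtype := fun x hx =>
      ⟨⟨x, H_le M (h.H₀_le hx)⟩, hle1 hx, rfl⟩
    have h2 : N.map M.subtype ≤ fittingHallOf M := by
      rintro _ ⟨y, hy, rfl⟩
      exact hle2 hy
    have h3 : ∀ x ∈ M, ∀ y ∈ N.map M.subtype, x * y * x⁻¹ ∈ N.map M.subtype := by
      rintro x hx _ ⟨y, hy, rfl⟩
      exact ⟨⟨x, hx⟩ * y * ⟨x, hx⟩⁻¹, hN.conj_mem y hy _, rfl⟩
    have hN' : N = (N.map M.subtype).subgroupOf M := by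
      rw [Subgroup.subgroupOf, Subgroup.comap_map_eq_self_of_injective M.subtype_injective]
    rcases h.chief _ h1 h2 h3 with h4 | h4
    · left
      rw [hN', h4]
    · right
      rw [hN', h4]
  cent_le := by
    rintro x ⟨hx1, hx2⟩
    refine h.cent_le ⟨hx1, ?_⟩
    exact (PF9.Three.mem_centralizer_subgroupOf (U_le h) x).1 hx2

/-- `W₂ ∩ H₀ = 1` -/
theorem W₂_inf_H₀ (h : Hyp M U W₁ W₂ H₀ p q) : W₂ ⊓ H₀ = ⊥ := by
  have := h.finite
  obtain ⟨C, p', s⟩ := PF9.Kernel.setup_of_kernel (pf9_hyp h) (pf9_kernel h)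
  have hW₂M : W₂ ≤ M := (PF9.Three.W₂_le_kernel h.typeP).trans (H_le M)
  have hc : Nat.card ↥(W₂.subgroupOf M) = p := by
    rw [PF9.Three.card_subgroupOf hW₂M, h.card_W₂]
  have hp' : p' = p := by
    rw [← hc]
    refine PF9.Kernel.p_eq_of_prime s ?_
    rw [hc]
    exact h.p_prime
  have h1 := s.W₂_bar
  rw [hp'] at h1
  have h2 : Nat.card ↥(W₂.subgroupOf M ⊓ H₀.subgroupOf M) *
      (W₂.subgroupOf M ⊓ H₀.subgroupOf M).relIndex (W₂.subgroupOf M) =
        Nat.card ↥(W₂.subgroupOf M) := by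
    rw [mul_comm]
    have hle : W₂.subgroupOf M ⊓ H₀.subgroupOf M ≤ W₂.subgroupOf M := inf_le_left
    rw [← Nat.card_congr (Subgroup.subgroupOfEquivOfLe hle).toEquiv]
    exact Subgroup.index_mul_card _
  rw [h1, hc] at h2
  have h3 : Nat.card ↥(W₂.subgroupOf M ⊓ H₀.subgroupOf M) = 1 := by
    have h4 : 0 < p := h.p_prime.pos
    exact Nat.eq_of_mul_eq_mul_right h4 (h2.trans (one_mul p).symm)
  rw [Subgroup.card_eq_one] at h3
  rw [eq_bot_iff]
  intro x hx
  have hxM : x ∈ M := hW₂M hx.1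
  have h4 : (⟨x, hxM⟩ : ↥M) ∈ W₂.subgroupOf M ⊓ H₀.subgroupOf M := ⟨hx.1, hx.2⟩
  rw [h3, Subgroup.mem_bot] at h4
  exact congrArg Subtype.val h4

/-- `U` centralises `H₀`. -/
theorem U_comm_H₀ (h : Hyp M U W₁ W₂ H₀ p q) : ∀ x ∈ U, ∀ y ∈ H₀, x * y = y * x := by
  have := h.finite
  have hP := h.typeP
  have hle : U ⊔ W₁ ≤ M := PF9.Three.sup_le hP
  have hcop := PF9.Three.coprime_kernel_sup hP
  have hcop' : (Nat.card ↥H₀).Coprime (Nat.card ↥(U ⊔ W₁)) :=
    Nat.Coprime.coprime_dvd_left (Subgroup.card_dvd_of_le h.H₀_le) hcop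
  have hdisj : H₀ ⊓ (U ⊔ W₁) = ⊥ := (Subgroup.disjoint_of_coprime_natCard hcop').eq_bot
  have hnil : Group.IsNilpotent ↥(fittingHallOf M) := FittingHall.fittingHallOf_isNilpotent M
  have hnil' : Group.IsNilpotent ↥(H₀.subgroupOf (fittingHallOf M)) := inferInstance
  have hnil0 : Group.IsNilpotent ↥H₀ :=
    Group.nilpotent_of_mulEquiv (Subgroup.subgroupOfEquivOfLe h.H₀_le)
  have hsol : Group.IsSolvable ↥H₀ := inferInstance
  have key := Cfsg.Agent.S1545.result U W₁ H₀ h.U_ne hP.W₁_ne (PF9.Three.U_inf_W₁ hP)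
    (PF9.Three.conj_mem_U hP) (PF9.Three.U_fpf hP)
    (fun x hx y hy => h.H₀_normal x (hle hx) y hy) hdisj hsol hcop'
  have h1 : H₀ ⊓ Subgroup.centralizer (W₁ : Set G) = ⊥ := by
    rw [eq_bot_iff, ← W₂_inf_H₀ h]
    intro x hx
    refine ⟨?_, hx.1⟩
    rw [← PF9.Three.inf_centralizer_W₁ hP]
    exact ⟨h.H₀_le hx.1, hx.2⟩
  have h2 : H₀ ⊓ Subgroup.centralizer ((U ⊔ W₁ : Subgroup G) : Set G) = ⊥ := by
    rw [eq_bot_iff, ← h1]
    exact inf_le_inf_left _ (Subgroup.centralizer_le (SetLike.coe_subset_coe.2 le_sup_right))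
  rw [h1, h2, Subgroup.card_bot, one_pow, one_mul, one_mul] at key
  have h3 : H₀ ⊓ Subgroup.centralizer (U : Set G) = H₀ :=
    Subgroup.eq_of_le_of_card_ge inf_le_left key.le
  intro x hx y hy
  have hy' : y ∈ H₀ ⊓ Subgroup.centralizer (U : Set G) := by rw [h3]; exact hy
  exact Subgroup.mem_centralizer_iff.1 hy'.2 x hx

/-- An element of `U` acting trivially on `H / H₀` centralises `H`. -/
theorem mem_cent_of (h : Hyp M U W₁ W₂ H₀ p q) (x : G) (hx : x ∈ U)
    (hc : ∀ y ∈ fittingHallOf M, x * y * x⁻¹ * y⁻¹ ∈ H₀) : x ∈ cent M U := by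
  have := h.finite
  rw [cent_def]
  refine ⟨hx, Subgroup.mem_centralizer_iff.2 (fun y hy => ?_)⟩
  -- `x y x⁻¹ = z y` with `z ∈ H₀` fixed by `x`
  obtain ⟨z, hz⟩ : ∃ z, z = x * y * x⁻¹ * y⁻¹ := ⟨_, rfl⟩
  have hz0 : z ∈ H₀ := by rw [hz]; exact hc y hy
  have hxz := U_comm_H₀ h x hx z hz0
  have hpow : ∀ n : ℕ, x ^ n * y * (x ^ n)⁻¹ = z ^ n * y := by
    intro n
    induction n with
    | zero => simp
    | succ n ih =>
      have hxz' : x * z ^ n * x⁻¹ = z ^ n := by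
        have h1 : x * z ^ n = z ^ n * x := ((show Commute x z from hxz).pow_right n).eq
        rw [h1, mul_inv_cancel_right]
      calc x ^ (n + 1) * y * (x ^ (n + 1))⁻¹ = x * (x ^ n * y * (x ^ n)⁻¹) * x⁻¹ := by
            rw [pow_succ']; group
        _ = x * (z ^ n * y) * x⁻¹ := by rw [ih]
        _ = (x * z ^ n * x⁻¹) * (x * y * x⁻¹) := by group
        _ = z ^ n * (x * y * x⁻¹) := by rw [hxz']
        _ = z ^ n * (z * y) := by rw [hz]; group
        _ = z ^ (n + 1) * y := by rw [pow_succ]; group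
  have h1 := hpow (Nat.card U)
  have h2 : x ^ Nat.card U = 1 := by
    have h3 : (⟨x, hx⟩ : U) ^ Nat.card U = 1 := pow_card_eq_one'
    exact congrArg Subtype.val h3
  rw [h2, one_mul, inv_one, mul_one] at h1
  have h4 : z ^ Nat.card U = 1 := (mul_eq_right.1 h1.symm)
  have h5 : z ^ Nat.card (fittingHallOf M) = 1 := by
    have h3 : (⟨z, h.H₀_le hz0⟩ : fittingHallOf M) ^ Nat.card (fittingHallOf M) = 1 :=
      pow_card_eq_one'
    exact congrArg Subtype.val h3
  have hcop : (Nat.card (fittingHallOf M)).Coprime (Nat.card U) :=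
    TypeP.coprime_kernel_U h.typeP
  have h6 : z = 1 := by
    have h7 : orderOf z ∣ 1 := by
      rw [← hcop]
      exact Nat.dvd_gcd (orderOf_dvd_of_pow_eq_one h5) (orderOf_dvd_of_pow_eq_one h4)
    exact orderOf_eq_one_iff.1 (Nat.dvd_one.1 h7)
  rw [h6] at hz
  have h8 : x * y * x⁻¹ = y := by
    rw [eq_comm, mul_inv_eq_one] at hz
    exact hz
  rw [mul_inv_eq_iff_eq_mul] at h8
  exact h8.symm

/-- **The `Setup` of section 9** for the configuration of section 11, with `C = C_U(H)`. -/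
theorem setup (h : Hyp M U W₁ W₂ H₀ p q) :
    PF9.Defs.Setup ((⁅M, M⁆ : Subgroup G).subgroupOf M) ((fittingHallOf M).subgroupOf M)
      (U.subgroupOf M) (W₁.subgroupOf M) (W₂.subgroupOf M) (H₀.subgroupOf M)
      ((cent M U).subgroupOf M) p q ((cent M U).relIndex U) := by
  have := h.finite
  obtain ⟨C, p', s⟩ := PF9.Kernel.setup_of_kernel (pf9_hyp h) (pf9_kernel h)
  have hW₂M : W₂ ≤ M := (PF9.Three.W₂_le_kernel h.typeP).trans (H_le M)
  have hc : Nat.card ↥(W₂.subgroupOf M) = p := by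
    rw [PF9.Three.card_subgroupOf hW₂M, h.card_W₂]
  have hp' : p' = p := by
    rw [← hc]
    refine PF9.Kernel.p_eq_of_prime s ?_
    rw [hc]
    exact h.p_prime
  have hq' : Nat.card ↥(W₁.subgroupOf M) = q := by
    rw [PF9.Three.card_subgroupOf (W₁_le h), h.card_W₁]
  have hC : C = (cent M U).subgroupOf M := by
    ext x
    rw [s.mem_C, Subgroup.mem_subgroupOf]
    constructor
    · rintro ⟨hx, hxc⟩
      refine mem_cent_of h x hx (fun y hy => ?_)
      exact hxc ⟨y, H_le M hy⟩ hy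
    · intro hx
      rw [cent_def] at hx
      refine ⟨hx.1, fun y hy => ?_⟩
      have h1 := Subgroup.mem_centralizer_iff.1 hx.2 y hy
      have h2 : x * y * x⁻¹ * y⁻¹ = 1 := by
        apply Subtype.ext
        show (x : G) * y * (x : G)⁻¹ * (y : G)⁻¹ = 1
        have h3 : (y : G) * x = x * y := h1
        rw [← h3]; group
      rw [h2]
      exact Subgroup.one_mem _
  have hrel : C.relIndex (U.subgroupOf M) = (cent M U).relIndex U := by
    rw [hC, Subgroup.relIndex_subgroupOf (U_le h)]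
  rw [hp', hq', hrel, hC] at s
  exact s

end Cfsg.Agent.OddOrderCharacters.PF11.ToSetup
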