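import Mathlib
import Cfsg.Agent.OddOrderCharacters.PF11.ToSetup
import Cfsg.Agent.OddOrderCharacters.PF9.GaloisCase
set_option linter.all false

/-!
# Peterfalvi (11.9)(c): the Galois case forces `U` cyclic
-/

set_option autoImplicit false

open Cfsg

namespace Cfsg.Agent.OddOrderCharacters.PF11.GalCase

open Cfsg.Agent.OddOrderCharacters.PF11.Defs
open Cfsg.Agent.OddOrderCharacters Cfsg.Agent.OddOrderLocal

/-- A maximal subgroup of a nilpotent group contains the derived subgroup. -/
theorem commutator_le_of_isCoatom {U : Type*} [Group U] [Finite U] (hnil : Group.IsNilpotent U)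
    {M : Subgroup U} (hM : IsCoatom M) : commutator U ≤ M := by
  have hn : M.Normal :=
    Subgroup.NormalizerCondition.normal_of_coatom M
      (Group.normalizerCondition_of_isNilpotent (G := U)) hM
  by_contra hle
  have h1 : commutator U ⊔ M = ⊤ := by
    apply hM.2
    exact lt_of_le_of_ne le_sup_right (fun h => hle (by rw [h]; exact le_sup_left))
  have hmap : (commutator U).map (QuotientGroup.mk' M) = ⊤ := by
    have h2 : (commutator U ⊔ M).map (QuotientGroup.mk' M) = ⊤ := by
      rw [h1]; exact Subgroup.map_top_of_surjective _ (QuotientGroup.mk'_surjective M)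
    rw [Subgroup.map_sup, QuotientGroup.map_mk'_self, sup_bot_eq] at h2
    exact h2
  have hc : commutator (U ⧸ M) = ⊤ := by
    rw [← top_le_iff, ← hmap, commutator_def, Subgroup.map_commutator]
    exact Subgroup.commutator_mono le_top le_top
  have hnt : Nontrivial (U ⧸ M) := QuotientGroup.nontrivial_iff.mpr hM.1
  have hs : Group.IsSolvable (U ⧸ M) := inferInstance
  exact (Group.IsSolvable.commutator_lt_top_of_nontrivial (G := U ⧸ M)).ne hc

/-- A nilpotent group which is cyclic modulo its derived subgroup is cyclic. -/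
theorem isCyclic_of_mod_commutator {U : Type*} [Group U] [Finite U] (hnil : Group.IsNilpotent U)
    (g : U) (h : ∀ x : U, ∃ k : ℕ, (g ^ k)⁻¹ * x ∈ commutator U) : IsCyclic U := by
  refine ⟨g, fun x => ?_⟩
  show x ∈ Subgroup.zpowers g
  by_contra hx
  have hne : Subgroup.zpowers g ≠ ⊤ := fun h => hx (h ▸ Subgroup.mem_top x)
  rcases eq_top_or_exists_le_coatom (Subgroup.zpowers g) with h1 | ⟨M, hM, hgM⟩
  · exact hne h1
  · apply hM.1
    rw [eq_top_iff]
    intro y _
    obtain ⟨k, hk⟩ := h y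
    have h2 := commutator_le_of_isCoatom hnil hM hk
    have h3 : g ^ k ∈ M := pow_mem (hgM (Subgroup.mem_zpowers g)) k
    have : y = g ^ k * ((g ^ k)⁻¹ * y) := by group
    rw [this]
    exact mul_mem h3 h2

universe u

variable {G : Type u} [Group G] {M U W₁ W₂ H₀ : Subgroup G} {p q : ℕ}

/-- In the Galois case `U` is cyclic if `C = U'`. -/
theorem U_cyclic (h : Hyp M U W₁ W₂ H₀ p q) (hC : cent M U = ⁅U, U⁆)
    (hgal : PF9.Defs.Galois ((fittingHallOf M).subgroupOf M) (U.subgroupOf M)
      (H₀.subgroupOf M)) : IsCyclic ↥U := by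
  have := h.finite
  obtain ⟨-, -, ⟨g, hg, hgen⟩, -⟩ := PF9.GaloisCase.galois (ToSetup.setup h) hgal
  have hg' : (g : G) ∈ U := hg
  refine isCyclic_of_mod_commutator h.typeP.U_nilpotent ⟨g, hg'⟩ ?_
  intro x
  obtain ⟨k, hk⟩ := hgen ⟨x, ToSetup.U_le h x.2⟩ x.2
  refine ⟨k, ?_⟩
  have hk' : ((g : G) ^ k)⁻¹ * (x : G) ∈ cent M U := hk
  rw [hC, ← Subgroup.map_subtype_commutator] at hk'
  obtain ⟨y, hy, hyx⟩ := hk'
  have : y = (⟨g, hg'⟩ ^ k)⁻¹ * x := Subtype.ext hyx
  rw [← this]
  exact hy

/-- A subgroup of type III or IV all of whose data have cyclic `U` is of type III. -/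
theorem typeIII_of_cyclic {G : Type u} [Group G] {M : Subgroup G}
    (h : IsOfTypeIII M ∨ IsOfTypeIV M)
    (hc : ∀ W₁ U W₂ : Subgroup G, IsTypePWith M W₁ U W₂ → IsCyclic ↥U) : IsOfTypeIII M := by
  rcases h with h | h
  · exact h
  · obtain ⟨W₁, U, W₂, hP, -, -, -, hna, -⟩ := h
    have := hc W₁ U W₂ hP
    have h2 : IsMulCommutative U := by
      refine ⟨⟨fun x y => ?_⟩⟩
      exact (IsCyclic.commGroup (α := U)).mul_comm x y
    exact absurd h2 hna

end Cfsg.Agent.OddOrderCharacters.PF11.GalCase
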