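import Cfsg.Agent.OddOrderCharacters.PF11.SevenMain
import Cfsg.Agent.OddOrderCharacters.PF11.Six
set_option linter.all false

/-!
# Peterfalvi (11.7): `FTtype34_Fcore_kernel_trivial`
-/

set_option autoImplicit false

open Cfsg

namespace Cfsg.Agent.OddOrderCharacters.PF11.Kernel

open Cfsg.Agent.OddOrderCharacters.PF11.Defs

universe u

variable {G : Type u} [Group G] {M U W₁ W₂ H₀ : Subgroup G} {p q : ℕ}

/-- (11.7): if `M'' = HC` then `H₀ = 1` and `H` is elementary abelian of order `p ^ q`. -/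
theorem FTtype34_Fcore_kernel_trivial (h : Hyp M U W₁ W₂ H₀ p q)
    (h5 : ⁅⁅M, M⁆, ⁅M, M⁆⁆ = fittingHallOf M ⊔ cent M U) :
    IsElementaryAbelian p (fittingHallOf M) ∧ Nat.card (fittingHallOf M) = p ^ q ∧ H₀ = ⊥ := by
  obtain ⟨hp, hH₀, -⟩ := Six.FTtype34_facts h h5
  exact SevenMain.of_facts h hp hH₀

end Cfsg.Agent.OddOrderCharacters.PF11.Kernel
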