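import Cfsg.Agent.OddOrderCharacters.PF10.Ctx
import Cfsg.Agent.OddOrderCharacters.PF4b.CohExt
import Cfsg.Agent.OddOrderCharacters.PF4b.Prime
import Cfsg.Agent.OddOrderCharacters.Galois
set_option linter.all false

/-!
# Peterfalvi (11.8), (11.9): the character-theoretic context

`K = M'`, `S₁ = S(HC)` (irreducible of degree `q`, `n` of them), `S₂ = X(H₀C)`, `u = |U : C| = q n + 1`.
The sets are abstract here: only the listed properties are used.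
-/

set_option autoImplicit false
set_option linter.unusedSectionVars false

open scoped ComplexConjugate
open Cfsg Cfsg.Agent.Characters.Core Cfsg.Agent.OddOrderCharacters.VChar
  Cfsg.Agent.OddOrderCharacters.PFDefs Cfsg.Agent.OddOrderCharacters.ColSum
  Cfsg.Agent.OddOrderCharacters.Galois
  Cfsg.Agent.OddOrderCharacters.PF4b.TIFam Cfsg.Agent.OddOrderCharacters.PF4b.Prime

namespace Cfsg.Agent.OddOrderCharacters.PF11.Ctx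

universe u

structure Ctx {G : Type u} [Group G] [Fintype G] (L K W W₁ W₂ : Subgroup G) [Fintype ↥L]
    (A A₀ : Set G) (R : G → Subgroup G) (μ : (↥W →* ℂˣ) → (↥L → ℂ)) (δ : (↥W →* ℂˣ) → ℤ)
    (η : (↥W →* ℂˣ) → (G → ℂ)) (p q n u : ℕ) (S₁ S₂ : Set (↥L → ℂ))
    (t : (↥L → ℂ) → (G → ℂ)) : Prop where
  odd : Odd (Nat.card G)
  hD : PrimeDadeHyp L K K A A₀ W W₁ W₂ R
  hμ : PrimeTIFam L K W W₁ W₂ μ δ
  hη : CyclicTIFam W W₁ W₂ η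
  p_prime : p.Prime
  q_prime : q.Prime
  card_W₁ : Nat.card W₁ = q
  card_W₂ : Nat.card W₂ = p
  u_eq : u = q * n + 1
  n_two : 2 ≤ n
  n_even : Even n
  deg : ∀ ω, ω ∉ lin₁ W W₂ → μ ω 1 = (u : ℂ)
  sgn : ∀ ω, ω ∉ lin₁ W W₂ → δ ω = 1
  S₁_sub : S₁ ⊆ seqIndOf L K K ⊥
  S₁_irr : ∀ ζ ∈ S₁, IsIrrCharacter ↥L ζ
  S₁_deg : ∀ ζ ∈ S₁, ζ 1 = (q : ℂ)
  S₁_fin : S₁.Finite
  S₁_ncard : S₁.ncard = n
  S₁_gal : ∀ σ : ℂ ≃+* ℂ, ∀ ζ ∈ S₁, gal σ ζ ∈ S₁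
  S₂_sub : S₂ ⊆ seqIndOf L K K ⊥
  S₂_conj : ∀ ξ ∈ S₂, conjFun ξ ∈ S₂
  S₂_cases : ∀ ξ ∈ S₂, IsIrrCharacter ↥L ξ ∨ ∃ ω, ω ∉ lin₁ W W₂ ∧ ξ = colSum W W₂ μ ω
  colSum_mem : ∀ ω, ω ∉ lin₁ W W₂ → colSum W W₂ μ ω ∈ S₂
  orth : ∀ ζ ∈ S₁, ∀ ξ ∈ S₂, classInner ζ ξ = 0
  t_iso : IsLinearIsometryOn (zspan S₁) t
  t_ext : ∀ α ∈ zspanOn S₁ {1}ᶜ, t α = dadeIsometry A₀ L R α

variable {G : Type u} [Group G] [Fintype G] {L K W W₁ W₂ : Subgroup G} [Fintype ↥L]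
  {A A₀ : Set G} {R : G → Subgroup G}
  {μ : (↥W →* ℂˣ) → (↥L → ℂ)} {δ : (↥W →* ℂˣ) → ℤ} {η : (↥W →* ℂˣ) → (G → ℂ)}
  {p q n u : ℕ} {S₁ S₂ : Set (↥L → ℂ)} {t : (↥L → ℂ) → (G → ℂ)}

section
variable (c : Ctx L K W W₁ W₂ A A₀ R μ δ η p q n u S₁ S₂ t)
include c

theorem Ctx.oddL : Odd (Nat.card L) :=
  c.odd.of_dvd_nat (Subgroup.card_subgroup_dvd_card L)

theorem Ctx.direct : IsDirect W W₁ W₂ := isDirect_of_hyp c.hD.cyclicTI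

theorem Ctx.q_three : 3 ≤ q := by
  have h := PF3bBasic.three_le₁ c.hD.cyclicTI
  rwa [c.card_W₁] at h

theorem Ctx.p_three : 3 ≤ p := by
  have h := PF3bBasic.three_le₂ c.hD.cyclicTI
  rwa [c.card_W₂] at h

theorem Ctx.u_ge : 2 * q + 1 ≤ u := by
  have h1 := c.n_two
  have h2 := c.u_eq
  have h3 : q * 2 ≤ q * n := Nat.mul_le_mul_left q h1
  omega

theorem Ctx.one_lt_u : 1 < u := by
  have h1 := c.u_ge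
  have h2 := c.q_three
  omega

/-- The context of section 10, with `d = u`, `e = 1`. -/
theorem Ctx.hyp10 : PF10.Ctx.Hyp L K W W₁ W₂ A A₀ R μ δ η u 1 n where
  odd := c.oddL
  hD := c.hD
  hμ := c.hμ
  hη := c.hη
  deg := c.deg
  sgn := c.sgn
  d_gt := c.one_lt_u
  e_sgn := Or.inl rfl
  n_mul := by rw [c.card_W₁, c.u_eq]; push_cast; ring

theorem Ctx.S₁_conj {ζ : ↥L → ℂ} (hζ : ζ ∈ S₁) : conjFun ζ ∈ S₁ := by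
  have := c.S₁_gal (starRingAut : ℂ ≃+* ℂ) ζ hζ
  rwa [gal_conj] at this

theorem Ctx.S₁_conj_ne {ζ : ↥L → ℂ} (hζ : ζ ∈ S₁) : conjFun ζ ≠ ζ :=
  PF10.Ctx.conj_ne c.oddL c.hD (c.S₁_irr ζ hζ) (c.S₁_sub hζ)

/-- the images of the members of `S₁` are orthogonal to the `η ω`, for any coherent extension -/
theorem Ctx.t_eta' {t' : (↥L → ℂ) → (G → ℂ)} (hi : IsLinearIsometryOn (zspan S₁) t')
    (he : ∀ α ∈ zspanOn S₁ {1}ᶜ, t' α = dadeIsometry A₀ L R α) {ζ : ↥L → ℂ} (hζ : ζ ∈ S₁)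
    (ω : ↥W →* ℂˣ) : classInner (t' ζ) (η ω) = 0 :=
  PF4b.CohExt.coherent_ortho_cycTIiso c.hD c.hη c.oddL c.S₁_sub (fun _ h => c.S₁_conj h)
    hi he hζ (c.S₁_irr ζ hζ) ω

theorem Ctx.t_eta {ζ : ↥L → ℂ} (hζ : ζ ∈ S₁) (ω : ↥W →* ℂˣ) : classInner (t ζ) (η ω) = 0 :=
  c.t_eta' c.t_iso c.t_ext hζ ω

theorem Ctx.eta_t {ζ : ↥L → ℂ} (hζ : ζ ∈ S₁) (ω : ↥W →* ℂˣ) : classInner (η ω) (t ζ) = 0 :=
  classInner_comm_eq_zero (c.t_eta hζ ω)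

theorem Ctx.t_gal (σ : ℂ ≃+* ℂ) {ζ : ↥L → ℂ} (hζ : ζ ∈ S₁) : gal σ (t ζ) = t (gal σ ζ) :=
  PF5Gal.cfAut_Dade_coherent c.hD.dade σ (c.S₁_gal σ) c.t_iso c.t_ext hζ (c.S₁_irr ζ hζ)
    (c.S₁_conj hζ) (isIrr_conjFun (c.S₁_irr ζ hζ)) (c.S₁_conj_ne hζ)

theorem Ctx.t_conj {ζ : ↥L → ℂ} (hζ : ζ ∈ S₁) : conjFun (t ζ) = t (conjFun ζ) := by
  have := c.t_gal (starRingAut : ℂ ≃+* ℂ) hζ
  rwa [gal_conj, gal_conj] at this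

theorem Ctx.t_gen {ζ : ↥L → ℂ} (hζ : ζ ∈ S₁) : IsGeneralizedCharacter G (t ζ) :=
  lin_gen c.t_iso (zspan_subset hζ)

/-- `τ (ζ - ζ') = t ζ - t ζ'` -/
theorem Ctx.tau_sub {ζ ζ' : ↥L → ℂ} (hζ : ζ ∈ S₁) (hζ' : ζ' ∈ S₁) :
    dadeIsometry A₀ L R (ζ - ζ') = t ζ - t ζ' := by
  rw [← c.t_ext (ζ - ζ'), span_sub c.t_iso (zspan_subset hζ) (zspan_subset hζ')]
  rw [mem_zspanOn_one_iff]
  refine ⟨zspan_sub (zspan_subset hζ) (zspan_subset hζ'), ?_⟩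
  rw [Pi.sub_apply, c.S₁_deg ζ hζ, c.S₁_deg ζ' hζ', sub_self]

theorem Ctx.exists_S₁ : ∃ ζ, ζ ∈ S₁ := by
  by_contra hcon
  push Not at hcon
  have h1 : S₁ = ∅ := Set.eq_empty_of_forall_notMem hcon
  have h2 := c.S₁_ncard
  have h3 := c.n_two
  rw [h1, Set.ncard_empty] at h2
  omega

theorem Ctx.colSum_one {ω : ↥W →* ℂˣ} (hω : ω ∉ lin₁ W W₂) :
    colSum W W₂ μ ω 1 = (q : ℂ) * u := by
  rw [colSum_mu_on c.hD.primeTI c.hμ ω 1 K.one_mem, c.card_W₁, c.deg ω hω]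

end

end Cfsg.Agent.OddOrderCharacters.PF11.Ctx
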