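import Cfsg.Agent.OddOrderCharacters.PF11.SOne
import Cfsg.Agent.OddOrderCharacters.PF11.Ctx
import Cfsg.Agent.OddOrderCharacters.PF11.ToSetup
import Cfsg.Agent.OddOrderCharacters.PF9.Reducible
set_option linter.all false

/-!
# Peterfalvi, section 11: the context of (11.8), (11.9) from the group theoretic hypotheses
-/

set_option autoImplicit false

open Cfsg Cfsg.Agent.Characters.Core Cfsg.Agent.OddOrderCharacters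
  Cfsg.Agent.OddOrderCharacters.PFDefs Cfsg.Agent.OddOrderCharacters.ColSum
  Cfsg.Agent.OddOrderCharacters.PF11.Defs Cfsg.Agent.OddOrderCharacters.PF11.SDefs
  Cfsg.Agent.OddOrderCharacters.PF11.SOne Cfsg.Agent.OddOrderCharacters.VChar

namespace Cfsg.Agent.OddOrderCharacters.PF11.MakeCtx

universe u

variable {G : Type u} [Group G] {M U W W₁ W₂ H₀ : Subgroup G} {p q : ℕ}
  [Fintype G] [Fintype ↥M]
  {A A₀ : Set G} {R : G → Subgroup G} {μ : (↥W →* ℂˣ) → (↥M → ℂ)} {δ : (↥W →* ℂˣ) → ℤ}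
  {η : (↥W →* ℂˣ) → (G → ℂ)}

omit [Fintype G] in
theorem S₁_gal (σ : ℂ ≃+* ℂ) {ζ : ↥M → ℂ} (hζ : ζ ∈ S₁ M U) : Galois.gal σ ζ ∈ S₁ M U := by
  rw [S₁_eq] at hζ ⊢
  exact Galois.gal_mem_inducedIrrAbove σ _ _ hζ

omit [Fintype G] in
theorem S₂_sub : S₂ M U H₀ ⊆ seqIndOf M ⁅M, M⁆ ⁅M, M⁆ ⊥ := by
  rintro φ ⟨θ, hθ, ⟨x, -, hx⟩, -, rfl⟩
  refine ⟨θ, hθ, ⟨x, x.2, hx⟩, ?_, rfl⟩
  intro y hy
  have h1 : y = 1 := by
    have h2 : ((y : ↥M) : G) ∈ (⊥ : Subgroup G) := hy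
    exact Subtype.ext (Subtype.ext (Subgroup.mem_bot.mp h2))
  rw [h1]

theorem S₂_conj {ξ : ↥M → ℂ} (hξ : ξ ∈ S₂ M U H₀) : conjFun ξ ∈ S₂ M U H₀ :=
  PF4b.Subcoherent.conjFun_mem hξ

theorem S₂_cases (hD : PrimeDadeHyp M ⁅M, M⁆ ⁅M, M⁆ A A₀ W W₁ W₂ R)
    (hμ : PrimeTIFam M ⁅M, M⁆ W W₁ W₂ μ δ) {ξ : ↥M → ℂ} (hξ : ξ ∈ S₂ M U H₀) :
    IsIrrCharacter ↥M ξ ∨ ∃ ω, ω ∉ lin₁ W W₂ ∧ ξ = colSum W W₂ μ ω := by
  rcases PF4b.Prime.seqIndOf_cases hD.primeTI hμ hξ with h1 | ⟨ω, rfl⟩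
  · exact Or.inl h1
  · exact Or.inr ⟨ω, PF4b.Subcoherent.notMem_lin₁ hD.primeTI hμ hξ, rfl⟩

omit [Fintype G] in
/-- members of `S₁` have `H` in the kernel, members of `S₂` have not -/
theorem S₁_ne_S₂ (h : Hyp M U W₁ W₂ H₀ p q) {ζ ξ : ↥M → ℂ} (hζ : ζ ∈ S₁ M U)
    (hξ : ξ ∈ S₂ M U H₀) : ζ ≠ ξ := by
  obtain ⟨θ, hθ, -, hy, rfl⟩ := hζ
  obtain ⟨θ', hθ', ⟨x, hx, hx'⟩, -, rfl⟩ := hξ
  have s := ToSetup.setup h
  have hK := s.hyp.K_normal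
  have hH := s.hyp.H_normal
  intro he
  obtain ⟨g, hg⟩ := (IndRes.indFun_eq_iff _ hθ' hθ).mp he.symm
  apply hx'
  rw [← hg, NormalInduced.conjFn_apply, NormalInduced.conjFn_apply]
  have h1 : θ ⟨g * (x : ↥M) * g⁻¹, hK.conj_mem x x.2 g⟩ = θ 1 :=
    hy _ (le_sup_left (a := fittingHallOf M) (hH.conj_mem (x : ↥M) hx g))
  rw [h1]
  congr 1
  exact Subtype.ext (by simp)

theorem orth (h : Hyp M U W₁ W₂ H₀ p q) (hD : PrimeDadeHyp M ⁅M, M⁆ ⁅M, M⁆ A A₀ W W₁ W₂ R)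
    (hμ : PrimeTIFam M ⁅M, M⁆ W W₁ W₂ μ δ) {ζ ξ : ↥M → ℂ} (hζ : ζ ∈ S₁ M U)
    (hξ : ξ ∈ S₂ M U H₀) : classInner ζ ξ = 0 :=
  PF4b.Subcoherent.orthogonal hD.primeTI hμ hζ hξ (S₁_ne_S₂ h hζ hξ)

/-- the reducible members of `X(H₀)` are exactly the `μ_j`, `j ≠ 0` -/
theorem colSum_isInd (h : Hyp M U W₁ W₂ H₀ p q)
    (hD : PrimeDadeHyp M ⁅M, M⁆ ⁅M, M⁆ A A₀ W W₁ W₂ R)
    (hμ : PrimeTIFam M ⁅M, M⁆ W W₁ W₂ μ δ) {ω : ↥W →* ℂˣ} (hω : ω ∉ lin₁ W W₂) :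
    PF9.Defs.IsIndHC ((⁅M, M⁆ : Subgroup G).subgroupOf M) ((fittingHallOf M).subgroupOf M)
      (H₀.subgroupOf M) ((cent M U).subgroupOf M) q ((cent M U).relIndex U)
      (colSum W W₂ μ ω) := by
  classical
  have s := ToSetup.setup h
  obtain ⟨h1, h2⟩ := PF9.Reducible.reducible_members s
  have hd := isDirect_of_hyp hD.cyclicTI
  have hfin := finite_lin hd
  set R₀ : Set (↥M → ℂ) := (fun ψ => colSum W W₂ μ ψ) '' (lin₁ W W₁ \ {1}) with hR₀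
  have hR₀fin : R₀.Finite := Set.toFinite _
  have hle : R₀.ncard ≤ p - 1 := by
    refine (Set.ncard_image_le (Set.toFinite _)).trans ?_
    rw [Set.ncard_sdiff_singleton_of_mem one_mem_lin₁]
    have h3 : (lin₁ W W₁).ncard = Nat.card W₂ := by
      rw [← card_lin₁ hd.symm]
      rfl
    rw [h3, h.card_W₂]
  have hmem : ∀ ω : ↥W →* ℂˣ, ω ∉ lin₁ W W₂ → colSum W W₂ μ ω ∈ R₀ := by
    intro ω hω
    obtain ⟨φ, hφ, ψ, hψ, rfl⟩ := exists_lin_mul hd ω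
    rw [colSum_mul_of_mem hφ]
    refine ⟨ψ, ⟨hψ, ?_⟩, rfl⟩
    intro h3
    rw [Set.mem_singleton_iff] at h3
    apply hω
    rw [h3]
    exact mul_mem_lin₁ hφ one_mem_lin₁
  have hsub : {ζ | ζ ∈ seqIndD ((⁅M, M⁆ : Subgroup G).subgroupOf M)
      ((fittingHallOf M).subgroupOf M) (H₀.subgroupOf M) ∧ ¬ IsIrrCharacter ↥M ζ} ⊆ R₀ := by
    rintro ζ ⟨hζ, hirr⟩
    have hζ' : ζ ∈ seqIndOf M ⁅M, M⁆ (fittingHallOf M) H₀ := hζ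
    rcases PF4b.Prime.seqIndOf_cases hD.primeTI hμ hζ' with h3 | ⟨ω, rfl⟩
    · exact absurd h3 hirr
    · exact hmem ω (PF4b.Subcoherent.notMem_lin₁ hD.primeTI hμ hζ')
  have heq := Set.eq_of_subset_of_ncard_le hsub (by rw [h1]; exact hle) hR₀fin
  have h3 := hmem ω hω
  rw [← heq] at h3
  exact h2 _ h3.1 h3.2

theorem colSum_mem (h : Hyp M U W₁ W₂ H₀ p q)
    (hD : PrimeDadeHyp M ⁅M, M⁆ ⁅M, M⁆ A A₀ W W₁ W₂ R)
    (hμ : PrimeTIFam M ⁅M, M⁆ W W₁ W₂ μ δ) {ω : ↥W →* ℂˣ} (hω : ω ∉ lin₁ W W₂) :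
    colSum W W₂ μ ω ∈ S₂ M U H₀ := by
  obtain ⟨θ, hθ, hx, hy, he⟩ := (colSum_isInd h hD hμ hω).mem
  refine ⟨θ, hθ, hx, fun y hy' => ?_, he⟩
  apply hy
  have hcM : cent M U ≤ M := fun c hc => Basic.U_le_M h (Basic.cent_le_U hc)
  have hH₀ : H₀ ≤ M := h.H₀_le.trans (Basic.H_le_M M)
  rw [← Subgroup.subgroupOf_sup hH₀ hcM]
  exact hy'

theorem deg (h : Hyp M U W₁ W₂ H₀ p q)
    (hD : PrimeDadeHyp M ⁅M, M⁆ ⁅M, M⁆ A A₀ W W₁ W₂ R)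
    (hμ : PrimeTIFam M ⁅M, M⁆ W W₁ W₂ μ δ) {ω : ↥W →* ℂˣ} (hω : ω ∉ lin₁ W W₂) :
    μ ω 1 = (((cent M U).relIndex U : ℕ) : ℂ) := by
  have h1 := (colSum_isInd h hD hμ hω).degree
  have h2 := PF4b.TIFam.colSum_mu_on hD.primeTI hμ ω 1 (⁅M, M⁆ : Subgroup G).one_mem
  rw [h1, h.card_W₁] at h2
  have hq : (q : ℂ) ≠ 0 := Nat.cast_ne_zero.mpr h.q_prime.ne_zero
  exact (mul_left_cancel₀ hq h2).symm

theorem sgn (h : Hyp M U W₁ W₂ H₀ p q)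
    (hD : PrimeDadeHyp M ⁅M, M⁆ ⁅M, M⁆ A A₀ W W₁ W₂ R)
    (hμ : PrimeTIFam M ⁅M, M⁆ W W₁ W₂ μ δ) {ω : ↥W →* ℂˣ} (hω : ω ∉ lin₁ W W₂) : δ ω = 1 := by
  rcases hμ.sign ω with h1 | h1
  · exact h1
  · exfalso
    obtain ⟨n, hn⟩ := hμ.degree ω
    rw [deg h hD hμ hω, h1, h.card_W₁, ← S₁_ncard h] at hn
    have h2 : (q : ℤ) * ((S₁ M U).ncard : ℤ) + 1 + 1 = n * q := by
      have h3 : (((q : ℤ) * ((S₁ M U).ncard : ℤ) + 1 + 1 : ℤ) : ℂ) = ((n * q : ℤ) : ℂ) := by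
        push_cast
        push_cast at hn
        rw [sub_neg_eq_add] at hn
        exact hn
      exact_mod_cast h3
    have h4 : (q : ℤ) ∣ 2 := by
      refine ⟨n - ((S₁ M U).ncard : ℤ), ?_⟩
      linarith
    have h5 : q ∣ 2 := by exact_mod_cast h4
    have h6 := PF3bBasic.three_le₁ hD.cyclicTI
    rw [h.card_W₁] at h6
    have := Nat.le_of_dvd (by norm_num) h5
    omega

/-- **The context of (11.8), (11.9).** -/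
theorem exists_ctx (h : Hyp M U W₁ W₂ H₀ p q)
    (hD : PrimeDadeHyp M ⁅M, M⁆ ⁅M, M⁆ A A₀ W W₁ W₂ R)
    (hμ : PrimeTIFam M ⁅M, M⁆ W W₁ W₂ μ δ) (hη : CyclicTIFam W W₁ W₂ η) :
    ∃ t, Ctx.Ctx M ⁅M, M⁆ W W₁ W₂ A A₀ R μ δ η p q (S₁ M U).ncard ((cent M U).relIndex U)
      (S₁ M U) (S₂ M U H₀) t := by
  obtain ⟨t, ht, hext, -, -⟩ := S₁_coherent h hD hμ hη
  refine ⟨t, ?_⟩
  constructor
  case odd => exact h.odd
  case hD => exact hD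
  case hμ => exact hμ
  case hη => exact hη
  case p_prime => exact h.p_prime
  case q_prime => exact h.q_prime
  case card_W₁ => exact h.card_W₁
  case card_W₂ => exact h.card_W₂
  case u_eq => exact (S₁_ncard h).symm
  case n_two => exact (S₁_even h).2
  case n_even => exact (S₁_even h).1
  case deg => exact fun ω hω => deg h hD hμ hω
  case sgn => exact fun ω hω => sgn h hD hμ hω
  case S₁_sub => exact S₁_subset M U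
  case S₁_irr => exact fun ζ hζ => (S₁_irr h hζ).1
  case S₁_deg => exact fun ζ hζ => (S₁_irr h hζ).2
  case S₁_fin => exact S₁_finite h
  case S₁_ncard => rfl
  case S₁_gal => exact fun σ ζ hζ => S₁_gal σ hζ
  case S₂_sub => exact S₂_sub
  case S₂_conj => exact fun ξ hξ => S₂_conj hξ
  case S₂_cases => exact fun ξ hξ => S₂_cases hD hμ hξ
  case colSum_mem => exact fun ω hω => colSum_mem h hD hμ hω
  case orth => exact fun ζ hζ ξ hξ => orth h hD hμ hζ hξ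
  case t_iso => exact ht
  case t_ext => exact hext

end Cfsg.Agent.OddOrderCharacters.PF11.MakeCtx
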