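import Cfsg.Agent.OddOrderCharacters.PF11.ToSetup
import Cfsg.Agent.OddOrderCharacters.PF9.NonGalois_mg
import Cfsg.Agent.OddOrderCharacters.PF9.EightCount
set_option linter.all false

/-!
# The non-Galois case of section 11: an irreducible member of `S(H₀C)` of degree `q a`, `2 a ≤ p - 1`
-/

set_option autoImplicit false

open Cfsg

namespace Cfsg.Agent.OddOrderCharacters.PF11.NonGal

open Cfsg.Agent.OddOrderCharacters.PFDefs Cfsg.Agent.OddOrderCharacters.PF11.Defs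
open Cfsg.Agent.OddOrderCharacters Cfsg.Agent.OddOrderLocal

universe u

variable {G : Type u} [Group G] {M U W₁ W₂ H₀ : Subgroup G} {p q : ℕ}

theorem cent_le_M (h : Hyp M U W₁ W₂ H₀ p q) : cent M U ≤ M :=
  (inf_le_left : cent M U ≤ U).trans (ToSetup.U_le h)

theorem sup_subgroupOf (h : Hyp M U W₁ W₂ H₀ p q) :
    (H₀ ⊔ cent M U).subgroupOf M = H₀.subgroupOf M ⊔ (cent M U).subgroupOf M :=
  Subgroup.subgroupOf_sup (h.H₀_le.trans (ToSetup.H_le M)) (cent_le_M h)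

theorem two_mul_le {a p : ℕ} (ha : Odd a) (hp : Odd p) (h1 : 1 < p) (hd : a ∣ p - 1) :
    2 * a ≤ p - 1 := by
  have h2 : 2 ∣ p - 1 := by
    obtain ⟨k, rfl⟩ := hp
    exact ⟨k, by omega⟩
  have h3 : 2 * a ∣ p - 1 :=
    Nat.Coprime.mul_dvd_of_dvd_of_dvd (Nat.coprime_two_left.mpr ha) h2 hd
  exact Nat.le_of_dvd (by omega) h3

theorem relIndex_pos {X : Type*} [Group X] [Finite X] (A B : Subgroup X) : 0 < A.relIndex B :=
  Nat.pos_of_ne_zero (Subgroup.index_ne_zero_of_finite (H := A.subgroupOf B))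

/-- (9.8)(d) for section 11. -/
theorem nonGalois_data [Fintype ↥M] (h : Hyp M U W₁ W₂ H₀ p q) (hC : cent M U = ⁅U, U⁆)
    (hng : ¬ PF9.Defs.Galois ((fittingHallOf M).subgroupOf M) (U.subgroupOf M)
      (H₀.subgroupOf M)) :
    ∃ (lam : ↥M → ℂ) (a b : ℕ),
      lam ∈ seqIndOf M ⁅M, M⁆ (fittingHallOf M) (H₀ ⊔ cent M U) ∧
      IsIrrCharacter ↥M lam ∧ lam 1 = (q : ℂ) * a ∧ b * a = (cent M U).relIndex U ∧
      1 < a ∧ 2 * a ≤ p - 1 ∧ 0 < b := by
  have := h.finite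
  have s := ToSetup.setup h
  obtain ⟨H₁, U₁, a, g⟩ := PF9.NonGalois.nonGalois s hng
  have hp : Odd p := s.p_odd
  have hcount := PF9.EightCount.nonGalois_count g
  have hUM := ToSetup.U_le h
  have hcomm : ⁅U.subgroupOf M, U.subgroupOf M⁆ = (cent M U).subgroupOf M := by
    rw [PF9.Three.subgroupOf_commutator hUM hUM, hC]
  rw [hcomm] at hcount
  have hpos : 0 < (p - 1) * ((cent M U).subgroupOf M).relIndex (U.subgroupOf M) := by
    refine Nat.mul_pos ?_ (relIndex_pos _ _)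
    have := h.p_prime.two_le
    omega
  have hne : {ζ | ζ ∈ seqIndD (⁅M, M⁆.subgroupOf M) ((fittingHallOf M).subgroupOf M)
      (H₀.subgroupOf M ⊔ (cent M U).subgroupOf M) ∧ IsIrrCharacter ↥M ζ ∧
      ζ 1 = (q : ℂ) * a}.Nonempty := by
    rw [Set.nonempty_iff_ne_empty]
    intro h0
    rw [h0, Set.ncard_empty, mul_zero] at hcount
    omega
  obtain ⟨lam, h1, h2, h3⟩ := hne
  refine ⟨lam, a, ((cent M U).subgroupOf M).relIndex U₁, ?_, h2, h3, ?_, g.a_gt, ?_, ?_⟩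
  · rw [seqIndOf, sup_subgroupOf h]
    exact h1
  · have hU₁ : U₁ ≤ U.subgroupOf M := fun x hx => ((g.mem_U₁ x).1 hx).1
    have h4 := Subgroup.relIndex_mul_relIndex ((cent M U).subgroupOf M) U₁ (U.subgroupOf M)
      g.C_le hU₁
    rw [g.a_eq] at h4
    rw [h4, s.u_eq]
  · exact two_mul_le g.a_odd hp h.p_prime.one_lt g.a_dvd
  · exact relIndex_pos _ _

end Cfsg.Agent.OddOrderCharacters.PF11.NonGal
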