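import Cfsg.Agent.OddOrderCharacters.PF11.Defs
set_option linter.all false

/-!
# Peterfalvi, section 11: the sets `S₁ = S(HC)` and `S₂ = X(H₀C)`
-/

set_option autoImplicit false

open Cfsg Cfsg.Agent.OddOrderCharacters.PFDefs Cfsg.Agent.OddOrderCharacters.PF11.Defs

namespace Cfsg.Agent.OddOrderCharacters.PF11.SDefs

universe u

variable {G : Type u} [Group G]

/-- `S₁ = S(HC)`: induced from the nonprincipal irreducible characters of `M'` with `HC` in the kernel. -/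
def S₁ (M U : Subgroup G) [Fintype ↥M] : Set (↥M → ℂ) :=
  seqIndOf M ⁅M, M⁆ ⁅M, M⁆ (fittingHallOf M ⊔ cent M U)

/-- `S₂ = X(H₀C)`: induced from the irreducible characters of `M'` whose kernel contains `H₀C`, not `H`. -/
def S₂ (M U H₀ : Subgroup G) [Fintype ↥M] : Set (↥M → ℂ) :=
  seqIndOf M ⁅M, M⁆ (fittingHallOf M) (H₀ ⊔ cent M U)

theorem S₁_def (M U : Subgroup G) [Fintype ↥M] :
    S₁ M U = seqIndOf M ⁅M, M⁆ ⁅M, M⁆ (fittingHallOf M ⊔ cent M U) := rfl

theorem S₂_def (M U H₀ : Subgroup G) [Fintype ↥M] :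
    S₂ M U H₀ = seqIndOf M ⁅M, M⁆ (fittingHallOf M) (H₀ ⊔ cent M U) := rfl

end Cfsg.Agent.OddOrderCharacters.PF11.SDefs
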