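import Cfsg.Agent.OddOrderCharacters.PF11.Der2
import Cfsg.Agent.OddOrderCharacters.PF11.SDefs
import Cfsg.Agent.OddOrderCharacters.PF9.Cliff3
import Cfsg.Agent.OddOrderCharacters.PF9.CliffGen
import Cfsg.Agent.OddOrderCharacters.InducedSum
import Cfsg.Agent.OddOrderCharacters.InducedExpansion
import Cfsg.Agent.OddOrderCharacters.ConstantDegree
import Cfsg.Agent.OddOrderCharacters.PF4b.CohExt
set_option linter.all false

/-!
# Peterfalvi, section 11: the set `S₁ = S(HC)`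
-/

set_option autoImplicit false

open Cfsg Cfsg.Agent.Characters.Core Cfsg.Agent.OddOrderCharacters
  Cfsg.Agent.OddOrderCharacters.PFDefs Cfsg.Agent.OddOrderCharacters.PF11.Defs
  Cfsg.Agent.OddOrderCharacters.PF11.SDefs Cfsg.Agent.OddOrderCharacters.NormalInduced
open scoped commutatorElement

namespace Cfsg.Agent.OddOrderCharacters.PF11.SOne

universe u

/-! ### The abstract situation: `L / A` is a Frobenius group with abelian kernel `K / A` of prime index -/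

section abstract

variable {L : Type u} [Group L] {K A W₁ : Subgroup L}

/-- If `K/A` is abelian, `w` acts on it without fixed points, then every element of `K` is of the form
`w x w⁻¹ x⁻¹` modulo `A`. -/
theorem exists_comm_mem [Finite L] [hK : K.Normal] [hA : A.Normal]
    (hcomm : ∀ x ∈ K, ∀ y ∈ K, x * y * x⁻¹ * y⁻¹ ∈ A) {w : L}
    (hfree : ∀ x ∈ K, w * x * w⁻¹ * x⁻¹ ∈ A → x ∈ A) {y : L} (hy : y ∈ K) :
    ∃ x ∈ K, ∃ a ∈ A, y = (w * x * w⁻¹ * x⁻¹) * a := by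
  set π := QuotientGroup.mk' A with hπ
  have hker : ∀ x, π x = 1 ↔ x ∈ A := fun x => QuotientGroup.eq_one_iff x
  have hc : ∀ a ∈ K.map π, ∀ b ∈ K.map π, a * b = b * a := by
    rintro _ ⟨a, ha, rfl⟩ _ ⟨b, hb, rfl⟩
    have h1 := (hker _).2 (hcomm a ha b hb)
    rw [map_mul, map_mul, map_mul, map_inv, map_inv] at h1
    rw [mul_inv_eq_one, mul_inv_eq_iff_eq_mul] at h1
    exact h1
  let f : K.map π → K.map π := fun a => ⟨π w * a * (π w)⁻¹ * (a : L ⧸ A)⁻¹, by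
    obtain ⟨b, hb, hb'⟩ := a.2
    refine ⟨w * b * w⁻¹ * b⁻¹, K.mul_mem (hK.conj_mem b hb w) (K.inv_mem hb), ?_⟩
    rw [map_mul, map_mul, map_mul, map_inv, map_inv, hb']⟩
  have hinj : Function.Injective f := by
    intro a b hab
    have h1 : π w * (a : L ⧸ A) * (π w)⁻¹ * (a : L ⧸ A)⁻¹ =
        π w * (b : L ⧸ A) * (π w)⁻¹ * (b : L ⧸ A)⁻¹ := congrArg Subtype.val hab
    obtain ⟨x, hx, hx'⟩ := a.2
    obtain ⟨z, hz, hz'⟩ := b.2
    have hcab : (a : L ⧸ A)⁻¹ * b = b * (a : L ⧸ A)⁻¹ := by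
      have := hc a a.2 b b.2
      rw [inv_mul_eq_iff_eq_mul, ← mul_assoc, this, mul_inv_cancel_right]
    have hwa : π w * (a : L ⧸ A) * (π w)⁻¹ ∈ K.map π := by
      refine ⟨w * x * w⁻¹, hK.conj_mem x hx w, ?_⟩
      rw [map_mul, map_mul, map_inv, hx']
    have hwb : π w * (b : L ⧸ A) * (π w)⁻¹ ∈ K.map π := by
      refine ⟨w * z * w⁻¹, hK.conj_mem z hz w, ?_⟩
      rw [map_mul, map_mul, map_inv, hz']
    have h2 : π (w * (z⁻¹ * x) * w⁻¹ * (z⁻¹ * x)⁻¹) = 1 := by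
      simp only [map_mul, map_inv, hx', hz']
      have e1 : π w * ((b : L ⧸ A)⁻¹ * a) * (π w)⁻¹ =
          (π w * (b : L ⧸ A) * (π w)⁻¹)⁻¹ * (π w * (a : L ⧸ A) * (π w)⁻¹) := by group
      rw [e1, mul_inv_eq_one, inv_mul_eq_iff_eq_mul]
      have h3 : π w * (a : L ⧸ A) * (π w)⁻¹ =
          π w * (b : L ⧸ A) * (π w)⁻¹ * (b : L ⧸ A)⁻¹ * a := by
        rw [← h1, inv_mul_cancel_right]
      rw [h3, mul_assoc]
    have h4 := hfree _ (K.mul_mem (K.inv_mem hz) hx) ((hker _).1 h2)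
    have h5 := (hker _).2 h4
    rw [map_mul, map_inv, hx', hz', inv_mul_eq_one] at h5
    exact (Subtype.ext h5).symm
  have hsurj := Finite.surjective_of_injective hinj
  obtain ⟨⟨_, x, hx, rfl⟩, hx'⟩ := hsurj ⟨π y, y, hy, rfl⟩
  have h1 : π w * π x * (π w)⁻¹ * (π x)⁻¹ = π y := congrArg Subtype.val hx'
  refine ⟨x, hx, (w * x * w⁻¹ * x⁻¹)⁻¹ * y, ?_, by group⟩
  rw [← hker, map_mul, map_inv, map_mul, map_mul, map_mul, map_inv, map_inv, h1, inv_mul_cancel]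

/-- A nonprincipal irreducible character of `K` with `A` in its kernel is linear and induces irreducibly. -/
theorem ind_irr [Fintype L] [hK : K.Normal] [hA : A.Normal] (hAK : A ≤ K)
    (hcomm : ∀ x ∈ K, ∀ y ∈ K, x * y * x⁻¹ * y⁻¹ ∈ A) (hsup : K ⊔ W₁ = ⊤) (hinf : K ⊓ W₁ = ⊥)
    (hp : (Nat.card W₁).Prime) {w : L} (hw : w ∈ W₁)
    (hfree : ∀ x ∈ K, w * x * w⁻¹ * x⁻¹ ∈ A → x ∈ A) {θ : ↥K → ℂ} (hθ : IsIrrCharacter ↥K θ)
    (h1 : θ ≠ fun _ => 1) (hker : ∀ a : ↥K, (a : L) ∈ A → θ a = θ 1) :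
    θ 1 = 1 ∧ IsIrrCharacter L (indFun K θ) := by
  obtain ⟨f, rfl⟩ := PF9.CliffGen.exists_hom_of_ker hθ (fun y hy => hker y (by
    have h2 : (commutator ↥K).map K.subtype ≤ A := by
      rw [commutator_eq_closure, MonoidHom.map_closure, Subgroup.closure_le]
      rintro _ ⟨_, ⟨a, b, rfl⟩, rfl⟩
      exact hcomm a a.2 b b.2
    exact h2 ⟨y, hy, rfl⟩))
  refine ⟨by simp, ?_⟩
  rcases PF9.Cliff3.ind_irr_dichotomy hsup hinf hp hθ with h2 | h2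
  · exact h2.1
  · exfalso
    apply h1
    have h3 := h2.2.2 w hw
    funext y
    obtain ⟨x, hx, a, ha, hy⟩ := exists_comm_mem hcomm hfree y.2
    have h4 := congrFun h3 ⟨x, hx⟩
    rw [conjFn_apply] at h4
    have h5 := hker ⟨a, hAK ha⟩ ha
    have h6 : y = (⟨w * x * w⁻¹, hK.conj_mem x hx w⟩ : K) * (⟨x, hx⟩ : K)⁻¹ * ⟨a, hAK ha⟩ :=
      Subtype.ext hy
    have h7 : f (⟨w * x * w⁻¹, hK.conj_mem x hx w⟩ : K) = f ⟨x, hx⟩ := Units.ext h4
    have h8 : f ⟨a, hAK ha⟩ = 1 := Units.ext (by simpa using h5)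
    show ((f y : ℂˣ) : ℂ) = 1
    rw [h6, map_mul, map_mul, map_inv, h7, h8, mul_inv_cancel, mul_one, Units.val_one]

theorem mem_ind_irr [Fintype L] [hK : K.Normal] [hA : A.Normal] (hAK : A ≤ K)
    (hcomm : ∀ x ∈ K, ∀ y ∈ K, x * y * x⁻¹ * y⁻¹ ∈ A) (hsup : K ⊔ W₁ = ⊤) (hinf : K ⊓ W₁ = ⊥)
    (hp : (Nat.card W₁).Prime) {w : L} (hw : w ∈ W₁)
    (hfree : ∀ x ∈ K, w * x * w⁻¹ * x⁻¹ ∈ A → x ∈ A) {ζ : L → ℂ} (hζ : ζ ∈ inducedIrrAbove K A) :
    IsIrrCharacter L ζ ∧ ζ 1 = (Nat.card W₁ : ℂ) := by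
  obtain ⟨θ, hθ, h1, hker, rfl⟩ := hζ
  have h2 := ind_irr hAK hcomm hsup hinf hp hw hfree hθ h1 hker
  refine ⟨h2.2, ?_⟩
  rw [IndRes.indFun_apply_one, h2.1, mul_one, PF9.Cliff3.index_eq hsup hinf]

theorem finite_above [Fintype L] (K A : Subgroup L) [K.Normal] [A.Normal] :
    (inducedIrrAbove K A).Finite := by
  refine (InducedExpansion.finite_indAll K).subset ?_
  rintro φ ⟨θ, h1, -, -, h3⟩
  exact ⟨θ, h1, h3⟩

theorem ncard_eq [Fintype L] [hK : K.Normal] [hA : A.Normal] (hAK : A ≤ K)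
    (hcomm : ∀ x ∈ K, ∀ y ∈ K, x * y * x⁻¹ * y⁻¹ ∈ A) (hsup : K ⊔ W₁ = ⊤) (hinf : K ⊓ W₁ = ⊥)
    (hp : (Nat.card W₁).Prime) {w : L} (hw : w ∈ W₁)
    (hfree : ∀ x ∈ K, w * x * w⁻¹ * x⁻¹ ∈ A → x ∈ A) :
    Nat.card W₁ * (inducedIrrAbove K A).ncard + 1 = A.relIndex K := by
  classical
  have hfin := finite_above K A
  have hirr : ∀ ζ ∈ inducedIrrAbove K A, IsIrrCharacter L ζ ∧ ζ 1 = (Nat.card W₁ : ℂ) :=
    fun ζ hζ => mem_ind_irr hAK hcomm hsup hinf hp hw hfree hζ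
  have h1 := InducedSum.sum_degree_sq_div_norm K A hAK hfin.toFinset (by simp)
    (fun φ hφ ψ hψ hne => classInner_irr_ne (hirr φ (by simpa using hφ)).1
      (hirr ψ (by simpa using hψ)).1 hne)
  rw [Finset.sum_congr rfl fun φ hφ => by
    rw [(hirr φ (by simpa using hφ)).2, classInner_irr_self (hirr φ (by simpa using hφ)).1, div_one],
    Finset.sum_const, PF9.Cliff3.index_eq hsup hinf, nsmul_eq_mul,
    ← Set.ncard_eq_toFinset_card _ hfin] at h1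
  have h2 : (Nat.card W₁ : ℂ) ≠ 0 := Nat.cast_ne_zero.2 hp.ne_zero
  have h3 : (Nat.card W₁ : ℂ) * ((Nat.card W₁ : ℂ) * (inducedIrrAbove K A).ncard) =
      (Nat.card W₁ : ℂ) * ((A.relIndex K : ℂ) - 1) := by
    rw [← h1]; ring
  have h4 := mul_left_cancel₀ h2 h3
  have h5 : ((Nat.card W₁ * (inducedIrrAbove K A).ncard + 1 : ℕ) : ℂ) = ((A.relIndex K : ℕ) : ℂ) := by
    push_cast
    rw [h4]; ring
  exact_mod_cast h5

end abstract

/-! ### Members of `seqIndOf` whose second condition is non-triviality -/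

theorem seqInd_eq_above {L : Type u} [Group L] [Fintype L] (K A : Subgroup L) :
    seqIndD K K A = inducedIrrAbove K A := by
  ext φ
  constructor
  · rintro ⟨θ, hθ, ⟨x, -, hx⟩, hker, rfl⟩
    refine ⟨θ, hθ, ?_, hker, rfl⟩
    rintro rfl
    exact hx rfl
  · rintro ⟨θ, hθ, hne, hker, rfl⟩
    refine ⟨θ, hθ, ?_, hker, rfl⟩
    by_contra hcon
    push Not at hcon
    apply hne
    have := Fintype.ofFinite ↥K
    have h1 : ∀ x : ↥K, θ x = θ 1 := fun x => hcon x x.2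
    have h2 := classInner_irr_self hθ
    obtain ⟨n, hn, hn'⟩ := isIrr_apply_one hθ
    have h3 : θ = (n : ℂ) • (1 : ↥K → ℂ) := by
      funext x
      rw [h1 x, hn']
      simp
    have h4 : classInner (1 : ↥K → ℂ) 1 = 1 := classInner_irr_self isIrr_one
    rw [h3, classInner_smul_left, classInner_smul_right, h4, Complex.conj_natCast, mul_one] at h2
    have h5 : n * n = 1 := by exact_mod_cast h2
    have h6 : n = 1 := Nat.eq_one_of_mul_eq_one_left h5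
    rw [h3, h6]
    funext x
    simp

variable {G : Type u} [Group G] {M U W W₁ W₂ H₀ : Subgroup G} {p q : ℕ}

/-- `w ∈ W₁ \ 1` acts without fixed points on `M' / HC`. -/
theorem free (h : Hyp M U W₁ W₂ H₀ p q) {w : G} (hw : w ∈ W₁) (hw1 : w ≠ 1) {x : G}
    (hx : x ∈ ⁅M, M⁆) (hc : w * x * w⁻¹ * x⁻¹ ∈ fittingHallOf M ⊔ cent M U) :
    x ∈ fittingHallOf M ⊔ cent M U := by
  have hfin := h.finite
  set D := fittingHallOf M ⊔ cent M U with hD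
  have hDn : ∀ x ∈ M, ∀ y ∈ D, x * y * x⁻¹ ∈ D := Basic.normal_cent h _ le_rfl (Basic.H_conj M)
  have hsol : Group.IsSolvable W₁ := by
    have := h.typeP.W₁_cyclic
    let _ : CommGroup W₁ := IsCyclic.commGroup
    infer_instance
  have hWM := Basic.W₁_le_M h
  have hM'M : ⁅M, M⁆ ≤ M := Subgroup.commutator_le_self M
  have hcop : (Nat.card W₁).Coprime (Nat.card ↥⁅M, M⁆) := by
    rw [h.card_W₁]
    exact (Basic.coprime_W₁ h).symm
  -- all elements of `W₁`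
  have hall : ∀ a ∈ W₁, a * x * a⁻¹ * x⁻¹ ∈ D := by
    intro a ha
    have hfact : Fact (Nat.card W₁).Prime := ⟨h.card_W₁ ▸ h.q_prime⟩
    have hne : (⟨w, hw⟩ : W₁) ≠ 1 := fun h0 => hw1 (congrArg Subtype.val h0)
    obtain ⟨n, hn⟩ := mem_powers_of_prime_card (G := W₁) rfl hne (g' := ⟨a, ha⟩)
    have hn' : w ^ n = a := congrArg Subtype.val hn
    rw [← hn']
    clear hn hn'
    induction n with
    | zero => simp only [pow_zero, one_mul, inv_one, mul_one, mul_inv_cancel]; exact D.one_mem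
    | succ n ih =>
      have e : w ^ (n + 1) * x * (w ^ (n + 1))⁻¹ * x⁻¹ =
          (w ^ n * (w * x * w⁻¹ * x⁻¹) * (w ^ n)⁻¹) * (w ^ n * x * (w ^ n)⁻¹ * x⁻¹) := by
        rw [pow_succ]; group
      rw [e]
      exact D.mul_mem (hDn _ (M.pow_mem (hWM hw) n) _ hc) ih
  obtain ⟨c, hc, hxc⟩ := Cfsg.Agent.S0022.result W₁ ⁅M, M⁆
    (Basic.le_normalizer_of_conj (fun a ha y hy => Basic.commutator_conj M a (hWM ha) y hy)) hcop
    (Or.inl hsol) D (Basic.HC_le h)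
    (Basic.le_normalizer_of_conj (fun a ha y hy => hDn a (hM'M ha) y hy))
    (Basic.le_normalizer_of_conj (fun a ha y hy => hDn a (hWM ha) y hy)) x hx hall
  have h1 : c ∈ W₂ := by
    rw [← h.typeP.W₂_centralizer w hw hw1]
    refine ⟨hc.1, ?_⟩
    show c ∈ Subgroup.centralizer _
    rw [Subgroup.mem_centralizer_singleton_iff]
    exact (Subgroup.mem_centralizer_iff.1 hc.2 w hw).symm
  have h2 : x = c * (x⁻¹ * c)⁻¹ := by group
  rw [h2]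
  exact D.mul_mem (((Basic.W₂_le h).trans le_sup_left) h1) (D.inv_mem hxc)

/-- The abstract situation inside `↥M`. -/
structure Sit (M U W₁ : Subgroup G) (w : ↥M) : Prop where
  K_normal : (⁅M, M⁆.subgroupOf M).Normal
  A_normal : ((fittingHallOf M ⊔ cent M U).subgroupOf M).Normal
  le : (fittingHallOf M ⊔ cent M U).subgroupOf M ≤ ⁅M, M⁆.subgroupOf M
  comm : ∀ x ∈ ⁅M, M⁆.subgroupOf M, ∀ y ∈ ⁅M, M⁆.subgroupOf M,
    x * y * x⁻¹ * y⁻¹ ∈ (fittingHallOf M ⊔ cent M U).subgroupOf M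
  sup : ⁅M, M⁆.subgroupOf M ⊔ W₁.subgroupOf M = ⊤
  inf : ⁅M, M⁆.subgroupOf M ⊓ W₁.subgroupOf M = ⊥
  prime : (Nat.card (W₁.subgroupOf M)).Prime
  mem : w ∈ W₁.subgroupOf M
  free : ∀ x ∈ ⁅M, M⁆.subgroupOf M, w * x * w⁻¹ * x⁻¹ ∈ (fittingHallOf M ⊔ cent M U).subgroupOf M →
    x ∈ (fittingHallOf M ⊔ cent M U).subgroupOf M

theorem card_W₁' (h : Hyp M U W₁ W₂ H₀ p q) : Nat.card (W₁.subgroupOf M) = q := by
  rw [← h.card_W₁]
  exact Nat.card_congr (Subgroup.subgroupOfEquivOfLe (Basic.W₁_le_M h)).toEquiv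

theorem sit (h : Hyp M U W₁ W₂ H₀ p q) : ∃ w : ↥M, Sit M U W₁ w := by
  have hfin := h.finite
  obtain ⟨w, hw⟩ := Subgroup.ne_bot_iff_exists_ne_one.1 h.typeP.W₁_ne
  have hw1 : (w : G) ≠ 1 := fun h => hw (Subtype.ext h)
  have hWM := Basic.W₁_le_M h
  refine ⟨⟨w, hWM w.2⟩, ?_, ?_, ?_, ?_, ?_, ?_, ?_, ?_, ?_⟩
  · exact ⟨fun y hy x => Basic.commutator_conj M x x.2 y hy⟩
  · exact ⟨fun y hy x => Basic.normal_cent h _ le_rfl (Basic.H_conj M) x x.2 y hy⟩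
  · exact fun y hy => Basic.HC_le h hy
  · intro x hx y hy
    exact Basic.derived_two_le h (Subgroup.commutator_mem_commutator hx hy)
  · rw [← Subgroup.subgroupOf_sup (Subgroup.commutator_le_self M) hWM, Basic.sup_W₁ h,
      Subgroup.subgroupOf_self]
  · rw [eq_bot_iff]
    intro x hx
    rw [Subgroup.mem_bot]
    apply Subtype.ext
    have h1 : (x : G) ∈ ⁅M, M⁆ ⊓ W₁ := hx
    rw [h.typeP.W₁_compl.2.2.1] at h1
    exact Subgroup.mem_bot.1 h1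
  · rw [card_W₁' h]; exact h.q_prime
  · exact w.2
  · intro x hx hc
    exact free h w.2 hw1 hx hc

variable [Fintype G] [Fintype ↥M]
  {A A₀ : Set G} {R : G → Subgroup G} {μ : (↥W →* ℂˣ) → (↥M → ℂ)} {δ : (↥W →* ℂˣ) → ℤ}
  {η : (↥W →* ℂˣ) → (G → ℂ)}

omit [Fintype G] in
theorem S₁_eq (M U : Subgroup G) [Fintype ↥M] : S₁ M U = inducedIrrAbove (⁅M, M⁆.subgroupOf M)
    ((fittingHallOf M ⊔ cent M U).subgroupOf M) := seqInd_eq_above _ _

omit [Fintype G] in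
theorem S₁_irr (h : Hyp M U W₁ W₂ H₀ p q) {ζ : ↥M → ℂ} (hζ : ζ ∈ S₁ M U) :
    IsIrrCharacter ↥M ζ ∧ ζ 1 = q := by
  obtain ⟨w, s⟩ := sit h
  have := s.K_normal
  have := s.A_normal
  rw [S₁_eq] at hζ
  rw [← card_W₁' h]
  exact mem_ind_irr s.le s.comm s.sup s.inf s.prime s.mem s.free hζ

omit [Fintype G] in
theorem S₁_finite (h : Hyp M U W₁ W₂ H₀ p q) : (S₁ M U).Finite := by
  obtain ⟨w, s⟩ := sit h
  have := s.K_normal
  have := s.A_normal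
  rw [S₁_eq]
  exact finite_above _ _

omit [Fintype G] in
theorem S₁_ncard (h : Hyp M U W₁ W₂ H₀ p q) :
    q * (S₁ M U).ncard + 1 = (cent M U).relIndex U := by
  obtain ⟨w, s⟩ := sit h
  have := s.K_normal
  have := s.A_normal
  have h1 := ncard_eq s.le s.comm s.sup s.inf s.prime s.mem s.free
  rw [card_W₁' h, ← S₁_eq] at h1
  rw [h1, ← Basic.relIndex_HC h]
  exact Subgroup.relIndex_subgroupOf (Subgroup.commutator_le_self M)

omit [Fintype G] in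
theorem S₁_even (h : Hyp M U W₁ W₂ H₀ p q) : Even (S₁ M U).ncard ∧ 2 ≤ (S₁ M U).ncard := by
  have h1 := S₁_ncard h
  have h2 := Basic.u_modEq h
  have h3 := Basic.u_gt h
  have hq := h.q_prime.pos
  rw [← h1] at h2 h3
  constructor
  · have h4 : q * (S₁ M U).ncard ≡ 0 [MOD (2 * q)] := Nat.ModEq.add_right_cancel' 1 h2
    rw [Nat.modEq_zero_iff_dvd, mul_comm 2 q] at h4
    exact even_iff_two_dvd.2 (Nat.dvd_of_mul_dvd_mul_left hq h4)
  · have h4 : q * 2 ≤ q * (S₁ M U).ncard := by omega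
    exact Nat.le_of_mul_le_mul_left h4 hq

theorem S₁_conj (h : Hyp M U W₁ W₂ H₀ p q) {ζ : ↥M → ℂ} (hζ : ζ ∈ S₁ M U) :
    conjFun ζ ∈ S₁ M U ∧ conjFun ζ ≠ ζ :=
  ⟨PF4b.Subcoherent.conjFun_mem hζ,
    PF4b.Subcoherent.conj_ne_irr (Basic.odd_card h M) hζ (S₁_irr h hζ).1⟩

omit [Fintype G] in
theorem S₁_subset (M U : Subgroup G) [Fintype ↥M] : S₁ M U ⊆ seqIndOf M ⁅M, M⁆ ⁅M, M⁆ ⊥ := by
  rintro φ ⟨θ, hθ, hx, -, rfl⟩
  refine ⟨θ, hθ, hx, ?_, rfl⟩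
  intro y hy
  have h1 : y = 1 := by
    have h2 : ((y : ↥M) : G) ∈ (⊥ : Subgroup G) := hy
    exact Subtype.ext (Subtype.ext (Subgroup.mem_bot.mp h2))
  rw [h1]

omit [Fintype G] in
theorem union_eq (h : Hyp M U W₁ W₂ H₀ p q) :
    S₁ M U ∪ S₂ M U H₀ = seqIndOf M ⁅M, M⁆ ⁅M, M⁆ (H₀ ⊔ cent M U) := by
  have hfin := h.finite
  apply Set.Subset.antisymm
  · rintro φ (⟨θ, hθ, hx, hy, rfl⟩ | ⟨θ, hθ, ⟨x, hx, hx'⟩, hy, rfl⟩)
    · exact ⟨θ, hθ, hx, fun y hy' => hy y (sup_le_sup_right h.H₀_le _ hy'), rfl⟩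
    · exact ⟨θ, hθ, ⟨x, x.2, hx'⟩, hy, rfl⟩
  · rintro φ ⟨θ, hθ, hx, hy, rfl⟩
    by_cases hH : ∀ x : ↥(⁅M, M⁆.subgroupOf M), ((x : ↥M) : G) ∈ fittingHallOf M → θ x = θ 1
    · left
      refine ⟨θ, hθ, hx, fun y hy' => ?_, rfl⟩
      obtain ⟨a, ha, c, hc, hac⟩ := Noncoherence.exists_mul_of_mem_sup
        (fun a ha c hc => (Basic.cent_comm a ha c hc).symm) _ hy'
      have haM : a ∈ M := Basic.H_le_M M ha
      have hcM : c ∈ M := Basic.U_le_M h (Basic.cent_le_U hc)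
      have e : y = (⟨⟨a, haM⟩, Basic.H_le h ha⟩ : ↥(⁅M, M⁆.subgroupOf M)) *
          ⟨⟨c, hcM⟩, Basic.U_le h (Basic.cent_le_U hc)⟩ := Subtype.ext (Subtype.ext hac)
      rw [e, PF4b.Prime.char_mul_of_ker (isIrr_isCharacter hθ) (hH _ ha)]
      exact hy _ (le_sup_right (a := H₀) hc)
    · right
      push Not at hH
      exact ⟨θ, hθ, hH, hy, rfl⟩

/-- the coherent extension on `S₁` -/
theorem S₁_coherent (h : Hyp M U W₁ W₂ H₀ p q)
    (hD : PrimeDadeHyp M ⁅M, M⁆ ⁅M, M⁆ A A₀ W W₁ W₂ R)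
    (_hμ : PrimeTIFam M ⁅M, M⁆ W W₁ W₂ μ δ) (hη : CyclicTIFam W W₁ W₂ η) :
    ∃ t : (↥M → ℂ) → (G → ℂ), IsLinearIsometryOn (zspan (S₁ M U)) t ∧
      (∀ α ∈ zspanOn (S₁ M U) {1}ᶜ, t α = dadeIsometry A₀ M R α) ∧
      (∀ ζ ∈ S₁ M U, conjFun (t ζ) = t (conjFun ζ)) ∧
      ∀ ζ ∈ S₁ M U, ∀ ω, classInner (t ζ) (η ω) = 0 := by
  have hodd := Basic.odd_card h M
  obtain ⟨hτ, hτ1⟩ := PF4b.Prime.prDade_isometry hD (S₁_subset M U)
  have h2 : ∃ a ∈ S₁ M U, ∃ b ∈ S₁ M U, a ≠ b := by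
    have h3 := (S₁_even h).2
    have h4 : (S₁ M U).Nonempty := by
      rw [← Set.ncard_pos (S₁_finite h)]
      omega
    obtain ⟨a, ha⟩ := h4
    exact ⟨a, ha, conjFun a, (S₁_conj h ha).1, (S₁_conj h ha).2.symm⟩
  obtain ⟨-, t, ht, hext⟩ := ConstantDegree.constant_degree_coherent (S₁ M U)
    (fun χ hχ => (S₁_irr h hχ).1) h2
    (fun a ha b hb => by rw [(S₁_irr h ha).2, (S₁_irr h hb).2]) _ hτ hτ1
  refine ⟨t, ht, hext, ?_, ?_⟩
  · intro ζ hζ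
    refine PF4b.CohExt.conj_Dade_coherent hD.dade
      (fun χ hχ => isIrr_isCharacter (S₁_irr h hχ).1) ?_ (fun χ hχ => (S₁_conj h hχ).2) ?_
      (fun χ hχ => (S₁_conj h hχ).1) ht hext hζ (S₁_irr h hζ).1
    · intro χ hχ φ hφ hne
      exact classInner_irr_ne (S₁_irr h hχ).1 (S₁_irr h hφ).1 hne
    · intro χ hχ x hx1 hxA
      exact PF4b.Prime.prDade_seqInd_on hD (S₁_subset M U hχ) x hx1
        (fun h' => hxA (PF4b.Prime.A_subset hD h'))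
  · intro ζ hζ ω
    exact PF4b.CohExt.coherent_ortho_cycTIiso hD hη hodd (S₁_subset M U)
      (fun χ hχ => (S₁_conj h hχ).1) ht hext hζ (S₁_irr h hζ).1 ω

end Cfsg.Agent.OddOrderCharacters.PF11.SOne
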