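import Cfsg.Agent.OddOrderCharacters.PF11.Ctx_mg
import Cfsg.Agent.OddOrderCharacters.CoherenceStep
import Cfsg.Agent.S1519
import Cfsg.Agent.OddOrderCharacters.PF8.DadeHyp_mg
import Cfsg.Agent.OddOrderCharacters.PF9.Defs
import Cfsg.Agent.SolvableStructure.AbelianSocle
import Cfsg.Agent.OddOrderCharacters.PF9.Mackey
import Cfsg.Agent.OddOrderCharacters.InducedSum
import Cfsg.Agent.OddOrderCharacters.InnerLite
import Cfsg.Agent.S1486
import Cfsg.Agent.OddOrderCharacters.PF9.NonGalois_mg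
import Cfsg.Agent.OddOrderCharacters.PF9.Reducible
import Cfsg.Agent.OddOrderCharacters.SystemRestrict
import Cfsg.Agent.S1517
import Cfsg.Agent.OddOrderCharacters.PF9.Kernel
import Cfsg.Agent.OddOrderCharacters.PF9.Three
import Cfsg.Agent.OddOrderCharacters.PF4b.CohExt
import Cfsg.Agent.S1502
import Cfsg.Agent.OddOrderCharacters.PF11.Env
import Cfsg.Agent.OddOrderCharacters.PF10.Noncoh
import Cfsg.Agent.OddOrderCharacters.TypeExclusive
set_option linter.all false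

-- part: OddOrderCharacters/PF11/HypOf
section
/-!
# The standing hypotheses of section 11 for a maximal subgroup of type III or IV
-/

set_option autoImplicit false

open Cfsg

namespace Cfsg.Agent.OddOrderCharacters.PF11.HypOf

open Cfsg.Agent.OddOrderCharacters.PF11.Defs
open Cfsg.Agent.OddOrderCharacters Cfsg.Agent.OddOrderLocal

universe u

variable {G : Type u} [Group G]

/-- `M` of type III or IV with `|W₂|` a prime: the standing hypotheses of section 11. -/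
theorem exists_hyp_of_prime [Finite G] (hG : Odd (Nat.card G)) {M W₁ U W₂ : Subgroup G}
    (hsol : Group.IsSolvable ↥M) (hP : IsTypePWith M W₁ U W₂)
    (h : IsOfTypeII M ∨ IsOfTypeIII M ∨ IsOfTypeIV M) (hp : (Nat.card ↥W₂).Prime) :
    ∃ H₀ : Subgroup G, Hyp M U W₁ W₂ H₀ (Nat.card W₂) (Nat.card W₁) := by
  have hodd : Odd (Nat.card ↥M) := by
    rw [← Nat.not_even_iff_odd] at hG ⊢
    exact fun h2 => hG (h2.trans_dvd (Subgroup.card_subgroup_dvd_card _))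
  obtain ⟨hU, hW₁⟩ := PF9.Three.U_ne_and_W₁_prime hP h
  have h9 := PF9.Three.hyp_of_typeP hodd hP hU hW₁ (PF9.Three.cent_eq_of_prime hP hU hp)
  obtain ⟨K₀, hK⟩ := PF9.Kernel.exists_kernel h9
  have hKn := hK.normal
  have hle : K₀ ≤ (fittingHallOf M).subgroupOf M := hK.lt.le
  have hmap : K₀.map M.subtype ≤ fittingHallOf M := by
    rintro _ ⟨y, hy, rfl⟩
    exact hle hy
  have hback : (K₀.map M.subtype).subgroupOf M = K₀ := by
    rw [Subgroup.subgroupOf, Subgroup.comap_map_eq_self_of_injective M.subtype_injective]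
  have hUM : U ≤ M := TypeP.U_le hP
  refine ⟨K₀.map M.subtype, ?_⟩
  exact
    { finite := inferInstance
      odd := hG
      solvable := hsol
      typeP := hP
      U_ne := hU
      p_prime := hp
      q_prime := hW₁
      card_W₁ := rfl
      card_W₂ := rfl
      H₀_le := hmap
      H₀_ne := by
        intro heq
        apply hK.lt.ne
        rw [← hback, heq]
      H₀_normal := by
        rintro x hx _ ⟨y, hy, rfl⟩
        exact ⟨⟨x, hx⟩ * y * ⟨x, hx⟩⁻¹, hKn.conj_mem y hy _, rfl⟩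
      chief := by
        intro N h1 h2 h3
        have hNM : N ≤ M := h2.trans (ToSetup.H_le M)
        have h4 : (N.subgroupOf M).Normal := ⟨fun n hn g => h3 g g.2 n hn⟩
        have h5 : K₀ ≤ N.subgroupOf M := fun y hy => h1 ⟨y, hy, rfl⟩
        have h6 : N.subgroupOf M ≤ (fittingHallOf M).subgroupOf M := fun y hy => h2 hy
        rcases hK.max _ h4 h5 h6 with h7 | h7
        · left
          rw [← h7, Subgroup.map_subgroupOf_eq_of_le hNM]
        · right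
          apply_fun Subgroup.map M.subtype at h7
          rwa [Subgroup.map_subgroupOf_eq_of_le hNM,
            Subgroup.map_subgroupOf_eq_of_le (ToSetup.H_le M)] at h7
      cent_le := by
        rintro x ⟨hx1, hx2⟩
        have hxM : x ∈ M := ToSetup.H_le M hx1
        have h4 : (⟨x, hxM⟩ : ↥M) ∈ K₀ := by
          apply hK.cent_le
          exact ⟨hx1, (PF9.Three.mem_centralizer_subgroupOf hUM ⟨x, hxM⟩).2 hx2⟩
        exact ⟨⟨x, hxM⟩, h4, rfl⟩ }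

end Cfsg.Agent.OddOrderCharacters.PF11.HypOf
end

-- part: OddOrderCharacters/PF9/Border
section
/-!
# The borderline case of the coherence extension criterion (for Peterfalvi (9.11))
-/

set_option autoImplicit false

open scoped ComplexConjugate
open Cfsg Cfsg.Agent.OddOrderCharacters.InnerLite Cfsg.Agent.OddOrderCharacters.CoherenceExt
open Cfsg.Agent.OddOrderCharacters.CoherenceStep

namespace Cfsg.Agent.OddOrderCharacters.PF9.Border

theorem int_zero_or_one {lam : ℤ} {D K : ℝ} (hK : 0 ≤ K) (hD0 : 0 < D) (hD : K ≤ D)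
    (h : (lam : ℝ) ^ 2 * D ≤ K * lam) : lam = 0 ∨ lam = 1 := by
  rcases le_or_gt lam 0 with h0 | h0
  · left
    by_contra hne
    have h1 : lam ≤ -1 := by omega
    have h2 : (lam : ℝ) ≤ -1 := by exact_mod_cast h1
    have : (0 : ℝ) < (lam : ℝ) ^ 2 * D := by
      have : (lam : ℝ) ≠ 0 := by linarith
      positivity
    nlinarith
  · right
    by_contra hne
    have h1 : 2 ≤ lam := by omega
    have h2 : (2 : ℝ) ≤ lam := by exact_mod_cast h1
    have h3 : K * lam ≤ D * lam := mul_le_mul_of_nonneg_right hD (by linarith)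
    have h4 : 0 < D * ((lam : ℝ) * (lam - 1)) :=
      mul_pos hD0 (mul_pos (by linarith) (by linarith))
    nlinarith

variable {L : Type*} [Group L] [Fintype L] {G : Type*} [Group G] [Fintype G]
variable {S : Set (L → ℂ)} {τ : (L → ℂ) → (G → ℂ)} {R : (L → ℂ) → Finset (G → ℂ)}

theorem main_step_le (hS : IsCoherenceSystem S τ R) (d n : (L → ℂ) → ℕ)
    (hd : ∀ φ ∈ S, φ 1 = (d φ : ℂ)) (hn : ∀ φ ∈ S, classInner φ φ = (n φ : ℂ))
    (S₁ : Finset (L → ℂ)) (hS₁ : ↑S₁ ⊆ S) (hS₁c : ∀ φ ∈ S₁, conjFun φ ∈ S₁)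
    {τ₁ : (L → ℂ) → (G → ℂ)} (hτ₁ : IsLinearIsometryOn (zspan (S₁ : Set (L → ℂ))) τ₁)
    (hext : ∀ α ∈ zspanOn (S₁ : Set (L → ℂ)) {1}ᶜ, τ₁ α = τ α)
    (χ : L → ℂ) (hχ : χ ∈ S) (hχ₁ : χ ∉ S₁) (hχ₂ : conjFun χ ∉ S₁) (χ₁ : L → ℂ)
    (hχ₁S : χ₁ ∈ S₁) (a : ℕ) (ha : d χ = d χ₁ * a)
    (hineq : (2 * d χ * d χ₁ : ℝ) ≤ ∑ φ ∈ S₁, ((d φ : ℝ) ^ 2 / (n φ : ℝ))) :
    classInner (proj (R χ) (τ (χ - a • χ₁))) (proj (R χ) (τ (χ - a • χ₁))) = n χ ∧
    (proj (R χ) (τ (χ - a • χ₁)) = τ (χ - a • χ₁) + a • τ₁ χ₁ ∨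
      ((2 * d χ * d χ₁ : ℝ) = ∑ φ ∈ S₁, ((d φ : ℝ) ^ 2 / (n φ : ℝ)) ∧
      (d χ₁ : ℂ) • (proj (R χ) (τ (χ - a • χ₁)) - τ (χ - a • χ₁)) =
        ((a : ℂ) * d χ₁) • τ₁ χ₁ - ∑ ξ ∈ S₁, ((d ξ : ℂ) / n ξ) • τ₁ ξ)) := by
  classical
  have hcχ : conjFun χ ∈ S := hS.conj_mem χ hχ
  have hneχ : χ ≠ conjFun χ := fun h => hS.conj_ne χ hχ h.symm
  have hχ₁' : χ₁ ∈ S := hS₁ hχ₁S
  -- orthogonality relations
  have oχ : ∀ ξ ∈ S₁, classInner ξ χ = 0 := fun ξ hξ =>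
    hS.orthogonal ξ (hS₁ hξ) χ hχ (fun h => hχ₁ (h ▸ hξ))
  have oχc : ∀ ξ ∈ S₁, classInner ξ (conjFun χ) = 0 := fun ξ hξ =>
    hS.orthogonal ξ (hS₁ hξ) _ hcχ (fun h => hχ₂ (h ▸ hξ))
  have oχ' : ∀ ξ ∈ S₁, classInner χ ξ = 0 := fun ξ hξ => by
    rw [← ci_conj_symm, oχ ξ hξ, map_zero]
  have oχc' : ∀ ξ ∈ S₁, classInner (conjFun χ) ξ = 0 := fun ξ hξ => by
    rw [← ci_conj_symm, oχc ξ hξ, map_zero]
  -- degrees
  have hd1 : (d χ₁ : ℝ) ≠ 0 := by
    have := one_ne_zero_of_mem hS hχ₁'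
    rw [hd _ hχ₁'] at this
    exact_mod_cast this
  have hnpos : ∀ φ ∈ S, (n φ : ℂ) ≠ 0 := fun φ hφ => by
    rw [← hn φ hφ]; exact ci_self_ne (ne_zero_of_mem hS hφ)
  -- the vector v
  have hmv : χ - a • χ₁ ∈ zspanOn S {1}ᶜ := by
    refine ⟨zs_sub (zs_mem hχ) (zs_nsmul a (zs_mem hχ₁')), fun x hx => ?_⟩
    have hx1 : x = 1 := by simpa using hx
    subst hx1
    rw [Pi.sub_apply, Pi.smul_apply, hd χ hχ, hd χ₁ hχ₁', ha]
    push_cast
    simp [mul_comm]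
  have hmδ : χ - conjFun χ ∈ zspanOn S {1}ᶜ := conj_sub_mem hS (hd χ hχ) hχ hcχ
  set v := τ (χ - a • χ₁) with hv
  set X := proj (R χ) v with hX
  have hR := hS.orthonormal χ hχ
  -- Peterfalvi (5.4)
  have hA := Cfsg.Agent.S1515.result S τ R hS χ hχ (a • χ₁) (zs_nsmul a (zs_mem hχ₁'))
    (by rw [ci_nsmul_right, oχ' χ₁ hχ₁S, mul_zero]) (by rw [ci_nsmul_right, oχc' χ₁ hχ₁S, mul_zero])
    τ (io_mono hS.isometry (zo_span (by
      intro x hx
      rcases hx with rfl | hx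
      · exact hmv
      · rw [Set.mem_singleton_iff] at hx; rw [hx]; exact hmδ))) (fun _ => rfl)
  have hA1 : (n χ : ℝ) ≤ ∑ α ∈ R χ, ‖classInner v α‖ ^ 2 := by
    have := hA.1
    rwa [hn χ hχ, Complex.natCast_re] at this
  set P : ℝ := ∑ α ∈ R χ, ‖classInner v α‖ ^ 2 with hP
  have hXX : classInner X X = (P : ℂ) := ci_proj_proj hR v
  have hvv : classInner v v = ((n χ + a ^ 2 * n χ₁ : ℝ) : ℂ) := by
    rw [hv, hS.isometry.2.2.1 _ hmv _ hmv, ci_sub_left, ci_sub_right, ci_sub_right,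
      ci_nsmul_left, ci_nsmul_left, ci_nsmul_right, ci_nsmul_right, oχ' χ₁ hχ₁S, oχ χ₁ hχ₁S,
      hn χ hχ, hn χ₁ hχ₁']
    push_cast
    ring
  set Y := X - v with hY
  have hYY : classInner Y Y = ((n χ + a ^ 2 * n χ₁ - P : ℝ) : ℂ) := by
    rw [hY, hX, ci_sub_proj hR, hvv, ← hP, ← Complex.ofReal_sub]
  -- orthogonality of `X` to the image of `S₁`
  have hτ₁c : ∀ ξ ∈ S₁, τ₁ (ξ - conjFun ξ) = τ (ξ - conjFun ξ) := fun ξ hξ =>
    hext _ (conj_sub_mem hS (hd ξ (hS₁ hξ)) hξ (hS₁c ξ hξ))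
  have hort : ∀ ξ ∈ S₁, ∀ β ∈ R χ, classInner (τ₁ ξ) β = 0 := fun ξ hξ =>
    map_orthogonal hS (hS₁ hξ) hχ (oχ ξ hξ) (oχc ξ hξ) (T := (S₁ : Set (L → ℂ))) hξ (hS₁c ξ hξ)
      hτ₁ (hτ₁c ξ hξ)
  have hXξ : ∀ ξ ∈ S₁, classInner X (τ₁ ξ) = 0 := by
    intro ξ hξ
    rw [hX, ci_proj_left]
    refine Finset.sum_eq_zero (fun α hα => ?_)
    rw [← ci_conj_symm (τ₁ ξ) α, hort ξ hξ α hα, map_zero, mul_zero]
  -- the integer lambda
  obtain ⟨b₁, hb₁⟩ : ∃ b : ℤ, classInner Y (τ₁ χ₁) = b := by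
    have hg := ci_gen_int (hS.isometry.2.2.2 _ hmv) (hτ₁.2.2.2 _ (zs_mem hχ₁S))
    obtain ⟨m, hm⟩ := hg
    refine ⟨-m, ?_⟩
    rw [hY, ci_sub_left, hXξ χ₁ hχ₁S, zero_sub, hv, hm]
    push_cast
    rfl
  set lam : ℤ := a * n χ₁ - b₁ with hlam
  have hb : ∀ ξ ∈ S₁, (d χ₁ : ℂ) * classInner Y (τ₁ ξ) =
      -(d ξ : ℂ) * lam + a * d χ₁ * classInner χ₁ ξ := by
    intro ξ hξ
    have hmem : d ξ • χ₁ - d χ₁ • ξ ∈ zspanOn (S₁ : Set (L → ℂ)) {1}ᶜ := by
      refine ⟨zs_sub (zs_nsmul _ (zs_mem hχ₁S)) (zs_nsmul _ (zs_mem hξ)), fun x hx => ?_⟩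
      have hx1 : x = 1 := by simpa using hx
      subst hx1
      rw [Pi.sub_apply, Pi.smul_apply, Pi.smul_apply, hd χ₁ hχ₁', hd ξ (hS₁ hξ)]
      simp [mul_comm]
    have hmem' : d ξ • χ₁ - d χ₁ • ξ ∈ zspanOn S {1}ᶜ := zo_mono hS₁ hmem
    have e1 : classInner v (τ₁ (d ξ • χ₁ - d χ₁ • ξ)) =
        -(a : ℂ) * d ξ * n χ₁ + a * d χ₁ * classInner χ₁ ξ := by
      rw [hext _ hmem, hv, hS.isometry.2.2.1 _ hmv _ hmem', ci_sub_left, ci_sub_right,
        ci_sub_right, ci_nsmul_left, ci_nsmul_left, ci_nsmul_right, ci_nsmul_right,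
        ci_nsmul_right, ci_nsmul_right, oχ' χ₁ hχ₁S, oχ' ξ hξ, hn χ₁ hχ₁']
      ring
    have e2 : τ₁ (d ξ • χ₁ - d χ₁ • ξ) = d ξ • τ₁ χ₁ - d χ₁ • τ₁ ξ := by
      rw [io_sub hτ₁ (fun a ha n => zs_zsmul n ha) (zs_nsmul _ (zs_mem hχ₁S))
        (zs_nsmul _ (zs_mem hξ)), io_nsmul hτ₁ (zs_mem hχ₁S), io_nsmul hτ₁ (zs_mem hξ)]
    rw [e2, ci_sub_right, ci_nsmul_right, ci_nsmul_right] at e1
    have e3 : classInner v (τ₁ ξ) = - classInner Y (τ₁ ξ) := by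
      rw [hY, ci_sub_left, hXξ ξ hξ]; ring
    have e4 : classInner v (τ₁ χ₁) = - (b₁ : ℂ) := by
      rw [← hb₁, hY, ci_sub_left, hXξ χ₁ hχ₁S]; ring
    rw [e3, e4] at e1
    rw [hlam]
    push_cast
    linear_combination e1
  -- the auxiliary vector T
  set D : ℝ := ∑ φ ∈ S₁, ((d φ : ℝ) ^ 2 / (n φ : ℝ)) with hD
  set T : G → ℂ := ∑ ξ ∈ S₁, ((d ξ : ℂ) / n ξ) • τ₁ ξ with hT
  have hττ : ∀ ξ ∈ S₁, ∀ η ∈ S₁, classInner (τ₁ ξ) (τ₁ η) = classInner ξ η := fun ξ hξ η hη =>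
    hτ₁.2.2.1 _ (zs_mem hξ) _ (zs_mem hη)
  have hconjr : ∀ ξ : L → ℂ, conj ((d ξ : ℂ) / n ξ) = (d ξ : ℂ) / n ξ := fun ξ => by
    rw [map_div₀, map_natCast, map_natCast]
  have hξT : ∀ ξ ∈ S₁, classInner (τ₁ ξ) T = d ξ := by
    intro ξ hξ
    rw [hT, ci_sum_right, Finset.sum_eq_single ξ]
    · rw [ci_smul_right, hconjr, hττ ξ hξ ξ hξ, hn ξ (hS₁ hξ),
        div_mul_cancel₀ _ (hnpos ξ (hS₁ hξ))]
    · intro η hη hne
      rw [ci_smul_right, hττ ξ hξ η hη, hS.orthogonal ξ (hS₁ hξ) η (hS₁ hη) hne.symm, mul_zero]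
    · intro h; exact absurd hξ h
  have hDc : (D : ℂ) = ∑ ξ ∈ S₁, (d ξ : ℂ) ^ 2 / n ξ := by
    rw [hD]; push_cast; rfl
  have hTT : classInner T T = (D : ℂ) := by
    conv_lhs => rw [hT]
    rw [← hT, ci_sum_left, hDc]
    refine Finset.sum_congr rfl (fun ξ hξ => ?_)
    rw [ci_smul_left, hξT ξ hξ]
    ring
  have hYT : (d χ₁ : ℂ) * classInner Y T = -(lam : ℂ) * D + a * d χ₁ * d χ₁ := by
    have e : ∀ ξ ∈ S₁, (d χ₁ : ℂ) * classInner Y (((d ξ : ℂ) / n ξ) • τ₁ ξ) =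
        -(lam : ℂ) * ((d ξ : ℂ) ^ 2 / n ξ) + (a * d χ₁) * (((d ξ : ℂ) / n ξ) * classInner χ₁ ξ) := by
      intro ξ hξ
      rw [ci_smul_right, hconjr]
      have := hb ξ hξ
      linear_combination ((d ξ : ℂ) / n ξ) * this
    rw [hT, ci_sum_right, Finset.mul_sum, Finset.sum_congr rfl e, Finset.sum_add_distrib,
      ← Finset.mul_sum, ← Finset.mul_sum, ← hDc]
    congr 1
    congr 1
    rw [Finset.sum_eq_single χ₁]
    · rw [hn χ₁ hχ₁', div_mul_cancel₀ _ (hnpos χ₁ hχ₁')]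
    · intro ξ hξ hne
      rw [hS.orthogonal χ₁ hχ₁' ξ (hS₁ hξ) hne.symm, mul_zero]
    · intro h; exact absurd hχ₁S h
  have hTY : (d χ₁ : ℂ) * classInner T Y = -(lam : ℂ) * D + a * d χ₁ * d χ₁ := by
    have := congrArg (starRingEnd ℂ) hYT
    rw [map_mul, ci_conj_symm, map_natCast] at this
    rw [this]
    simp
  have hTξ : classInner T (τ₁ χ₁) = d χ₁ := by
    rw [← ci_conj_symm, hξT χ₁ hχ₁S, map_natCast]
  have hY1 : classInner (τ₁ χ₁) Y = b₁ := by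
    rw [← ci_conj_symm, hb₁]; simp
  -- the vector W
  set W : G → ℂ := (d χ₁ : ℂ) • Y - ((a : ℂ) * d χ₁) • τ₁ χ₁ + (lam : ℂ) • T with hW
  have h11 : classInner (τ₁ χ₁) (τ₁ χ₁) = n χ₁ := by
    rw [hττ χ₁ hχ₁S χ₁ hχ₁S, hn χ₁ hχ₁']
  have hWW : classInner W W = (((d χ₁ : ℝ) ^ 2 * (n χ + a ^ 2 * n χ₁ - P) -
      a ^ 2 * d χ₁ ^ 2 * n χ₁ - lam ^ 2 * D + 2 * a * d χ₁ ^ 2 * lam : ℝ) : ℂ) := by
    have hbl : (b₁ : ℂ) = a * n χ₁ - lam := by
      rw [hlam]; push_cast; ring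
    have hcc : ∀ z : ℤ, conj ((z : ℤ) : ℂ) = z := fun z => by simp
    rw [hW]
    simp only [ci_add_left, ci_sub_left, ci_add_right, ci_sub_right, ci_smul_left, ci_smul_right,
      map_mul, map_natCast, hcc, hYY, hb₁, hY1, h11, hTξ, hξT χ₁ hχ₁S, hTT, hbl]
    push_cast
    linear_combination (lam : ℂ) * hYT + (lam : ℂ) * hTY
  have hWnn := ci_self_re_nonneg W
  rw [hWW, Complex.ofReal_re] at hWnn
  have hd1sq : (0 : ℝ) < (d χ₁ : ℝ) ^ 2 := by positivity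
  have hK : (2 * a * d χ₁ ^ 2 : ℝ) ≤ D := by
    calc (2 * a * d χ₁ ^ 2 : ℝ) = 2 * d χ * d χ₁ := by rw [ha]; push_cast; ring
      _ ≤ D := hineq
  have hDpos : 0 < D := by
    rw [hD]
    refine Finset.sum_pos' (fun φ _ => by positivity) ⟨χ₁, hχ₁S, ?_⟩
    have h1 : (n χ₁ : ℝ) ≠ 0 := by
      have := hnpos χ₁ hχ₁'
      exact_mod_cast this
    positivity
  have hlam01 : lam = 0 ∨ lam = 1 := by
    refine int_zero_or_one (K := 2 * a * d χ₁ ^ 2) (D := D) (by positivity) hDpos hK ?_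
    nlinarith [mul_nonneg hd1sq.le (sub_nonneg.mpr hA1)]
  rcases hlam01 with hlam0 | hlam1
  · rw [hlam0] at hWnn
    have hPn : P = n χ := by
      apply le_antisymm _ hA1
      have h : (0 : ℝ) ≤ (d χ₁ : ℝ) ^ 2 * (n χ - P) := by
        have := hWnn
        push_cast at this
        nlinarith
      by_contra hcon
      push Not at hcon
      nlinarith
    have hW0 : W = 0 := by
      apply eq_zero_of_ci_self_re_le
      rw [hWW, Complex.ofReal_re, hlam0, hPn]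
      push_cast
      nlinarith
    have hYeq : Y = a • τ₁ χ₁ := by
      have h1 : (d χ₁ : ℂ) • (Y - (a : ℂ) • τ₁ χ₁) = 0 := by
        rw [← hW0, hW, hlam0, smul_sub, smul_smul, mul_comm (a : ℂ)]
        simp
      have hd1c : (d χ₁ : ℂ) ≠ 0 := by exact_mod_cast hd1
      have h2 := (smul_eq_zero.mp h1).resolve_left hd1c
      rw [sub_eq_zero] at h2
      rw [h2]
      ext g
      simp
    refine ⟨?_, Or.inl ?_⟩
    · rw [hXX, hPn]
      simp
    · have : X = v + Y := by rw [hY]; abel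
      rw [this, hYeq]
  · rw [hlam1] at hWnn
    push_cast at hWnn
    have hPn : P = n χ := by
      apply le_antisymm _ hA1
      have h : (0 : ℝ) ≤ (d χ₁ : ℝ) ^ 2 * (n χ - P) := by nlinarith
      by_contra hcon
      push Not at hcon
      nlinarith
    have hKD : (2 * a * d χ₁ ^ 2 : ℝ) = D := by
      apply le_antisymm hK
      rw [hPn] at hWnn
      nlinarith
    have hW0 : W = 0 := by
      apply eq_zero_of_ci_self_re_le
      rw [hWW, Complex.ofReal_re, hlam1, hPn, ← hKD]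
      push_cast
      nlinarith
    refine ⟨?_, Or.inr ⟨?_, ?_⟩⟩
    · rw [hXX, hPn]
      simp
    · rw [← hKD, ha]; push_cast; ring
    · have h1 : (d χ₁ : ℂ) • Y - ((a : ℂ) * d χ₁) • τ₁ χ₁ + T = 0 := by
        rw [← hW0, hW, hlam1]
        simp
      have h2 : (d χ₁ : ℂ) • Y = ((a : ℂ) * d χ₁) • τ₁ χ₁ - T := by
        have := sub_eq_zero.mp (show (d χ₁ : ℂ) • Y - (((a : ℂ) * d χ₁) • τ₁ χ₁ - T) = 0 by
          rw [← h1]; abel)
        exact this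
      exact h2

/-- The extension step of Peterfalvi (5.6), from the shape of `τ (χ - a χ₁)`. -/
theorem extend_of_proj (hS : IsCoherenceSystem S τ R) (d n : (L → ℂ) → ℕ)
    (hd : ∀ φ ∈ S, φ 1 = (d φ : ℂ)) (hn : ∀ φ ∈ S, classInner φ φ = (n φ : ℂ))
    (S₁ : Finset (L → ℂ)) (hS₁ : ↑S₁ ⊆ S) (hS₁c : ∀ φ ∈ S₁, conjFun φ ∈ S₁)
    (hne : ∃ α ∈ zspanOn (S₁ : Set (L → ℂ)) {1}ᶜ, α ≠ 0)
    {τ₁ : (L → ℂ) → (G → ℂ)} (hτ₁ : IsLinearIsometryOn (zspan (S₁ : Set (L → ℂ))) τ₁)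
    (hext : ∀ α ∈ zspanOn (S₁ : Set (L → ℂ)) {1}ᶜ, τ₁ α = τ α)
    (χ : L → ℂ) (hχ : χ ∈ S) (hχ₁ : χ ∉ S₁) (hχ₂ : conjFun χ ∉ S₁) (χ₁ : L → ℂ)
    (hχ₁S : χ₁ ∈ S₁) (a : ℕ) (ha : d χ = d χ₁ * a)
    (hX1 : proj (R χ) (τ (χ - a • χ₁)) = τ (χ - a • χ₁) + a • τ₁ χ₁)
    (hXX : classInner (proj (R χ) (τ (χ - a • χ₁))) (proj (R χ) (τ (χ - a • χ₁))) = n χ) :
    IsCoherent (↑S₁ ∪ {χ, conjFun χ} : Set (L → ℂ)) {1}ᶜ τ := by
  classical
  obtain ⟨α₀, hα₀, hα₀'⟩ := hne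
  have hcχ : conjFun χ ∈ S := hS.conj_mem χ hχ
  have hneχ : χ ≠ conjFun χ := fun h => hS.conj_ne χ hχ h.symm
  have hχ₁' : χ₁ ∈ S := hS₁ hχ₁S
  have oχ : ∀ ξ ∈ S₁, classInner ξ χ = 0 := fun ξ hξ =>
    hS.orthogonal ξ (hS₁ hξ) χ hχ (fun h => hχ₁ (h ▸ hξ))
  have oχc : ∀ ξ ∈ S₁, classInner ξ (conjFun χ) = 0 := fun ξ hξ =>
    hS.orthogonal ξ (hS₁ hξ) _ hcχ (fun h => hχ₂ (h ▸ hξ))
  have oχ' : ∀ ξ ∈ S₁, classInner χ ξ = 0 := fun ξ hξ => by
    rw [← ci_conj_symm, oχ ξ hξ, map_zero]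
  have oχc' : ∀ ξ ∈ S₁, classInner (conjFun χ) ξ = 0 := fun ξ hξ => by
    rw [← ci_conj_symm, oχc ξ hξ, map_zero]
  have oc : classInner χ (conjFun χ) = 0 := hS.orthogonal _ hχ _ hcχ hneχ
  have oc' : classInner (conjFun χ) χ = 0 := hS.orthogonal _ hcχ _ hχ hneχ.symm
  have ncc : classInner (conjFun χ) (conjFun χ) = n χ := by
    rw [ci_conjFun, hn χ hχ, map_natCast]
  have hmv : χ - a • χ₁ ∈ zspanOn S {1}ᶜ := by
    refine ⟨zs_sub (zs_mem hχ) (zs_nsmul a (zs_mem hχ₁')), fun x hx => ?_⟩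
    have hx1 : x = 1 := by simpa using hx
    subst hx1
    rw [Pi.sub_apply, Pi.smul_apply, hd χ hχ, hd χ₁ hχ₁', ha]
    push_cast
    simp [mul_comm]
  have hmδ : χ - conjFun χ ∈ zspanOn S {1}ᶜ := conj_sub_mem hS (hd χ hχ) hχ hcχ
  set X := proj (R χ) (τ (χ - a • χ₁)) with hX
  set Δ := τ (χ - conjFun χ) with hΔ
  have hΔsum : Δ = ∑ α ∈ R χ, α := hS.sum_eq χ hχ
  have hτ₁c : ∀ ξ ∈ S₁, τ₁ (ξ - conjFun ξ) = τ (ξ - conjFun ξ) := fun ξ hξ =>
    hext _ (conj_sub_mem hS (hd ξ (hS₁ hξ)) hξ (hS₁c ξ hξ))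
  have hort : ∀ ξ ∈ S₁, ∀ β ∈ R χ, classInner (τ₁ ξ) β = 0 := fun ξ hξ =>
    map_orthogonal hS (hS₁ hξ) hχ (oχ ξ hξ) (oχc ξ hξ) (T := (S₁ : Set (L → ℂ))) hξ (hS₁c ξ hξ)
      hτ₁ (hτ₁c ξ hξ)
  have hXξ : ∀ ξ ∈ S₁, classInner X (τ₁ ξ) = 0 := by
    intro ξ hξ
    rw [hX, ci_proj_left]
    refine Finset.sum_eq_zero (fun α hα => ?_)
    rw [← ci_conj_symm (τ₁ ξ) α, hort ξ hξ α hα, map_zero, mul_zero]
  have hξX : ∀ ξ ∈ S₁, classInner (τ₁ ξ) X = 0 := fun ξ hξ => by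
    rw [← ci_conj_symm, hXξ ξ hξ, map_zero]
  have hξΔ : ∀ ξ ∈ S₁, classInner (τ₁ ξ) Δ = 0 := fun ξ hξ => by
    rw [hΔsum, ci_sum_right]
    exact Finset.sum_eq_zero (fun α hα => hort ξ hξ α hα)
  have hΔξ : ∀ ξ ∈ S₁, classInner Δ (τ₁ ξ) = 0 := fun ξ hξ => by
    rw [← ci_conj_symm, hξΔ ξ hξ, map_zero]
  have hΔΔ : classInner Δ Δ = 2 * n χ := by
    rw [hΔ, hS.isometry.2.2.1 _ hmδ _ hmδ, ci_sub_left, ci_sub_right, ci_sub_right, oc, oc', ncc,
      hn χ hχ]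
    ring
  have hXΔ : classInner X Δ = n χ := by
    rw [hX1, ci_add_left, ci_nsmul_left, hξΔ χ₁ hχ₁S, mul_zero, add_zero, hΔ,
      hS.isometry.2.2.1 _ hmv _ hmδ, ci_sub_left, ci_sub_right, ci_sub_right, ci_nsmul_left,
      ci_nsmul_left, oc, oχ χ₁ hχ₁S, oχc χ₁ hχ₁S, hn χ hχ]
    ring
  have hΔX : classInner Δ X = n χ := by
    rw [← ci_conj_symm, hXΔ, map_natCast]
  have hgX : IsGeneralizedCharacter G X := by
    rw [hX1]
    exact gen_add (hS.isometry.2.2.2 _ hmv) (gen_nsmul a (hτ₁.2.2.2 _ (zs_mem hχ₁S)))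
  have hgΔ : IsGeneralizedCharacter G Δ := hS.isometry.2.2.2 _ hmδ
  -- the map on the enlarged set
  let f : (L → ℂ) → (G → ℂ) := fun φ =>
    if φ = χ then X else if φ = conjFun χ then X - Δ else τ₁ φ
  have fχ : f χ = X := if_pos rfl
  have fc : f (conjFun χ) = X - Δ := by
    change (if conjFun χ = χ then X else if conjFun χ = conjFun χ then X - Δ else _) = _
    rw [if_neg hneχ.symm, if_pos rfl]
  have fS : ∀ ξ ∈ S₁, f ξ = τ₁ ξ := by
    intro ξ hξ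
    change (if ξ = χ then X else if ξ = conjFun χ then X - Δ else _) = _
    have n1 : ξ ≠ χ := fun h => hχ₁ (h ▸ hξ)
    have n2 : ξ ≠ conjFun χ := fun h => hχ₂ (h ▸ hξ)
    rw [if_neg n1, if_neg n2]
  have hU : (↑S₁ ∪ {χ, conjFun χ} : Set (L → ℂ)) ⊆ S := by
    intro x hx
    rcases hx with hx | rfl | hx
    · exact hS₁ hx
    · exact hχ
    · rw [Set.mem_singleton_iff] at hx; rw [hx]; exact hcχ
  obtain ⟨τ₂, hτ₂, hτ₂f⟩ := exists_ext (S := (↑S₁ ∪ {χ, conjFun χ} : Set (L → ℂ))) (G := G)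
    (fun x hx y hy hxy => hS.orthogonal x (hU hx) y (hU hy) hxy)
    (fun x hx => ne_zero_of_mem hS (hU hx)) f
    (by
      intro x hx y hy
      rcases hx with hx | rfl | hx
      · have hx : x ∈ S₁ := hx
        rcases hy with hy | rfl | hy
        · have hy : y ∈ S₁ := hy
          rw [fS x hx, fS y hy]
          exact hτ₁.2.2.1 _ (zs_mem hx) _ (zs_mem hy)
        · rw [fS x hx, fχ, hξX x hx, oχ x hx]
        · rw [Set.mem_singleton_iff] at hy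
          rw [hy, fS x hx, fc, ci_sub_right, hξX x hx, hξΔ x hx, oχc x hx, sub_zero]
      · rcases hy with hy | rfl | hy
        · have hy : y ∈ S₁ := hy
          rw [fS y hy, fχ, hXξ y hy, oχ' y hy]
        · rw [fχ, hXX, hn _ hχ]
        · rw [Set.mem_singleton_iff] at hy
          rw [hy, fχ, fc, ci_sub_right, hXX, hXΔ, oc, sub_self]
      · rw [Set.mem_singleton_iff] at hx
        subst hx
        rcases hy with hy | rfl | hy
        · have hy : y ∈ S₁ := hy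
          rw [fS y hy, fc, ci_sub_left, hXξ y hy, hΔξ y hy, oχc' y hy, sub_zero]
        · rw [fχ, fc, ci_sub_left, hXX, hΔX, oc', sub_self]
        · rw [Set.mem_singleton_iff] at hy
          rw [hy, fc, ci_sub_left, ci_sub_right, ci_sub_right, hXX, hXΔ, hΔX, hΔΔ, ncc]
          ring)
    (by
      intro x hx
      rcases hx with hx | rfl | hx
      · have hx : x ∈ S₁ := hx
        rw [fS x hx]; exact hτ₁.2.2.2 _ (zs_mem hx)
      · rw [fχ]; exact hgX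
      · rw [Set.mem_singleton_iff] at hx
        rw [hx, fc]; exact gen_sub hgX hgΔ)
  refine ⟨⟨α₀, zo_mono Set.subset_union_left hα₀, hα₀'⟩, τ₂, hτ₂, ?_⟩
  have hτ₂1 : ∀ β ∈ zspan (↑S₁ : Set (L → ℂ)), τ₂ β = τ₁ β := by
    intro β hβ
    refine io_ext (io_mono hτ₂ (zs_mono Set.subset_union_left)) hτ₁ ?_ hβ
    intro x hx
    rw [hτ₂f x (Or.inl hx), fS x hx]
  have hτ₂χ : τ₂ χ = X := by rw [hτ₂f χ (Or.inr (Or.inl rfl)), fχ]
  have hτ₂c : τ₂ (conjFun χ) = X - Δ := by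
    rw [hτ₂f (conjFun χ) (Or.inr (Or.inr rfl)), fc]
  rintro β ⟨hβ, hβ1⟩
  have hβ' : β ∈ Submodule.span ℤ (↑S₁ ∪ {χ, conjFun χ} : Set (L → ℂ)) := hβ
  rw [Submodule.span_union, Submodule.mem_sup] at hβ'
  obtain ⟨β₁, hβ₁, γ, hγ, rfl⟩ := hβ'
  rw [Submodule.mem_span_pair] at hγ
  obtain ⟨m, k, rfl⟩ := hγ
  have hβ₁ : β₁ ∈ zspan (↑S₁ : Set (L → ℂ)) := hβ₁
  -- the decomposition
  have hγ₁ : β₁ + ((m + k) * a) • χ₁ ∈ zspanOn (↑S₁ : Set (L → ℂ)) {1}ᶜ := by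
    refine ⟨zs_add hβ₁ (zs_zsmul _ (zs_mem hχ₁S)), fun x hx => ?_⟩
    have hx1 : x = 1 := by simpa using hx
    subst hx1
    have h := hβ1 1 (by simp)
    have hc1 : conjFun χ 1 = d χ := by
      rw [conjFun, hd χ hχ, map_natCast]
    rw [Pi.add_apply, Pi.add_apply, Pi.smul_apply, Pi.smul_apply, hc1, hd χ hχ, zsmul_eq_mul,
      zsmul_eq_mul, ha] at h
    rw [Pi.add_apply, Pi.smul_apply, hd χ₁ hχ₁', zsmul_eq_mul]
    push_cast at h ⊢
    linear_combination h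
  have hdec : β₁ + (m • χ + k • conjFun χ) = (β₁ + ((m + k) * a) • χ₁) +
      ((m + k) • (χ - a • χ₁) + (-k) • (χ - conjFun χ)) := by
    have e : ((m + k) * (a : ℤ)) • χ₁ = (m + k) • (a • χ₁) := by
      rw [mul_smul, natCast_zsmul]
    rw [e]
    module
  have hγ₁' := zo_mono hS₁ hγ₁
  have h2 := zo_zsmul (m + k) hmv
  have h3 := zo_zsmul (-k) hmδ
  have rhs : τ (β₁ + (m • χ + k • conjFun χ)) = τ₁ (β₁ + ((m + k) * a) • χ₁) +
      ((m + k) • (X - a • τ₁ χ₁) + (-k) • Δ) := by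
    rw [hdec, hS.isometry.1 _ hγ₁' _ (zo_add h2 h3), hS.isometry.1 _ h2 _ h3,
      hS.isometry.2.1 _ hmv, hS.isometry.2.1 _ hmδ, hext _ hγ₁]
    rw [hX1, add_sub_cancel_right]
  have e5 : τ₁ (β₁ + ((m + k) * a) • χ₁) = τ₁ β₁ + (m + k) • (a • τ₁ χ₁) := by
    rw [hτ₁.1 _ hβ₁ _ (zs_zsmul _ (zs_mem hχ₁S)), hτ₁.2.1 _ (zs_mem hχ₁S), mul_smul,
      natCast_zsmul]
  rw [rhs, e5, map_add, map_add, map_zsmul, map_zsmul, hτ₂1 _ hβ₁, hτ₂χ, hτ₂c]
  module

open Classical in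
theorem bessel_family {ι : Type*} (s : Finset ι) (f : ι → (G → ℂ))
    (hf : ∀ i ∈ s, ∀ j ∈ s, classInner (f i) (f j) = if i = j then 1 else 0) (v : G → ℂ) :
    ∑ i ∈ s, ‖classInner v (f i)‖ ^ 2 ≤ (classInner v v).re := by
  have hinj : Set.InjOn f s := by
    intro i hi j hj hij
    by_contra hne
    have h1 := hf i hi j hj
    have h2 := hf i hi i hi
    rw [if_neg hne] at h1
    rw [if_pos rfl] at h2
    rw [← hij, h2] at h1
    exact one_ne_zero h1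
  have h := bessel (R := s.image f) (by
    intro α hα β hβ
    obtain ⟨i, hi, rfl⟩ := Finset.mem_image.mp hα
    obtain ⟨j, hj, rfl⟩ := Finset.mem_image.mp hβ
    rw [hf i hi j hj]
    by_cases hij : i = j
    · rw [if_pos hij, if_pos (by rw [hij])]
    · rw [if_neg hij, if_neg (fun h => hij (hinj hi hj h))]) v
  rwa [Finset.sum_image hinj] at h

omit [Fintype L] in
theorem gen_of_zs {T : Set (L → ℂ)} (hT : ∀ φ ∈ T, IsCharacter L φ) {α : L → ℂ}
    (hα : α ∈ zspan T) : IsGeneralizedCharacter L α :=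
  zs_induction (p := fun α => IsGeneralizedCharacter L α)
    (fun a ha => ⟨a, 0, hT a ha, isCharacter_zero', by rw [sub_zero]⟩) gen_zero
    (fun a _ b _ ha hb => gen_add ha hb) (fun n a _ ha => gen_zsmul n ha) hα

open Classical in
/-- The equality case of the extension criterion, for a set `S₁` of irreducible characters of the same degree
(used in Peterfalvi (9.11)). -/
theorem border_bound (hS : IsCoherenceSystem S τ R) (A₀ : Set L)
    (hsupp : ∀ α ∈ zspanOn S {1}ᶜ, ∀ x, x ∉ A₀ → α x = 0)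
    (hτ : IsLinearIsometryOn {α : L → ℂ | IsGeneralizedCharacter L α ∧ ∀ x, x ∉ A₀ → α x = 0} τ)
    (d n : (L → ℂ) → ℕ)
    (hd : ∀ φ ∈ S, φ 1 = (d φ : ℂ)) (hn : ∀ φ ∈ S, classInner φ φ = (n φ : ℂ))
    (S₁ S₂ : Finset (L → ℂ)) (h₁ : (↑S₁ : Set (L → ℂ)) ⊆ S) (h₂ : (↑S₂ : Set (L → ℂ)) ⊆ S)
    (hdisj : ∀ χ ∈ S₂, χ ∉ S₁)
    (c₁ : ∀ φ ∈ S₁, conjFun φ ∈ S₁) (c₂ : ∀ φ ∈ S₂, conjFun φ ∈ S₂)
    (hcoh : IsCoherent (↑S₁ : Set (L → ℂ)) {1}ᶜ τ) (d₁ b : ℕ) (hb : 2 ≤ b)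
    (hd₁ : ∀ φ ∈ S₁, d φ = d₁) (hn₁ : ∀ φ ∈ S₁, n φ = 1) (hd₂ : ∀ χ ∈ S₂, d χ = d₁ * b)
    (hcard : 2 * b ≤ S₁.card) {φ₁ : L → ℂ} (hφ₁ : φ₁ ∈ S₁) {γ : L → ℂ}
    (hγ : IsGeneralizedCharacter L γ) (hγA : ∀ x, x ∉ A₀ → γ x = 0)
    (hγφ : classInner γ φ₁ = -1) (hγ0 : ∀ χ ∈ S, χ ≠ φ₁ → classInner γ χ = 0) :
    IsCoherent (↑S₁ ∪ ↑S₂ : Set (L → ℂ)) {1}ᶜ τ ∨
      ((S₂.filter (fun χ => n χ = 1)).card : ℝ) + 1 ≤ (classInner γ γ).re := by
  obtain ⟨hne, τ₁, hτ₁, hext⟩ := hcoh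
  have hcoh : IsCoherent (↑S₁ : Set (L → ℂ)) {1}ᶜ τ := ⟨hne, τ₁, hτ₁, hext⟩
  have hφ₁S : φ₁ ∈ S := h₁ hφ₁
  have hd1 : d₁ ≠ 0 := by
    have h := one_ne_zero_of_mem hS hφ₁S
    rw [hd _ hφ₁S, hd₁ φ₁ hφ₁] at h
    exact_mod_cast h
  have hd1r : (0 : ℝ) < d₁ := by positivity
  have hsum : ∑ φ ∈ S₁, ((d φ : ℝ) ^ 2 / (n φ : ℝ)) = S₁.card * (d₁ : ℝ) ^ 2 := by
    rw [Finset.sum_congr rfl (fun φ hφ => by rw [hd₁ φ hφ, hn₁ φ hφ])]
    rw [Finset.sum_const, nsmul_eq_mul]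
    push_cast
    ring
  have hcardr : (2 * b : ℝ) ≤ S₁.card := by exact_mod_cast hcard
  have hle : ∀ χ ∈ S₂, (2 * d χ * d φ₁ : ℝ) ≤ ∑ φ ∈ S₁, ((d φ : ℝ) ^ 2 / (n φ : ℝ)) := by
    intro χ hχ
    rw [hsum, hd₂ χ hχ, hd₁ φ₁ hφ₁]
    push_cast
    nlinarith [mul_le_mul_of_nonneg_right hcardr (sq_nonneg (d₁ : ℝ))]
  have hmain := fun χ (hχ : χ ∈ S₂) => main_step_le hS d n hd hn S₁ h₁ c₁ hτ₁ hext χ (h₂ hχ)
    (hdisj χ hχ) (hdisj _ (c₂ χ hχ)) φ₁ hφ₁ b (by rw [hd₂ χ hχ, hd₁ φ₁ hφ₁]) (hle χ hχ)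
  by_cases hex : ∃ χ ∈ S₂, proj (R χ) (τ (χ - b • φ₁)) = τ (χ - b • φ₁) + b • τ₁ φ₁
  · -- coherent
    left
    obtain ⟨χ, hχ, hX⟩ := hex
    have h3 := extend_of_proj hS d n hd hn S₁ h₁ c₁ hne hτ₁ hext χ (h₂ hχ) (hdisj χ hχ)
      (hdisj _ (c₂ χ hχ)) φ₁ hφ₁ b (by rw [hd₂ χ hχ, hd₁ φ₁ hφ₁]) hX (hmain χ hχ).1
    have h4 : (↑(S₁ ∪ {χ, conjFun χ}) : Set (L → ℂ)) = ↑S₁ ∪ {χ, conjFun χ} := by
      rw [Finset.coe_union, Finset.coe_pair]
    rw [← h4] at h3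
    have hnχ : (0 : ℝ) < n χ := by
      have h : (n χ : ℂ) ≠ 0 := by
        rw [← hn χ (h₂ hχ)]; exact ci_self_ne (ne_zero_of_mem hS (h₂ hχ))
      have h' : n χ ≠ 0 := by exact_mod_cast h
      positivity
    have hlt : ∑ φ ∈ S₁, ((d φ : ℝ) ^ 2 / (n φ : ℝ)) <
        ∑ φ ∈ S₁ ∪ {χ, conjFun χ}, ((d φ : ℝ) ^ 2 / (n φ : ℝ)) := by
      refine Finset.sum_lt_sum_of_subset Finset.subset_union_left (i := χ) (by simp)
        (hdisj χ hχ) ?_ (fun j _ _ => by positivity)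
      rw [hd₂ χ hχ]
      have : (0 : ℝ) < b := by positivity
      push_cast
      positivity
    have h5 := CoherenceIter.isCoherent_union_of_bound hS d n hd hn (S₁ ∪ {χ, conjFun χ}) S₂
      (by
        rw [h4]
        rintro x (hx | rfl | hx)
        · exact h₁ hx
        · exact h₂ hχ
        · rw [Set.mem_singleton_iff] at hx
          rw [hx]; exact h₂ (c₂ χ hχ)) h₂
      (by
        intro φ hφ
        rcases Finset.mem_union.mp hφ with h | h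
        · exact Finset.mem_union_left _ (c₁ φ h)
        · rcases Finset.mem_insert.mp h with rfl | h
          · exact Finset.mem_union_right _ (by simp)
          · rw [Finset.mem_singleton.mp h, CoherenceIter.conjFun_conjFun]
            exact Finset.mem_union_right _ (by simp)) c₂ h3 φ₁ (Finset.mem_union_left _ hφ₁)
      (fun χ' hχ' => by rw [hd₂ χ' hχ', hd₁ φ₁ hφ₁]; exact dvd_mul_right _ _)
      (fun χ' hχ' => lt_of_le_of_lt (hle χ' hχ') hlt)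
    have h6 : (↑(S₁ ∪ {χ, conjFun χ}) ∪ ↑S₂ : Set (L → ℂ)) = ↑S₁ ∪ ↑S₂ := by
      rw [h4, Set.union_assoc]
      congr 1
      apply Set.union_eq_self_of_subset_left
      rintro x (rfl | hx)
      · exact hχ
      · rw [Set.mem_singleton_iff] at hx
        rw [hx]; exact c₂ χ hχ
    rw [h6] at h5
    exact h5
  · right
    push Not at hex
    set X : (L → ℂ) → (G → ℂ) := fun χ => proj (R χ) (τ (χ - b • φ₁)) with hX
    have hXdef : ∀ χ, X χ = proj (R χ) (τ (χ - b • φ₁)) := fun χ => rfl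
    have hXX : ∀ χ ∈ S₂, classInner (X χ) (X χ) = n χ := fun χ hχ => (hmain χ hχ).1
    have hXv : ∀ χ ∈ S₂, X χ = τ (χ - b • φ₁) + b • τ₁ φ₁ - ∑ ξ ∈ S₁, τ₁ ξ := by
      intro χ hχ
      have h3 := ((hmain χ hχ).2.resolve_left (hex χ hχ)).2
      rw [Finset.sum_congr rfl (fun ξ hξ => by rw [hd₁ ξ hξ, hn₁ ξ hξ, Nat.cast_one, div_one]),
        ← Finset.smul_sum, hd₁ φ₁ hφ₁] at h3
      have hd1c : (d₁ : ℂ) ≠ 0 := by exact_mod_cast hd1
      have h4 : (d₁ : ℂ) • (proj (R χ) (τ (χ - b • φ₁)) - τ (χ - b • φ₁) -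
          ((b : ℂ) • τ₁ φ₁ - ∑ ξ ∈ S₁, τ₁ ξ)) = 0 := by
        rw [smul_sub, h3, smul_sub, smul_smul, mul_comm (b : ℂ), sub_self]
      have h5 := (smul_eq_zero.mp h4).resolve_left hd1c
      rw [Nat.cast_smul_eq_nsmul] at h5
      rw [hXdef, ← sub_eq_zero, ← h5]
      abel
    have hcardeq : S₂.Nonempty → (S₁.card : ℝ) = 2 * b := by
      rintro ⟨χ, hχ⟩
      have h3 := ((hmain χ hχ).2.resolve_left (hex χ hχ)).1
      rw [hsum, hd₂ χ hχ, hd₁ φ₁ hφ₁] at h3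
      push_cast at h3
      have h4 : (d₁ : ℝ) ^ 2 * ((S₁.card : ℝ) - 2 * b) = 0 := by linear_combination -h3
      have h5 := (mul_eq_zero.mp h4).resolve_left (by positivity)
      linarith
    -- orthogonality
    have hort : ∀ χ ∈ S₂, ∀ ξ ∈ S₁, ∀ β ∈ R χ, classInner (τ₁ ξ) β = 0 := by
      intro χ hχ ξ hξ
      exact map_orthogonal hS (h₁ hξ) (h₂ hχ)
        (hS.orthogonal ξ (h₁ hξ) χ (h₂ hχ) (fun h => hdisj χ hχ (h ▸ hξ)))
        (hS.orthogonal ξ (h₁ hξ) _ (h₂ (c₂ χ hχ)) (fun h => hdisj _ (c₂ χ hχ) (h ▸ hξ)))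
        (T := (S₁ : Set (L → ℂ))) hξ (c₁ ξ hξ) hτ₁
        (hext _ (conj_sub_mem hS (hd ξ (h₁ hξ)) hξ (c₁ ξ hξ)))
    have hXξ : ∀ χ ∈ S₂, ∀ ξ ∈ S₁, classInner (X χ) (τ₁ ξ) = 0 := by
      intro χ hχ ξ hξ
      rw [hXdef, ci_proj_left]
      refine Finset.sum_eq_zero (fun α hα => ?_)
      rw [← ci_conj_symm (τ₁ ξ) α, hort χ hχ ξ hξ α hα, map_zero, mul_zero]
    have hξX : ∀ χ ∈ S₂, ∀ ξ ∈ S₁, classInner (τ₁ ξ) (X χ) = 0 := by
      intro χ hχ ξ hξ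
      rw [← ci_conj_symm, hXξ χ hχ ξ hξ, map_zero]
    have hmv : ∀ χ ∈ S₂, χ - b • φ₁ ∈ zspanOn S {1}ᶜ := by
      intro χ hχ
      refine ⟨zs_sub (zs_mem (h₂ hχ)) (zs_nsmul b (zs_mem hφ₁S)), fun x hx => ?_⟩
      have hx1 : x = 1 := by simpa using hx
      subst hx1
      rw [Pi.sub_apply, Pi.smul_apply, hd χ (h₂ hχ), hd φ₁ hφ₁S, hd₂ χ hχ, hd₁ φ₁ hφ₁]
      push_cast
      simp [mul_comm]
    have hXc : ∀ χ ∈ S₂, n χ = 1 → classInner (X χ) (X (conjFun χ)) = 0 := by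
      intro χ hχ hnχ
      have hcχ := c₂ χ hχ
      have hneχ : χ ≠ conjFun χ := fun h => hS.conj_ne χ (h₂ hχ) h.symm
      have hmδ : χ - conjFun χ ∈ zspanOn S {1}ᶜ :=
        conj_sub_mem hS (hd χ (h₂ hχ)) (h₂ hχ) (h₂ hcχ)
      have e1 : X (conjFun χ) = X χ - τ (χ - conjFun χ) := by
        have e2 : τ (χ - b • φ₁) = τ (χ - conjFun χ) + τ (conjFun χ - b • φ₁) := by
          rw [← hS.isometry.1 _ hmδ _ (hmv _ hcχ)]
          congr 1
          abel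
        rw [hXv _ hcχ, hXv _ hχ, e2]
        abel
      have e3 : classInner (X χ) (τ (χ - conjFun χ)) = 1 := by
        have e4 : ∀ ξ ∈ S₁, classInner (τ₁ ξ) (τ (χ - conjFun χ)) = 0 := by
          intro ξ hξ
          rw [hS.sum_eq χ (h₂ hχ), ci_sum_right]
          exact Finset.sum_eq_zero (fun α hα => hort χ hχ ξ hξ α hα)
        rw [hXv χ hχ, ci_sub_left, ci_add_left, ci_nsmul_left, e4 φ₁ hφ₁, ci_sum_left,
          Finset.sum_eq_zero (fun ξ hξ => e4 ξ hξ), hS.isometry.2.2.1 _ (hmv χ hχ) _ hmδ,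
          ci_sub_left, ci_sub_right, ci_sub_right, ci_nsmul_left, ci_nsmul_left,
          hn χ (h₂ hχ), hnχ, hS.orthogonal _ (h₂ hχ) _ (h₂ hcχ) hneχ,
          hS.orthogonal φ₁ hφ₁S χ (h₂ hχ) (fun h => hdisj χ hχ (h ▸ hφ₁)),
          hS.orthogonal φ₁ hφ₁S _ (h₂ hcχ) (fun h => hdisj _ hcχ (h ▸ hφ₁))]
        simp
      rw [e1, ci_sub_right, e3, hXX χ hχ, hnχ]
      simp
    have hXort : ∀ χ ∈ S₂, ∀ ψ ∈ S₂, n χ = 1 → χ ≠ ψ → classInner (X χ) (X ψ) = 0 := by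
      intro χ hχ ψ hψ hnχ hne'
      by_cases hc : ψ = conjFun χ
      · rw [hc]; exact hXc χ hχ hnχ
      · rw [hXdef χ, ci_proj_left]
        refine Finset.sum_eq_zero (fun α hα => ?_)
        rw [hXdef ψ, ← ci_conj_symm (proj (R ψ) (τ (ψ - b • φ₁))) α, ci_proj_left,
          Finset.sum_eq_zero, map_zero, mul_zero]
        intro β hβ
        rw [hS.disjoint χ (h₂ hχ) ψ (h₂ hψ) (hS.orthogonal _ (h₂ hψ) _ (h₂ hχ) (Ne.symm hne'))
          (hS.orthogonal _ (h₂ hψ) _ (h₂ (c₂ χ hχ)) hc) β hβ α hα, mul_zero]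
    -- the virtual character `γ`
    have hE : ∀ α ∈ zspanOn S {1}ᶜ,
        α ∈ {α : L → ℂ | IsGeneralizedCharacter L α ∧ ∀ x, x ∉ A₀ → α x = 0} :=
      fun α hα => ⟨gen_of_zs hS.isCharacter hα.1, hsupp α hα⟩
    have hγE : γ ∈ {α : L → ℂ | IsGeneralizedCharacter L α ∧ ∀ x, x ∉ A₀ → α x = 0} := ⟨hγ, hγA⟩
    have hiso : ∀ α ∈ zspanOn S {1}ᶜ, classInner (τ γ) (τ α) = classInner γ α :=
      fun α hα => hτ.2.2.1 _ hγE _ (hE α hα)
    obtain ⟨m, hm⟩ := ci_gen_int (hτ.2.2.2 _ hγE) (hτ₁.2.2.2 _ (zs_mem hφ₁))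
    have hmφ : ∀ φ ∈ S₁, φ ≠ φ₁ → classInner (τ γ) (τ₁ φ) = m + 1 := by
      intro φ hφ hφne
      have hmem : φ₁ - φ ∈ zspanOn (S₁ : Set (L → ℂ)) {1}ᶜ := by
        refine ⟨zs_sub (zs_mem hφ₁) (zs_mem hφ), fun x hx => ?_⟩
        have hx1 : x = 1 := by simpa using hx
        subst hx1
        rw [Pi.sub_apply, hd φ₁ hφ₁S, hd φ (h₁ hφ), hd₁ φ hφ, hd₁ φ₁ hφ₁, sub_self]
      have e1 := hiso _ (zo_mono h₁ hmem)
      rw [← hext _ hmem, io_sub hτ₁ (fun a ha n => zs_zsmul n ha) (zs_mem hφ₁) (zs_mem hφ),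
        ci_sub_right, ci_sub_right, hγφ, hγ0 φ (h₁ hφ) hφne, hm] at e1
      linear_combination -e1
    have hsumS₁ : ∑ φ ∈ S₁, classInner (τ γ) (τ₁ φ) = S₁.card * (m + 1) - 1 := by
      rw [← Finset.add_sum_erase _ _ hφ₁, Finset.sum_congr rfl (fun φ hφ =>
        hmφ φ (Finset.mem_of_mem_erase hφ) (Finset.ne_of_mem_erase hφ)), Finset.sum_const,
        Finset.card_erase_of_mem hφ₁, hm, nsmul_eq_mul]
      have : 1 ≤ S₁.card := Finset.card_pos.mpr ⟨φ₁, hφ₁⟩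
      push_cast [this]
      ring
    have hγX : ∀ χ ∈ S₂, classInner (τ γ) (X χ) = ((1 - b * (m + 1) : ℤ) : ℂ) := by
      intro χ hχ
      have hc : (S₁.card : ℂ) = 2 * b := by
        have := hcardeq ⟨χ, hχ⟩
        exact_mod_cast this
      rw [hXv χ hχ, ci_sub_right, ci_add_right, ci_nsmul_right, ci_sum_right, hsumS₁, hm,
        hiso _ (hmv χ hχ), ci_sub_right, ci_nsmul_right, hγφ,
        hγ0 χ (h₂ hχ) (fun h => hdisj χ hχ (h ▸ hφ₁)), hc]
      push_cast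
      ring
    -- Bessel
    set S₂' := S₂.filter (fun χ => n χ = 1) with hS₂'
    have hS₂m : ∀ χ ∈ S₂', χ ∈ S₂ ∧ n χ = 1 := fun χ hχ => Finset.mem_filter.mp hχ
    have hdd : Disjoint S₁ S₂' := by
      rw [Finset.disjoint_left]
      intro φ hφ hφ'
      exact hdisj φ (hS₂m φ hφ').1 hφ
    let f : (L → ℂ) → (G → ℂ) := fun φ => if φ ∈ S₁ then τ₁ φ else X φ
    have f1 : ∀ φ ∈ S₁, f φ = τ₁ φ := fun φ hφ => if_pos hφ
    have f2 : ∀ φ ∈ S₂', f φ = X φ := fun φ hφ => if_neg (hdisj φ (hS₂m φ hφ).1)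
    have hB := bessel_family (S₁ ∪ S₂') f (by
      intro x hx y hy
      rcases Finset.mem_union.mp hx with hx | hx
      · rcases Finset.mem_union.mp hy with hy | hy
        · rw [f1 x hx, f1 y hy, hτ₁.2.2.1 _ (zs_mem hx) _ (zs_mem hy)]
          by_cases hxy : x = y
          · rw [if_pos hxy, ← hxy, hn x (h₁ hx), hn₁ x hx, Nat.cast_one]
          · rw [if_neg hxy, hS.orthogonal x (h₁ hx) y (h₁ hy) hxy]
        · rw [f1 x hx, f2 y hy, hξX y (hS₂m y hy).1 x hx, if_neg]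
          rintro rfl
          exact hdisj x (hS₂m x hy).1 hx
      · rcases Finset.mem_union.mp hy with hy | hy
        · rw [f1 y hy, f2 x hx, hXξ x (hS₂m x hx).1 y hy, if_neg]
          rintro rfl
          exact hdisj x (hS₂m x hx).1 hy
        · rw [f2 x hx, f2 y hy]
          by_cases hxy : x = y
          · rw [if_pos hxy, ← hxy, hXX x (hS₂m x hx).1, (hS₂m x hx).2, Nat.cast_one]
          · rw [if_neg hxy, hXort x (hS₂m x hx).1 y (hS₂m y hy).1 (hS₂m x hx).2 hxy]) (τ γ)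
    rw [Finset.sum_union hdd, hτ.2.2.1 _ hγE _ hγE] at hB
    have hB1 : (1 : ℝ) ≤ ∑ i ∈ S₁, ‖classInner (τ γ) (f i)‖ ^ 2 := by
      by_cases hm0 : m = 0
      · -- another element of `S₁`
        have h2 : 1 < S₁.card := by omega
        obtain ⟨φ, hφ, hφne⟩ := Finset.exists_mem_ne h2 φ₁
        calc (1 : ℝ) = ‖classInner (τ γ) (f φ)‖ ^ 2 := by
              rw [f1 φ hφ, hmφ φ hφ hφne, hm0]; simp
          _ ≤ _ := Finset.single_le_sum (f := fun i => ‖classInner (τ γ) (f i)‖ ^ 2)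
              (fun i _ => by positivity) hφ
      · calc (1 : ℝ) ≤ ‖classInner (τ γ) (f φ₁)‖ ^ 2 := by
              rw [f1 φ₁ hφ₁, hm, Complex.norm_intCast]
              have h1 : (1 : ℤ) ≤ |m| := Int.one_le_abs hm0
              have h2 : (1 : ℝ) ≤ |(m : ℝ)| := by exact_mod_cast h1
              nlinarith
          _ ≤ _ := Finset.single_le_sum (f := fun i => ‖classInner (τ γ) (f i)‖ ^ 2)
              (fun i _ => by positivity) hφ₁
    have hB2 : (S₂'.card : ℝ) ≤ ∑ i ∈ S₂', ‖classInner (τ γ) (f i)‖ ^ 2 := by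
      have h3 : (S₂'.card : ℝ) = ∑ _i ∈ S₂', (1 : ℝ) := by simp
      rw [h3]
      refine Finset.sum_le_sum (fun χ hχ => ?_)
      rw [f2 χ hχ, hγX χ (hS₂m χ hχ).1, Complex.norm_intCast]
      have h0 : (1 - b * (m + 1) : ℤ) ≠ 0 := by
        intro h
        have h4 : (b : ℤ) ∣ 1 := ⟨m + 1, by linarith⟩
        have h5 : b ∣ 1 := by exact_mod_cast h4
        have h6 := Nat.le_of_dvd one_pos h5
        omega
      have h1 : (1 : ℤ) ≤ |(1 - b * (m + 1) : ℤ)| := Int.one_le_abs h0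
      have h2 : (1 : ℝ) ≤ |((1 - b * (m + 1) : ℤ) : ℝ)| := by exact_mod_cast h1
      nlinarith
    linarith

end Cfsg.Agent.OddOrderCharacters.PF9.Border
end

-- part: OddOrderCharacters/PF9/ElevenA
section
/-!
# Peterfalvi (9.11): `U₁ ∩ U₁ ^ w = C`
-/

set_option autoImplicit false
open Cfsg
open Cfsg.Agent.OddOrderCharacters.PFDefs
open Cfsg.Agent.OddOrderCharacters.PF9.Defs

namespace Cfsg.Agent.OddOrderCharacters.PF9.ElevenA

open EightDual Cliff Eight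

universe u

variable {L : Type u} [Group L] {K H U W₁ W₂ H₀ C H₁ U₁ : Subgroup L} {p q n a : ℕ}

/-- A subgroup of `U` invariant under one `1 ≠ w ∈ W₁` is contained in `C` when it is contained in `U₁`. -/
theorem le_C_of_conj [Finite L] (g : NonGalois K H U W₁ W₂ H₀ C H₁ U₁ p q n a) {w : L} (hw : w ∈ W₁)
    (hw1 : w ≠ 1) (h : ∀ y ∈ U₁, w * y * w⁻¹ ∈ U₁) : U₁ ≤ C := by
  have hpow : ∀ k : ℕ, ∀ y ∈ U₁, w ^ k * y * (w ^ k)⁻¹ ∈ U₁ := by
    intro k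
    induction k with
    | zero => intro y hy; simpa using hy
    | succ k ih =>
      intro y hy
      have := h _ (ih y hy)
      have e : w ^ (k + 1) * y * (w ^ (k + 1))⁻¹ = w * (w ^ k * y * (w ^ k)⁻¹) * w⁻¹ := by
        rw [pow_succ']; group
      rw [e]; exact this
  have hgen : ∀ v ∈ W₁, ∃ k : ℕ, w ^ k = v := by
    intro v hv
    have hpr : Fact (Nat.card ↥W₁).Prime := ⟨g.setup.hyp.W₁_prime⟩
    have h1 : (⟨w, hw⟩ : ↥W₁) ≠ 1 := fun h => hw1 (congrArg Subtype.val h)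
    have h2 := mem_powers_of_prime_card (G := ↥W₁) rfl h1 (g' := ⟨v, hv⟩)
    obtain ⟨k, hk⟩ := h2
    exact ⟨k, congrArg Subtype.val hk⟩
  intro y hy
  refine g.inf_conj y ((g.mem_U₁ y).mp hy).1 fun v hv => ?_
  obtain ⟨k, rfl⟩ := hgen v hv
  exact hpow k y hy

theorem inf_conj_le [Fintype L] (g : NonGalois K H U W₁ W₂ H₀ C H₁ U₁ p q n a) (han : a < n)
    (hdeg : ∀ θ : ↥K → ℂ, InX K H (H₀ ⊔ ⁅C, C⁆) θ → θ 1 = a ∨ θ 1 = n) :
    ∀ w ∈ W₁, w ≠ 1 → ∀ x ∈ U₁, w * x * w⁻¹ ∈ U₁ → x ∈ C := by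
  classical
  intro w hw hw1 x hx hwx
  have s := g.setup
  have hH := s.hyp.H_normal
  obtain ⟨χ, hχ, -, -, hχ1, -, -⟩ := exists_notMem_orb g
  obtain ⟨lam, hlam, hcmp⟩ := exists_of_cmp g
    (fun v => if (v : L) = 1 ∨ (v : L) = w⁻¹ then χ else 1) (by
      intro w
      split_ifs
      · exact hχ
      · exact one_mem_dualSet _ _)
  have hc1 : EightDual.cmp hH g.H₁_le lam 1 = χ := by
    have := hcmp ⟨1, one_mem _⟩
    simpa using this
  have hc2 : EightDual.cmp hH g.H₁_le lam w⁻¹ = χ := by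
    have := hcmp ⟨w⁻¹, inv_mem hw⟩
    simpa using this
  have hc3 : ∀ v ∈ W₁, v ≠ 1 → v ≠ w⁻¹ → EightDual.cmp hH g.H₁_le lam v = 1 := by
    intro v hv h1 h2
    have := hcmp ⟨v, hv⟩
    simpa [h1, h2] using this
  have hne : lam ≠ 1 := by
    rintro rfl
    apply hχ1
    rw [← hc1]
    exact cmp_one g 1
  let I : Subgroup L := U₁ ⊓ U₁.comap (MulAut.conj w).toMonoidHom
  have hI : ∀ y, y ∈ I ↔ y ∈ U₁ ∧ w * y * w⁻¹ ∈ U₁ := fun y => Iff.rfl
  have hstab : IsStab U I H lam := by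
    intro y
    constructor
    · intro hy
      obtain ⟨hy1, hy2⟩ := (hI y).mp hy
      have hyU := ((g.mem_U₁ y).mp hy1).1
      refine ⟨hyU, stab_iff g hyU ?_⟩
      intro v hv
      by_cases hv1 : v = 1
      · subst hv1
        rw [hc1]
        apply fix_of_mem_U₁ g hχ
        simpa using hy1
      · by_cases hv2 : v = w⁻¹
        · subst hv2
          rw [hc2]
          apply fix_of_mem_U₁ g hχ
          simpa using hy2
        · rw [hc3 v hv hv1 hv2]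
          rfl
    · rintro ⟨hy, hfix⟩
      rw [hI]
      constructor
      · have := stab_cmp g hlam hy (one_mem W₁) hfix (by rw [hc1]; exact hχ1)
        simpa using this
      · have := stab_cmp g hlam hy (inv_mem hw) hfix (by rw [hc2]; exact hχ1)
        simpa using this
  have hCI : C ≤ I := by
    intro y hy
    exact (hI y).mpr ⟨g.C_le hy, g.C_le (s.W₁_conj_C w hw y hy)⟩
  have hIU₁ : I ≤ U₁ := inf_le_left
  have hU₁U : U₁ ≤ U := fun y hy => ((g.mem_U₁ y).mp hy).1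
  obtain ⟨ξ, -, -, hmem, hd⟩ := exists_mem s lam hne hlam I hstab 1 ⁅C, C⁆ s.H₀C'_normal
    ((Subgroup.commutator_le.mpr (fun a ha b hb => by
      rw [commutatorElement_def]
      exact C.mul_mem (C.mul_mem (C.mul_mem ha hb) (C.inv_mem ha)) (C.inv_mem hb))).trans hCI)
    (fun _ _ => rfl)
  obtain ⟨θ, hθ, hθe⟩ := (mem_seqIndD_iff _ _ _ _).mp hmem
  have hq : (q : ℂ) ≠ 0 := by
    have := s.hyp.W₁_prime.pos
    rw [s.q_eq] at this
    exact_mod_cast this.ne'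
  have hθ1 : θ 1 = I.relIndex U := by
    rw [hθe, IndRes.indFun_apply_one, NineCore.K_index s] at hd
    exact mul_left_cancel₀ hq hd
  have hpos : ∀ A B : Subgroup L, 0 < A.relIndex B := fun A B =>
    Nat.pos_of_dvd_of_pos (Subgroup.relIndex_dvd_card A B) Nat.card_pos
  rcases hdeg θ hθ with h | h
  · exfalso
    rw [hθ1] at h
    have h1 : I.relIndex U = a := by exact_mod_cast h
    have h2 := Subgroup.relIndex_mul_relIndex I U₁ U hIU₁ hU₁U
    rw [h1, g.a_eq] at h2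
    have ha0 : 0 < a := by have := g.a_gt; omega
    have h3 : I.relIndex U₁ = 1 := Nat.eq_of_mul_eq_mul_right ha0 (by rw [h2, one_mul])
    have h4 : U₁ ≤ I := Subgroup.relIndex_eq_one.mp h3
    have h5 : U₁ ≤ C := le_C_of_conj g hw hw1 (fun y hy => ((hI y).mp (h4 hy)).2)
    have h6 : U₁ = C := le_antisymm h5 g.C_le
    have h7 := g.a_eq
    rw [h6, s.u_eq] at h7
    omega
  · rw [hθ1] at h
    have h1 : I.relIndex U = n := by exact_mod_cast h
    have h2 := Subgroup.relIndex_mul_relIndex C I U hCI (hIU₁.trans hU₁U)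
    rw [h1, s.u_eq] at h2
    have hn0 : 0 < n := by have := s.u_gt; omega
    have h3 : C.relIndex I = 1 := Nat.eq_of_mul_eq_mul_right hn0 (by rw [h2, one_mul])
    exact (Subgroup.relIndex_eq_one.mp h3) ((hI x).mpr ⟨hx, hwx⟩)

end Cfsg.Agent.OddOrderCharacters.PF9.ElevenA
end

-- part: OddOrderCharacters/PF9/ElevenB
section
/-!
# Peterfalvi (9.11), the subgroup `C` is trivial
-/

set_option autoImplicit false
open Cfsg
open Cfsg.Agent.OddOrderCharacters.PFDefs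
open Cfsg.Agent.OddOrderCharacters.PF9.Defs

namespace Cfsg.Agent.OddOrderCharacters.PF9.ElevenB

universe u

variable {L : Type u} [Group L] {K H U W₁ W₂ H₀ C H₁ U₁ : Subgroup L} {p q n a : ℕ}

theorem card_eq {A B : Subgroup L} (h : A ≤ B) : Nat.card ↥A * A.relIndex B = Nat.card ↥B := by
  have h4 := Subgroup.relIndex_mul_relIndex ⊥ A B bot_le h
  rwa [Subgroup.relIndex_bot_left, Subgroup.relIndex_bot_left] at h4

/-- P2b: `U₁ / C` embeds in `U / U₁^w`, so it is cyclic; `U₁` is nilpotent and `U₁ / U₁'` is cyclic so `U₁`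
is cyclic and `C = U₁' = 1`. -/
theorem C_eq_bot [Finite L] (g : NonGalois K H U W₁ W₂ H₀ C H₁ U₁ p q n a)
    (hinf : ∀ w ∈ W₁, w ≠ 1 → ∀ x ∈ U₁, w * x * w⁻¹ ∈ U₁ → x ∈ C) (hC : C = ⁅U₁, U₁⁆) :
    C = ⊥ ∧ n = a * Nat.card ↥U₁ ∧ Nat.card ↥U = n ∧ Nat.card ↥U₁ ≤ a := by
  classical
  have hU₁U : U₁ ≤ U := fun x hx => ((g.mem_U₁ x).mp hx).1
  have hN : (U₁.subgroupOf U).Normal := by
    refine ⟨fun x hx y => ?_⟩
    exact g.U_conj_U₁ y y.2 x hx
  obtain ⟨w, hw, hw1⟩ : ∃ w ∈ W₁, w ≠ 1 := by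
    by_contra hcon
    push Not at hcon
    have h1 : W₁ = ⊥ := (Subgroup.eq_bot_iff_forall _).mpr hcon
    have h2 := g.setup.hyp.W₁_prime
    rw [h1, Subgroup.card_bot] at h2
    exact Nat.not_prime_one h2
  -- the homomorphism
  let f₀ : ↥U₁ →* ↥U :=
    { toFun := fun x => ⟨w * x * w⁻¹, g.setup.hyp.W₁_norm w hw x (hU₁U x.2)⟩
      map_one' := by apply Subtype.ext; simp
      map_mul' := fun x y => by apply Subtype.ext; simp [mul_assoc] }
  let f : ↥U₁ →* ↥U ⧸ U₁.subgroupOf U := (QuotientGroup.mk' _).comp f₀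
  have hker : ∀ x : ↥U₁, f x = 1 → (x : L) ∈ C := by
    intro x hx
    have h1 : f₀ x ∈ U₁.subgroupOf U := (QuotientGroup.eq_one_iff _).mp hx
    exact hinf w hw hw1 x x.2 h1
  have hcyc : IsCyclic (↥U ⧸ U₁.subgroupOf U) := by
    obtain ⟨y, hy, hy'⟩ := g.cyclic
    refine ⟨⟨QuotientGroup.mk' _ ⟨y, hy⟩, fun x => ?_⟩⟩
    obtain ⟨x, rfl⟩ := QuotientGroup.mk'_surjective _ x
    obtain ⟨k, hk⟩ := hy' x x.2
    refine ⟨k, ?_⟩
    show (QuotientGroup.mk' (U₁.subgroupOf U) ⟨y, hy⟩) ^ (k : ℤ) = _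
    rw [zpow_natCast, ← map_pow]
    exact QuotientGroup.eq.mpr hk
  have hcomm : (commutator ↥U₁).map U₁.subtype = ⁅U₁, U₁⁆ := by
    rw [commutator_def, Subgroup.map_commutator, ← MonoidHom.range_eq_map, Subgroup.range_subtype]
  have hnilp : Group.IsNilpotent ↥U₁ := by
    have _ := g.setup.hyp.U_nilp
    exact Subgroup.isNilpotent_of_ker_le_center (Subgroup.inclusion hU₁U)
      (by rw [(MonoidHom.ker_eq_bot_iff _).mpr (Subgroup.inclusion_injective hU₁U)]; exact bot_le)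
  have hU₁c : IsCyclic ↥U₁ := by
    have h1 : IsCyclic ↥f.range := inferInstance
    obtain ⟨⟨_, y, rfl⟩, hy⟩ := h1
    have htop : Subgroup.zpowers y ⊔ commutator ↥U₁ = ⊤ := by
      rw [eq_top_iff]
      intro x _
      obtain ⟨k, hk⟩ := Subgroup.mem_zpowers_iff.mp (hy ⟨f x, x, rfl⟩)
      have h2 : f y ^ k = f x := congrArg Subtype.val hk
      have h3 : f ((y ^ k)⁻¹ * x) = 1 := by
        rw [map_mul, map_inv, map_zpow, h2, inv_mul_cancel]
      have h4 := hker _ h3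
      have h5 : (y ^ k)⁻¹ * x ∈ commutator ↥U₁ := by
        rw [hC, ← hcomm] at h4
        obtain ⟨z, hz, hzx⟩ := h4
        rwa [← Subtype.ext hzx]
      have h6 : x = y ^ k * ((y ^ k)⁻¹ * x) := by group
      rw [h6]
      exact Subgroup.mul_mem _ (Subgroup.mem_sup_left (Subgroup.zpow_mem_zpowers y k))
        (Subgroup.mem_sup_right h5)
    have h2 := Cfsg.Agent.SolvableStructure.AbelianSocle.eq_top_of_sup_commutator htop
    refine ⟨⟨y, fun x => ?_⟩⟩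
    have h7 : x ∈ Subgroup.zpowers y := by rw [h2]; trivial
    exact Subgroup.mem_zpowers_iff.mp h7
  have hCbot : C = ⊥ := by
    rw [hC, Subgroup.commutator_eq_bot_iff_le_centralizer]
    intro x hx
    rw [Subgroup.mem_centralizer_iff]
    intro y hy
    have hcm := hU₁c.commGroup.mul_comm ⟨y, hy⟩ ⟨x, hx⟩
    exact congrArg Subtype.val hcm
  have hn : Nat.card ↥U = n := by
    rw [← g.setup.u_eq, hCbot, Subgroup.relIndex_bot_left]
  have hinj : Function.Injective f := by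
    rw [injective_iff_map_eq_one]
    intro x hx
    have := hker x hx
    rw [hCbot] at this
    exact Subtype.ext (Subgroup.mem_bot.mp this)
  refine ⟨hCbot, ?_, hn, ?_⟩
  · rw [← hn, ← g.a_eq, mul_comm]
    exact (card_eq hU₁U).symm
  · have h1 := Nat.card_le_card_of_injective f hinj
    have h2 : Nat.card (↥U ⧸ U₁.subgroupOf U) = a := by
      rw [← g.a_eq]; rfl
    rwa [h2] at h1

end Cfsg.Agent.OddOrderCharacters.PF9.ElevenB
end

-- part: OddOrderCharacters/PF9/ElevenC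
section
/-!
Peterfalvi (9.11), last part of the proof: the virtual character `1_{HU₁}^L - ξ^L`.
-/

set_option autoImplicit false

open scoped ComplexConjugate
open Cfsg
open Cfsg.Agent.OddOrderCharacters.PFDefs
open Cfsg.Agent.OddOrderCharacters.PF9.Defs

namespace Cfsg.Agent.OddOrderCharacters.PF9.ElevenC

open Cfsg.Agent.Characters Cfsg.Agent.OddOrderCharacters.IndRes
open Cfsg.Agent.OddOrderCharacters.NormalInduced
open Cfsg.Agent.OddOrderCharacters.PF9.NineCore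

universe u

section group

variable {L : Type u} [Group L] {K H U W₁ W₂ H₀ C H₁ U₁ : Subgroup L} {p q n a : ℕ}

theorem U₁_le (g : NonGalois K H U W₁ W₂ H₀ C H₁ U₁ p q n a) : U₁ ≤ U :=
  fun x hx => ((g.mem_U₁ x).mp hx).1

theorem A_le_K (g : NonGalois K H U W₁ W₂ H₀ C H₁ U₁ p q n a) : H ⊔ U₁ ≤ K := by
  rw [← g.setup.hyp.K_eq]
  exact sup_le_sup_left (U₁_le g) H

theorem H_inf_U₁ (g : NonGalois K H U W₁ W₂ H₀ C H₁ U₁ p q n a) : H ⊓ U₁ = ⊥ := by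
  rw [← le_bot_iff, ← g.setup.hyp.HU_inf]
  exact inf_le_inf_left H (U₁_le g)

theorem card_A [Finite L] (g : NonGalois K H U W₁ W₂ H₀ C H₁ U₁ p q n a) :
    Nat.card ↥(H ⊔ U₁) = Nat.card ↥H * Nat.card ↥U₁ := by
  have _ := g.setup.hyp.H_normal
  have h1 := relIndex_sup (H_inf_U₁ g)
  have h2 := Subgroup.relIndex_mul_relIndex ⊥ H (H ⊔ U₁) bot_le le_sup_left
  rw [Subgroup.relIndex_bot_left, Subgroup.relIndex_bot_left, h1] at h2
  exact h2.symm

theorem card_K [Finite L] (g : NonGalois K H U W₁ W₂ H₀ C H₁ U₁ p q n a) :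
    Nat.card ↥K = Nat.card ↥(H ⊔ U₁) * a := by
  have _ := g.setup.hyp.H_normal
  have h1 := relIndex_sup g.setup.hyp.HU_inf
  have h2 := Subgroup.relIndex_mul_relIndex ⊥ H (H ⊔ U) bot_le le_sup_left
  rw [Subgroup.relIndex_bot_left, Subgroup.relIndex_bot_left, h1, g.setup.hyp.K_eq] at h2
  have h3 := Subgroup.relIndex_mul_relIndex ⊥ U₁ U bot_le (U₁_le g)
  rw [Subgroup.relIndex_bot_left, Subgroup.relIndex_bot_left, g.a_eq] at h3
  rw [← h2, card_A g, ← h3, mul_assoc]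

theorem card_L [Finite L] (g : NonGalois K H U W₁ W₂ H₀ C H₁ U₁ p q n a) :
    Nat.card L = Nat.card ↥K * q := by
  rw [← K_index g.setup, Subgroup.card_mul_index]

/-- `HU₁` centralises `H₁ / H₀`. -/
theorem comm_mem (g : NonGalois K H U W₁ W₂ H₀ C H₁ U₁ p q n a) {t : L} (ht : t ∈ H ⊔ U₁) {h : L}
    (hh : h ∈ H₁) : t * h * t⁻¹ * h⁻¹ ∈ H₀ := by
  have _ := g.setup.kernel.normal
  have hle : H ⊔ U₁ ≤ (Subgroup.centralizer ((H₁.map (QuotientGroup.mk' H₀) :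
      Subgroup (L ⧸ H₀)) : Set (L ⧸ H₀))).comap (QuotientGroup.mk' H₀) := by
    rw [sup_le_iff]
    refine ⟨fun x hx => ?_, fun x hx => ?_⟩
    · rw [Subgroup.mem_comap, Subgroup.mem_centralizer_iff]
      rintro _ ⟨y, hy, rfl⟩
      refine (comm_mem_iff H₀ y x).mp (g.setup.H_comm ?_)
      exact Subgroup.commutator_mem_commutator (g.H₁_le hy) hx
    · rw [Subgroup.mem_comap, Subgroup.mem_centralizer_iff]
      rintro _ ⟨y, hy, rfl⟩
      exact ((comm_mem_iff H₀ x y).mp (((g.mem_U₁ x).mp hx).2 y hy)).symm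
  have h1 := hle ht
  rw [Subgroup.mem_comap, Subgroup.mem_centralizer_iff] at h1
  exact (comm_mem_iff H₀ t h).mpr (h1 _ ⟨h, hh, rfl⟩).symm

/-- P3a -/
theorem exists_commute [Finite L] (g : NonGalois K H U W₁ W₂ H₀ C H₁ U₁ p q n a) (x : L)
    (hx : x ∈ H ⊔ U₁) (_hx1 : x ≠ 1) : ∃ h ∈ H, h ≠ 1 ∧ x * h = h * x := by
  by_contra hcon
  push Not at hcon
  have hN₀ := g.setup.kernel.normal
  have hN := g.setup.hyp.H_normal
  have inj : ∀ h ∈ H, ∀ h' ∈ H, x * h * x⁻¹ * h⁻¹ = x * h' * x⁻¹ * h'⁻¹ → h = h' := by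
    intro h hh h' hh' e
    by_contra hne
    refine hcon (h⁻¹ * h') (H.mul_mem (H.inv_mem hh) hh') (fun h0 => hne ?_) ?_
    · exact (inv_mul_eq_one.mp h0)
    · have e1 : x * h' * x⁻¹ = x * h * x⁻¹ * h⁻¹ * h' := by rw [e]; group
      have e2 : x * h' = x * h * x⁻¹ * h⁻¹ * h' * x := by rw [← e1]; group
      have e3 : x * h * x⁻¹ * (x * h⁻¹ * h') = x * h * x⁻¹ * (h⁻¹ * h' * x) := by
        calc x * h * x⁻¹ * (x * h⁻¹ * h') = x * h' := by group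
          _ = x * h * x⁻¹ * h⁻¹ * h' * x := e2
          _ = _ := by group
      have e4 := mul_left_cancel e3
      rw [← e4]; group
  let f : ↥H₀ → ↥H₀ := fun h => ⟨x * h * x⁻¹ * (h : L)⁻¹,
    H₀.mul_mem (hN₀.conj_mem h h.2 x) (H₀.inv_mem h.2)⟩
  have hf : Function.Injective f := by
    intro h h' e
    apply Subtype.ext
    exact inj h (g.setup.kernel.lt.le h.2) h' (g.setup.kernel.lt.le h'.2) (congrArg Subtype.val e)
  have hfs : Function.Surjective f := Finite.surjective_of_injective hf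
  have hlt : H₀ < H₁ := by
    refine lt_of_le_of_ne g.H₀_le ?_
    rintro rfl
    have := g.H₁_index
    rw [Subgroup.relIndex_self] at this
    exact g.setup.p_prime.one_lt.ne this
  obtain ⟨h₁, hh₁, hh₁'⟩ := SetLike.exists_of_lt hlt
  obtain ⟨h₀, hh₀⟩ := hfs ⟨_, comm_mem g hx hh₁⟩
  have e := inj h₀ (g.setup.kernel.lt.le h₀.2) h₁ (g.H₁_le hh₁) (congrArg Subtype.val hh₀)
  exact hh₁' (e ▸ h₀.2)

/-- `HU₁` is normalised by `K`. -/
theorem A_conj (g : NonGalois K H U W₁ W₂ H₀ C H₁ U₁ p q n a) {k x : L} (hk : k ∈ K)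
    (hx : x ∈ H ⊔ U₁) : k * x * k⁻¹ ∈ H ⊔ U₁ := by
  have hN := g.setup.hyp.H_normal
  rw [← g.setup.hyp.K_eq] at hk
  obtain ⟨y, hy, z, hz, rfl⟩ := Subgroup.mem_sup_of_normal_left.mp hk
  obtain ⟨h, hh, v, hv, rfl⟩ := Subgroup.mem_sup_of_normal_left.mp hx
  have e : y * z * (h * v) * (y * z)⁻¹ = y * ((z * h * z⁻¹) * (z * v * z⁻¹)) * y⁻¹ := by group
  rw [e]
  have hy' : y ∈ H ⊔ U₁ := Subgroup.mem_sup_left hy
  refine Subgroup.mul_mem _ (Subgroup.mul_mem _ hy' (Subgroup.mul_mem _ ?_ ?_))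
    (Subgroup.inv_mem _ hy')
  · exact Subgroup.mem_sup_left (hN.conj_mem h hh z)
  · exact Subgroup.mem_sup_right (g.U_conj_U₁ z hz v hv)

theorem A_inf_U (g : NonGalois K H U W₁ W₂ H₀ C H₁ U₁ p q n a) {x : L} (hx : x ∈ H ⊔ U₁)
    (hxU : x ∈ U) : x ∈ U₁ := by
  have hN := g.setup.hyp.H_normal
  obtain ⟨h, hh, v, hv, rfl⟩ := Subgroup.mem_sup_of_normal_left.mp hx
  have h1 : h ∈ U := by
    have := U.mul_mem hxU (U.inv_mem (U₁_le g hv))
    simpa using this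
  have h2 : h ∈ H ⊓ U := ⟨hh, h1⟩
  rw [g.setup.hyp.HU_inf, Subgroup.mem_bot] at h2
  rw [h2, one_mul]
  exact hv

/-- the conjugates of `HU₁` under elements outside `K` meet `HU₁` in `H` (when `C = 1`). -/
theorem mem_H_of_conj (g : NonGalois K H U W₁ W₂ H₀ C H₁ U₁ p q n a) (hC : C = ⊥)
    (hinf : ∀ w ∈ W₁, w ≠ 1 → ∀ x ∈ U₁, w * x * w⁻¹ ∈ U₁ → x ∈ C) {x y : L} (hx : x ∉ K)
    (hy : y ∈ H ⊔ U₁) (hxy : x * y * x⁻¹ ∈ H ⊔ U₁) : y ∈ H := by
  have hN := g.setup.hyp.H_normal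
  have hK := g.setup.hyp.K_normal
  have hxt : x ∈ K ⊔ W₁ := by rw [g.setup.hyp.W₁_sup]; exact Subgroup.mem_top x
  rw [sup_comm] at hxt
  obtain ⟨w, hw, k, hk, rfl⟩ := Subgroup.mem_sup_of_normal_right.mp hxt
  have hw1 : w ≠ 1 := by
    rintro rfl
    exact hx (by simpa using hk)
  have hy' := A_conj g hk hy
  obtain ⟨h, hh, v, hv, hhv⟩ := Subgroup.mem_sup_of_normal_left.mp hy'
  have e : w * k * y * (w * k)⁻¹ = (w * h * w⁻¹) * (w * v * w⁻¹) := by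
    calc w * k * y * (w * k)⁻¹ = w * (k * y * k⁻¹) * w⁻¹ := by group
      _ = _ := by rw [← hhv]; group
  rw [e] at hxy
  have h1 : w * h * w⁻¹ ∈ H ⊔ U₁ := Subgroup.mem_sup_left (hN.conj_mem h hh w)
  have h2 : w * v * w⁻¹ ∈ H ⊔ U₁ := (Subgroup.mul_mem_cancel_left _ h1).mp hxy
  have h3 := A_inf_U g h2 (g.setup.hyp.W₁_norm w hw v (U₁_le g hv))
  have h4 := hinf w hw hw1 v hv h3
  rw [hC, Subgroup.mem_bot] at h4
  rw [h4, mul_one] at hhv
  have h5 : k * y * k⁻¹ ∈ H := hhv ▸ hh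
  have h6 := hN.conj_mem _ h5 k⁻¹
  have e6 : k⁻¹ * (k * y * k⁻¹) * k⁻¹⁻¹ = y := by group
  rwa [e6] at h6

end group

section characters

variable {L : Type u} [Group L] [Fintype L] {K H U W₁ W₂ H₀ C H₁ U₁ : Subgroup L} {p q n a : ℕ}

omit [Fintype L] in
/-- An irreducible character whose kernel does not contain the normal subgroup `N` sums to zero over
every coset of `N`. -/
theorem sum_coset_eq_zero {T : Type*} [Group T] [Finite T] {χ : T → ℂ} (hχ : IsIrrCharacter T χ)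
    (N : Subgroup T) [hN : N.Normal] (S : Finset T) (hS : ∀ x, x ∈ S ↔ x ∈ N)
    (hne : ∃ x ∈ N, χ x ≠ χ 1) (k : T) : ∑ x ∈ S, χ (x * k) = 0 := by
  obtain ⟨n, ρ, hρ, rfl⟩ := hχ
  obtain ⟨c, hc⟩ := ClassSum.invariant_sum_scalar ρ hρ S
    (fun g x hx => (hS _).mpr (hN.conj_mem x ((hS x).mp hx) g))
  by_cases h0 : c = 0
  · have h1 : ∑ x ∈ S, ρ.character (x * k) = LinearMap.trace ℂ _ ((∑ x ∈ S, ρ x) * ρ k) := by
      rw [Finset.sum_mul, map_sum]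
      refine Finset.sum_congr rfl fun x _ => ?_
      rw [← map_mul]; rfl
    rw [h1, hc, h0, zero_smul, zero_mul, map_zero]
  · exfalso
    obtain ⟨a, ha, hne⟩ := hne
    apply hne
    have h1 : ρ a * ∑ x ∈ S, ρ x = ∑ x ∈ S, ρ x := by
      rw [Finset.mul_sum]
      refine Finset.sum_bij' (fun x _ => a * x) (fun x _ => a⁻¹ * x) ?_ ?_ ?_ ?_ ?_
      · intro x hx
        exact (hS _).mpr (N.mul_mem ha ((hS x).mp hx))
      · intro x hx
        exact (hS _).mpr (N.mul_mem (N.inv_mem ha) ((hS x).mp hx))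
      · intro x _; group
      · intro x _; group
      · intro x _
        rw [map_mul]
    rw [hc, mul_smul_comm, mul_one] at h1
    have h2 : ρ a = 1 := smul_right_injective _ h0 h1
    show LinearMap.trace ℂ _ (ρ a) = LinearMap.trace ℂ _ (ρ 1)
    rw [h2, (map_one ρ : ρ 1 = 1)]

/-- The norm of a permutation character. -/
theorem norm_perm (A : Subgroup L) :
    (Nat.card ↥A : ℂ) ^ 2 * classInner (indFun A (fun _ => 1)) (indFun A (fun _ => 1)) =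
      ∑ x : L, (Nat.card {y : ↥A // x⁻¹ * y * x ∈ A} : ℂ) := by
  classical
  have _ : Fintype ↥A := Fintype.ofFinite ↥A
  have h0 : (Nat.card ↥A : ℂ) ≠ 0 := Nat.cast_ne_zero.mpr Nat.card_pos.ne'
  rw [classInner_indFun_right A _ (isClassFunction_indFun A _)]
  show (Nat.card ↥A : ℂ) ^ 2 * ((Nat.card ↥A : ℂ)⁻¹ *
    ∑ y : ↥A, indFun A (fun _ => 1) (y : L) * conj ((1 : ℂ))) = _
  have h1 : ∀ y : ↥A, indFun A (fun _ => 1) (y : L) * conj ((1 : ℂ)) =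
      (Nat.card ↥A : ℂ)⁻¹ * ∑ x : L, if x⁻¹ * y * x ∈ A then (1 : ℂ) else 0 := by
    intro y
    rw [S0150.indFun_apply, map_one, mul_one]
    congr 1
    refine Finset.sum_congr rfl fun x _ => ?_
    split_ifs with h
    · exact S0150.extendByZero_coe A (fun _ => (1 : ℂ)) ⟨_, h⟩
    · exact S0150.extendByZero_of_notMem _ _ h
  rw [Finset.sum_congr rfl fun y _ => h1 y, ← Finset.mul_sum, Finset.sum_comm]
  have h2 : ∀ x : L, (∑ y : ↥A, if x⁻¹ * (y : L) * x ∈ A then (1 : ℂ) else 0) =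
      (Nat.card {y : ↥A // x⁻¹ * y * x ∈ A} : ℂ) := by
    intro x
    rw [Finset.sum_boole, Nat.card_eq_fintype_card, Fintype.card_subtype]
  rw [Finset.sum_congr rfl fun x _ => h2 x]
  field_simp

/-- P3b -/
theorem norm_ind_one (g : NonGalois K H U W₁ W₂ H₀ C H₁ U₁ p q n a) (hC : C = ⊥)
    (hinf : ∀ w ∈ W₁, w ≠ 1 → ∀ x ∈ U₁, w * x * w⁻¹ ∈ U₁ → x ∈ C) :
    (Nat.card ↥U₁ : ℂ) * classInner (indFun (H ⊔ U₁) (fun _ => 1)) (indFun (H ⊔ U₁) (fun _ => 1)) =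
      a * Nat.card ↥U₁ + (q - 1) * a := by
  classical
  have hN := g.setup.hyp.H_normal
  have key := norm_perm (H ⊔ U₁)
  have h1 : ∀ x : L, (Nat.card {y : ↥(H ⊔ U₁) // x⁻¹ * y * x ∈ H ⊔ U₁} : ℂ) =
      if x ∈ K then (Nat.card ↥(H ⊔ U₁) : ℂ) else (Nat.card ↥H : ℂ) := by
    intro x
    split_ifs with hx
    · have hall : ∀ y : ↥(H ⊔ U₁), x⁻¹ * y * x ∈ H ⊔ U₁ := by
        intro y
        have := A_conj g (K.inv_mem hx) y.2
        rwa [inv_inv] at this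
      congr 1
      exact Nat.card_congr (Equiv.subtypeUnivEquiv hall)
    · congr 1
      refine Nat.card_congr
        { toFun := fun y => ⟨y.1.1, ?_⟩
          invFun := fun y => ⟨⟨y.1, Subgroup.mem_sup_left y.2⟩, ?_⟩
          left_inv := fun y => rfl
          right_inv := fun y => rfl }
      · have hx' : x⁻¹ ∉ K := fun h => hx (by simpa using K.inv_mem h)
        refine mem_H_of_conj g hC hinf hx' y.1.2 ?_
        rw [inv_inv]
        exact y.2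
      · have := hN.conj_mem y.1 y.2 x⁻¹
        rw [inv_inv] at this
        exact Subgroup.mem_sup_left this
  rw [Finset.sum_congr rfl fun x _ => h1 x, Finset.sum_ite, Finset.sum_const, Finset.sum_const] at key
  have c1 : (Finset.univ.filter (fun x : L => x ∈ K)).card = Nat.card ↥K := by
    rw [Nat.card_eq_fintype_card, Fintype.card_subtype]
  have c2 : (Finset.univ.filter (fun x : L => x ∉ K)).card + Nat.card ↥K = Nat.card L := by
    rw [← c1, add_comm, Finset.card_filter_add_card_filter_not, Finset.card_univ,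
      Nat.card_eq_fintype_card]
  have e1 := card_K g
  have e2 := card_A g
  have e3 := card_L g
  have hH : (Nat.card ↥H : ℂ) ≠ 0 := Nat.cast_ne_zero.mpr Nat.card_pos.ne'
  have hU : (Nat.card ↥U₁ : ℂ) ≠ 0 := Nat.cast_ne_zero.mpr Nat.card_pos.ne'
  have c2' : ((Finset.univ.filter (fun x : L => x ∉ K)).card : ℂ) =
      (Nat.card ↥H * Nat.card ↥U₁ * a) * (q - 1) := by
    have : ((Finset.univ.filter (fun x : L => x ∉ K)).card : ℂ) + Nat.card ↥K = Nat.card L := by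
      exact_mod_cast c2
    rw [e3, e1, e2] at this
    push_cast at this
    linear_combination this
  rw [c1, nsmul_eq_mul, nsmul_eq_mul, c2', e1, e2] at key
  push_cast at key
  have h3 : (Nat.card ↥H : ℂ) ^ 2 * Nat.card ↥U₁ * ((Nat.card ↥U₁ : ℂ) *
      classInner (indFun (H ⊔ U₁) (fun _ => 1)) (indFun (H ⊔ U₁) (fun _ => 1)) -
      (a * Nat.card ↥U₁ + (q - 1) * a)) = 0 := by
    linear_combination key
  have h4 : (Nat.card ↥H : ℂ) ^ 2 * Nat.card ↥U₁ ≠ 0 := mul_ne_zero (pow_ne_zero 2 hH) hU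
  exact sub_eq_zero.mp ((mul_eq_zero.mp h3).resolve_left h4)

/-- `1_{HU₁}^L` is orthogonal to every member of `S(H₀)`. -/
theorem inner_one_eq_zero (g : NonGalois K H U W₁ W₂ H₀ C H₁ U₁ p q n a) {χ : L → ℂ}
    (hχ : χ ∈ seqIndD K H H₀) : classInner (indFun (H ⊔ U₁) (fun _ => 1)) χ = 0 := by
  classical
  have hN := g.setup.hyp.H_normal
  have hK := g.setup.hyp.K_normal
  have _ : Fintype ↥K := Fintype.ofFinite ↥K
  have _ : Fintype ↥(H ⊔ U₁) := Fintype.ofFinite _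
  obtain ⟨θ, ⟨hθ, hk, -⟩, rfl⟩ := (mem_seqIndD_iff K H H₀ χ).mp hχ
  rw [classInner_indFun_right K θ (isClassFunction_indFun _ _)]
  -- `f` is invariant under translations by `H`
  set f : L → ℂ := indFun (H ⊔ U₁) (fun _ => 1) with hf
  have hinv : ∀ h ∈ H, ∀ x : L, f (h * x) = f x := by
    intro h hh x
    rw [hf, S0150.indFun_apply, S0150.indFun_apply]
    congr 1
    refine Finset.sum_congr rfl fun y _ => ?_
    have e : y⁻¹ * (h * x) * y = (y⁻¹ * h * y) * (y⁻¹ * x * y) := by group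
    have h1 : y⁻¹ * h * y ∈ H ⊔ U₁ := by
      have := hN.conj_mem h hh y⁻¹
      rw [inv_inv] at this
      exact Subgroup.mem_sup_left this
    by_cases h2 : y⁻¹ * x * y ∈ H ⊔ U₁
    · have h3 : y⁻¹ * (h * x) * y ∈ H ⊔ U₁ := by rw [e]; exact Subgroup.mul_mem _ h1 h2
      rw [Core.extendByZero_of_mem _ _ h2, Core.extendByZero_of_mem _ _ h3]
    · have h3 : y⁻¹ * (h * x) * y ∉ H ⊔ U₁ := by
        rw [e]
        exact fun h4 => h2 ((Subgroup.mul_mem_cancel_left _ h1).mp h4)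
      rw [Core.extendByZero_of_notMem _ _ h2, Core.extendByZero_of_notMem _ _ h3]
  have _ : (H.subgroupOf K).Normal := inferInstance
  set S : Finset ↥K := Finset.univ.filter (fun x : ↥K => x ∈ H.subgroupOf K) with hS
  have hS' : ∀ x, x ∈ S ↔ x ∈ H.subgroupOf K := by simp [hS]
  have hzero : ∀ k : ↥K, ∑ x ∈ S, θ (x * k) = 0 := by
    intro k
    obtain ⟨x, hx, hx'⟩ := hk
    exact sum_coset_eq_zero hθ (H.subgroupOf K) S hS' ⟨x, hx, hx'⟩ k
  have h1 : ∀ x ∈ S, ∑ k : ↥K, f k * conj (θ k) = ∑ k : ↥K, f k * conj (θ (x * k)) := by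
    intro x hx
    rw [← Equiv.sum_comp (Equiv.mulLeft x) (fun k : ↥K => f k * conj (θ k))]
    refine Finset.sum_congr rfl fun k _ => ?_
    show f ((x * k : ↥K) : L) * _ = _
    rw [Subgroup.coe_mul, hinv x ((hS' x).mp hx)]
    rfl
  have h2 : (S.card : ℂ) * ∑ k : ↥K, f k * conj (θ k) = 0 := by
    rw [← nsmul_eq_mul, ← Finset.sum_const, Finset.sum_congr rfl h1, Finset.sum_comm]
    refine Finset.sum_eq_zero fun k _ => ?_
    rw [← Finset.mul_sum, ← map_sum, hzero, map_zero, mul_zero]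
  have h3 : (S.card : ℂ) ≠ 0 := by
    have : (1 : ↥K) ∈ S := (hS' 1).mpr (one_mem _)
    exact Nat.cast_ne_zero.mpr (Finset.card_ne_zero_of_mem this)
  show (Nat.card ↥K : ℂ)⁻¹ * ∑ k : ↥K, f k * conj (θ k) = 0
  rw [(mul_eq_zero.mp h2).resolve_left h3, mul_zero]

/-- P3c -/
theorem gamma_props (g : NonGalois K H U W₁ W₂ H₀ C H₁ U₁ p q n a) (hC : C = ⊥)
    (hinf : ∀ w ∈ W₁, w ≠ 1 → ∀ x ∈ U₁, w * x * w⁻¹ ∈ U₁ → x ∈ C)
    (ξ : ↥(H ⊔ U₁) →* ℂˣ) (hirr : IsIrrCharacter L (indFun (H ⊔ U₁) (fun x => (ξ x : ℂ))))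
    (hmem : indFun (H ⊔ U₁) (fun x => (ξ x : ℂ)) ∈ seqIndD K H H₀) (γ : L → ℂ)
    (hγ : γ = indFun (H ⊔ U₁) (fun _ => 1) - indFun (H ⊔ U₁) (fun x => (ξ x : ℂ))) :
    IsGeneralizedCharacter L γ ∧
    (∀ x, γ x ≠ 0 → x ∈ K ∧ x ≠ 1 ∧ ∃ h ∈ H, h ≠ 1 ∧ x * h = h * x) ∧
    (∀ χ ∈ seqIndD K H H₀, classInner γ χ = - classInner (indFun (H ⊔ U₁) (fun x => (ξ x : ℂ))) χ) ∧
    (Nat.card ↥U₁ : ℂ) * classInner γ γ = Nat.card ↥U₁ + a * Nat.card ↥U₁ + (q - 1) * a := by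
  classical
  have hN := g.setup.hyp.H_normal
  have hK := g.setup.hyp.K_normal
  have hc1 : IsCharacter L (indFun (H ⊔ U₁) (fun _ => (1 : ℂ))) :=
    isCharacter_indFun (H ⊔ U₁) (Core.isCharacter_one (G := ↥(H ⊔ U₁)))
  refine ⟨⟨_, _, hc1, Core.isIrr_isCharacter hirr, hγ⟩, ?_, ?_, ?_⟩
  · intro x hx
    have hconj : ∃ y : L, y⁻¹ * x * y ∈ H ⊔ U₁ := by
      by_contra hcon
      push Not at hcon
      apply hx
      rw [hγ, Pi.sub_apply, indFun_eq_zero_of_forall _ _ hcon, indFun_eq_zero_of_forall _ _ hcon,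
        sub_zero]
    obtain ⟨y, hy⟩ := hconj
    have hx1 : x ≠ 1 := by
      rintro rfl
      apply hx
      rw [hγ, Pi.sub_apply, indFun_apply_one, indFun_apply_one, map_one, Units.val_one, sub_self]
    refine ⟨?_, hx1, ?_⟩
    · have h1 := hK.conj_mem _ (A_le_K g hy) y
      have e : y * (y⁻¹ * x * y) * y⁻¹ = x := by group
      rwa [e] at h1
    · have hy1 : y⁻¹ * x * y ≠ 1 := by
        intro h
        apply hx1
        have e : x = y * (y⁻¹ * x * y) * y⁻¹ := by group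
        rw [e, h]; group
      obtain ⟨h, hh, hh1, hc⟩ := exists_commute g _ hy hy1
      refine ⟨y * h * y⁻¹, hN.conj_mem h hh y, fun h0 => hh1 ?_, ?_⟩
      · have e : h = y⁻¹ * (y * h * y⁻¹) * y := by group
        rw [e, h0]; group
      · calc x * (y * h * y⁻¹) = y * ((y⁻¹ * x * y) * h) * y⁻¹ := by group
          _ = y * (h * (y⁻¹ * x * y)) * y⁻¹ := by rw [hc]
          _ = y * h * y⁻¹ * x := by group
  · intro χ hχ
    rw [hγ, Core.classInner_sub_left, inner_one_eq_zero g hχ, zero_sub]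
  · have h1 := inner_one_eq_zero g hmem
    have h2 : classInner (indFun (H ⊔ U₁) (fun x => (ξ x : ℂ))) (indFun (H ⊔ U₁) (fun _ => (1 : ℂ))) = 0 := by
      rw [← Core.classInner_conj_symm, h1, map_zero]
    have h3 : classInner (indFun (H ⊔ U₁) (fun x => (ξ x : ℂ)))
        (indFun (H ⊔ U₁) (fun x => (ξ x : ℂ))) = 1 :=
      (Core.isIrr_iff_classInner_self (Core.isIrr_isCharacter hirr)).mp hirr
    have h4 := norm_ind_one g hC hinf
    rw [hγ, Core.classInner_sub_left, Core.classInner_sub_right, Core.classInner_sub_right, h1, h2, h3]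
    linear_combination h4

end characters

end Cfsg.Agent.OddOrderCharacters.PF9.ElevenC
end

-- part: OddOrderCharacters/PF9/ElevenD
section
/-!
# Peterfalvi (9.11), the final count

* `sum_degree_sq_seqIndD`: `∑ φ(1)² / ⟨φ, φ⟩ = |L : K| (|K : Y| - |K : X|)` over `seqIndD K X Y`;
* `final_count`: the numerical contradiction at the end of the proof of (9.11).
-/

set_option autoImplicit false
open Cfsg
open Cfsg.Agent.OddOrderCharacters.PFDefs
open Cfsg.Agent.OddOrderCharacters.PF9.Defs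

namespace Cfsg.Agent.OddOrderCharacters.PF9.ElevenD

open Cfsg.Agent.OddOrderCharacters.InducedNormal Cfsg.Agent.OddOrderCharacters.InducedSum
open Cfsg.Agent.OddOrderCharacters.PF9

universe u v

/-! ### Arithmetic -/

theorem arith_pow {a : ℝ} (ha : 1 ≤ a) {q : ℕ} (hq : 3 ≤ q) :
    2 * q * a + q * (q - 1) * a ^ 2 + (q + 2) * a ^ 3 + 1 < (2 * a + 1) ^ q := by
  induction q, hq using Nat.le_induction with
  | base =>
    have h2 : 0 < a ^ 2 := by positivity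
    have h3 : 0 < a ^ 3 := by positivity
    push_cast
    nlinarith
  | succ q hq ih =>
    have hq' : (3 : ℝ) ≤ q := by exact_mod_cast hq
    have h0 : 0 < a := by linarith
    have h1 : (2 * a + 1) * (2 * q * a + q * (q - 1) * a ^ 2 + (q + 2) * a ^ 3 + 1) <
        (2 * a + 1) * (2 * a + 1) ^ q := mul_lt_mul_of_pos_left ih (by linarith)
    rw [pow_succ' (2 * a + 1) q]
    refine lt_of_le_of_lt ?_ h1
    push_cast
    have e : (2 * a + 1) * (2 * q * a + q * (q - 1) * a ^ 2 + (q + 2) * a ^ 3 + 1) -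
        (2 * (q + 1) * a + (q + 1) * (q + 1 - 1) * a ^ 2 + (q + 1 + 2) * a ^ 3 + 1) =
        2 * q * a ^ 2 + (2 * q * (q - 1) - 1) * a ^ 3 + 2 * (q + 2) * a ^ 4 := by ring
    have h2 : 0 ≤ 2 * (q : ℝ) * a ^ 2 := by positivity
    have h3 : 0 ≤ (2 * (q : ℝ) * (q - 1) - 1) * a ^ 3 := by
      have : 0 ≤ 2 * (q : ℝ) * (q - 1) - 1 := by nlinarith
      positivity
    have h4 : 0 ≤ 2 * ((q : ℝ) + 2) * a ^ 4 := by positivity
    linarith

/-! ### The degree sum over `seqIndD K X Y` -/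

section sum

variable {L : Type u} [Group L] [Fintype L]

/-- A function induced from an irreducible character of `K` with `X` in its kernel is not induced
from an irreducible character of `K` without `X` in its kernel. -/
theorem not_mem_above (K X Y : Subgroup L) [hK : K.Normal] [hX : X.Normal] {φ : L → ℂ}
    (h : φ ∈ seqIndD K X Y) : φ ∉ inducedIrrAbove K X := by
  rintro ⟨θ, hθ, -, hθX, hφ⟩
  obtain ⟨θ', hθ', ⟨x, hx, hne⟩, -, hφ'⟩ := h
  have h1 := (S1486.result K θ θ' hθ hθ').2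
  by_cases hg : ∃ g : L, θ' = fun h : K => θ ⟨g * h * g⁻¹, hK.conj_mem h h.2 g⟩
  · obtain ⟨g, hg⟩ := hg
    apply hne
    rw [hg]
    show θ _ = θ _
    rw [hθX ⟨g * x * g⁻¹, hK.conj_mem x x.2 g⟩ (hX.conj_mem x hx g)]
    congr 1
    apply Subtype.ext
    simp
  · have h2 := h1 hg
    rw [← hφ, ← hφ'] at h2
    have h3 := Characters.Core.classInner_self_eq_zero h2
    obtain ⟨m, hm0, hm⟩ := Characters.Core.isIrr_apply_one hθ
    have h4 : φ 1 = 0 := by rw [h3]; rfl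
    rw [hφ, indFun_one, hm] at h4
    have h5 : (K.index : ℂ) ≠ 0 := Nat.cast_ne_zero.mpr Subgroup.FiniteIndex.index_ne_zero
    have h6 : (m : ℂ) ≠ 0 := Nat.cast_ne_zero.mpr hm0.ne'
    exact (mul_ne_zero h5 h6) h4

theorem above_orthogonal (K A : Subgroup L) [hK : K.Normal] {φ ψ : L → ℂ}
    (hφ : φ ∈ inducedIrrAbove K A) (hψ : ψ ∈ inducedIrrAbove K A) (hne : φ ≠ ψ) :
    classInner φ ψ = 0 := by
  obtain ⟨θ, hθ, -, -, rfl⟩ := hφ
  obtain ⟨η, hη, -, -, rfl⟩ := hψ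
  have h := S1486.result K η θ hη hθ
  exact h.2 (fun hg => hne (h.1 hg))

theorem finite_above (K A : Subgroup L) : (inducedIrrAbove K A).Finite := by
  have _ : Finite (IrrCharacter K) := Characters.Core.finite_irr
  refine (Set.finite_range (fun θ : IrrCharacter K => indFun K θ.1)).subset ?_
  rintro φ ⟨θ, h1, _, _, rfl⟩
  exact ⟨⟨θ, h1⟩, rfl⟩

theorem union_above (K X Y : Subgroup L) (hYX : Y ≤ X) :
    seqIndD K X Y ∪ inducedIrrAbove K X = inducedIrrAbove K Y := by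
  ext φ
  constructor
  · rintro (⟨θ, h1, ⟨x, hx, hne⟩, h3, rfl⟩ | ⟨θ, h1, h2, h3, rfl⟩)
    · refine ⟨θ, h1, ?_, h3, rfl⟩
      rintro rfl
      exact hne rfl
    · exact ⟨θ, h1, h2, fun a ha => h3 a (hYX ha), rfl⟩
  · rintro ⟨θ, h1, h2, h3, rfl⟩
    by_cases h : ∀ a : ↥K, (a : L) ∈ X → θ a = θ 1
    · exact Or.inr ⟨θ, h1, h2, h, rfl⟩
    · push Not at h
      obtain ⟨x, hx, hne⟩ := h
      exact Or.inl ⟨θ, h1, ⟨x, hx, hne⟩, h3, rfl⟩

/-- `∑ φ(1)² / ⟨φ, φ⟩ = |L : K| (|K : Y| - |K : X|)`, the sum over `seqIndD K X Y`. -/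
theorem sum_degree_sq_seqIndD (K X Y : Subgroup L) [hK : K.Normal] [hX : X.Normal]
    [hY : Y.Normal] (hYX : Y ≤ X) (hXK : X ≤ K) (S : Finset (L → ℂ))
    (hS : (S : Set (L → ℂ)) = seqIndD K X Y) :
    ∑ φ ∈ S, φ 1 ^ 2 / classInner φ φ =
      (K.index : ℂ) * ((Y.relIndex K : ℂ) - (X.relIndex K : ℂ)) := by
  classical
  set SX := (finite_above K X).toFinset with hSX
  set SY := (finite_above K Y).toFinset with hSY
  have hSX' : (SX : Set (L → ℂ)) = inducedIrrAbove K X := by rw [hSX, Set.Finite.coe_toFinset]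
  have hSY' : (SY : Set (L → ℂ)) = inducedIrrAbove K Y := by rw [hSY, Set.Finite.coe_toFinset]
  have horth : ∀ (A : Subgroup L) (T : Finset (L → ℂ)), (T : Set (L → ℂ)) = inducedIrrAbove K A →
      ∀ φ ∈ T, ∀ ψ ∈ T, φ ≠ ψ → classInner φ ψ = 0 := by
    intro A T hT φ hφ ψ hψ hne
    refine above_orthogonal K A ?_ ?_ hne
    · rw [← hT]; exact_mod_cast hφ
    · rw [← hT]; exact_mod_cast hψ
  have h1 := sum_degree_sq_div_norm K X hXK SX hSX' (horth X SX hSX')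
  have h2 := sum_degree_sq_div_norm K Y (hYX.trans hXK) SY hSY' (horth Y SY hSY')
  have hU : SY = S ∪ SX := by
    apply Finset.coe_injective
    rw [Finset.coe_union, hSY', hS, hSX', union_above K X Y hYX]
  have hD : Disjoint S SX := by
    rw [Finset.disjoint_left]
    intro φ hφ hφ'
    have e1 : φ ∈ seqIndD K X Y := by rw [← hS]; exact_mod_cast hφ
    have e2 : φ ∈ inducedIrrAbove K X := by rw [← hSX']; exact_mod_cast hφ'
    exact not_mem_above K X Y e1 e2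
  rw [hU, Finset.sum_union hD, h1] at h2
  linear_combination h2

end sum

/-! ### The final count -/

variable {L : Type u} [Group L] [Fintype L] {K H U W₁ W₂ H₀ C H₁ U₁ : Subgroup L} {p q n a : ℕ}

/-- P4: the final count.  `∑_{ζ ∈ S(H₀)} ζ(1)² / (ζ, ζ) = q |K:H₀| - q |K:H| = q n (p^q - 1)`, the
`p - 1` reducible members have degree `q n` and norm `q`, `2 * card U₁` members are irreducible of
degree `q a`, all the others are irreducible of degree `q n`. -/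
theorem final_count (g : NonGalois K H U W₁ W₂ H₀ C H₁ U₁ p q n a) (hC : C = ⊥)
    (hn : n = a * Nat.card ↥U₁) (hb : 1 < Nat.card ↥U₁) (hba : Nat.card ↥U₁ ≤ a) (hp : p - 1 = 2 * a)
    (hred : {ζ | ζ ∈ seqIndD K H H₀ ∧ ¬ IsIrrCharacter L ζ}.ncard = p - 1)
    (hred' : ∀ ζ ∈ seqIndD K H H₀, ¬ IsIrrCharacter L ζ → ζ 1 = (q : ℂ) * n ∧ classInner ζ ζ = q)
    (hdeg : ∀ ζ ∈ seqIndD K H H₀, IsIrrCharacter L ζ → ζ 1 = (q : ℂ) * a ∨ ζ 1 = (q : ℂ) * n)
    (hcount : {ζ | ζ ∈ seqIndD K H H₀ ∧ IsIrrCharacter L ζ ∧ ζ 1 = (q : ℂ) * a}.ncard =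
      2 * Nat.card ↥U₁)
    (hbound : (Nat.card ↥U₁ : ℝ) *
        ({ζ | ζ ∈ seqIndD K H H₀ ∧ IsIrrCharacter L ζ ∧ ζ 1 = (q : ℂ) * n}.ncard : ℝ) ≤
      a * Nat.card ↥U₁ + (q - 1) * a) : False := by
  classical
  have s := g.setup
  have hKn : K.Normal := s.hyp.K_normal
  have hHn : H.Normal := s.hyp.H_normal
  have hH₀n : H₀.Normal := s.kernel.normal
  have hH₀H : H₀ ≤ H := s.kernel.lt.le
  have hHK : H ≤ K := by rw [← s.hyp.K_eq]; exact le_sup_left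
  set b := Nat.card ↥U₁ with hbdef
  have hpp := s.p_prime
  have hqp : q.Prime := s.q_eq ▸ s.hyp.W₁_prime
  have hq3 : 3 ≤ q := by
    have h1 := hqp.two_le
    rcases h1.lt_or_eq with h2 | h2
    · exact h2
    · exfalso
      have := s.q_odd
      rw [← h2] at this
      exact absurd this (by decide)
  have hapos : 0 < a := lt_trans one_pos g.a_gt
  have hnpos : 0 < n := lt_trans one_pos s.u_gt
  have hqpos : 0 < q := hqp.pos
  have hne : n ≠ a := by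
    rw [hn]
    intro h
    have : a * b = a * 1 := by rw [h, mul_one]
    have := Nat.eq_of_mul_eq_mul_left hapos this
    omega
  -- indices
  have hidx : H.relIndex K = n := by
    have h := NineCore.HC_relIndex s
    rwa [hC, sup_bot_eq] at h
  have hidx₀ : H₀.relIndex K = p ^ q * n := by
    rw [← Subgroup.relIndex_mul_relIndex H₀ H K hH₀H hHK, s.card_bar, hidx]
  -- the three pieces
  have hfin := NineCore.finite_seqIndD K H H₀
  set S := hfin.toFinset with hSdef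
  have hS : (S : Set (L → ℂ)) = seqIndD K H H₀ := by rw [hSdef, Set.Finite.coe_toFinset]
  have hmem : ∀ ζ, ζ ∈ S ↔ ζ ∈ seqIndD K H H₀ := fun ζ => by rw [hSdef, Set.Finite.mem_toFinset]
  have hsum := sum_degree_sq_seqIndD K H H₀ hH₀H hHK S hS
  rw [NineCore.K_index s, hidx, hidx₀] at hsum
  set R := S.filter (fun ζ => ¬ IsIrrCharacter L ζ) with hR
  set A := S.filter (fun ζ => IsIrrCharacter L ζ ∧ ζ 1 = (q : ℂ) * a) with hA
  set B := S.filter (fun ζ => IsIrrCharacter L ζ ∧ ζ 1 = (q : ℂ) * n) with hB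
  have hRc : R.card = p - 1 := by
    rw [← hred, ← Set.ncard_coe_finset]
    congr 1
    ext ζ
    simp [hR, hmem]
  have hAc : A.card = 2 * b := by
    rw [← hcount, ← Set.ncard_coe_finset]
    congr 1
    ext ζ
    simp [hA, hmem]
  have hBc : ({ζ | ζ ∈ seqIndD K H H₀ ∧ IsIrrCharacter L ζ ∧ ζ 1 = (q : ℂ) * n}.ncard) =
      B.card := by
    rw [← Set.ncard_coe_finset]
    congr 1
    ext ζ
    simp [hB, hmem]
  rw [hBc] at hbound
  have hqne : (q : ℂ) ≠ 0 := Nat.cast_ne_zero.mpr hqpos.ne'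
  have hdisj : Disjoint A B := by
    rw [Finset.disjoint_left]
    intro ζ h1 h2
    have e1 := (Finset.mem_filter.mp h1).2.2
    have e2 := (Finset.mem_filter.mp h2).2.2
    rw [e1] at e2
    have e3 := mul_left_cancel₀ hqne e2
    exact hne (by exact_mod_cast e3.symm)
  have hdisj' : Disjoint R (A ∪ B) := by
    rw [Finset.disjoint_left]
    intro ζ h1 h2
    have e1 := (Finset.mem_filter.mp h1).2
    rcases Finset.mem_union.mp h2 with h3 | h3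
    · exact e1 (Finset.mem_filter.mp h3).2.1
    · exact e1 (Finset.mem_filter.mp h3).2.1
  have hunion : S = R ∪ (A ∪ B) := by
    ext ζ
    simp only [hR, hA, hB, Finset.mem_union, Finset.mem_filter]
    constructor
    · intro h
      by_cases hi : IsIrrCharacter L ζ
      · rcases hdeg ζ ((hmem ζ).mp h) hi with h1 | h1
        · exact Or.inr (Or.inl ⟨h, hi, h1⟩)
        · exact Or.inr (Or.inr ⟨h, hi, h1⟩)
      · exact Or.inl ⟨h, hi⟩
    · rintro (h | h | h) <;> exact h.1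
  have sR : ∑ ζ ∈ R, ζ 1 ^ 2 / classInner ζ ζ = ((p - 1 : ℕ) : ℂ) * (((q : ℂ) * n) ^ 2 / q) := by
    rw [← hRc, ← nsmul_eq_mul, ← Finset.sum_const]
    refine Finset.sum_congr rfl fun ζ hζ => ?_
    obtain ⟨h1, h2⟩ := Finset.mem_filter.mp hζ
    obtain ⟨h3, h4⟩ := hred' ζ ((hmem ζ).mp h1) h2
    rw [h3, h4]
  have sA : ∑ ζ ∈ A, ζ 1 ^ 2 / classInner ζ ζ = ((2 * b : ℕ) : ℂ) * ((q : ℂ) * a) ^ 2 := by
    rw [← hAc, ← nsmul_eq_mul, ← Finset.sum_const]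
    refine Finset.sum_congr rfl fun ζ hζ => ?_
    obtain ⟨h1, h2, h3⟩ := Finset.mem_filter.mp hζ
    rw [h3, Characters.Core.classInner_irr_self h2, div_one]
  have sB : ∑ ζ ∈ B, ζ 1 ^ 2 / classInner ζ ζ = (B.card : ℂ) * ((q : ℂ) * n) ^ 2 := by
    rw [← nsmul_eq_mul, ← Finset.sum_const]
    refine Finset.sum_congr rfl fun ζ hζ => ?_
    obtain ⟨h1, h2, h3⟩ := Finset.mem_filter.mp hζ
    rw [h3, Characters.Core.classInner_irr_self h2, div_one]
  rw [hunion, Finset.sum_union hdisj', Finset.sum_union hdisj, sR, sA, sB, hp] at hsum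
  -- pass to natural numbers
  have key : (2 * a) * (q * n ^ 2) + (2 * b * (q * a) ^ 2 + B.card * (q * n) ^ 2) + q * n =
      q * (p ^ q * n) := by
    have h1 : ((2 * a : ℕ) : ℂ) * (((q : ℂ) * n) ^ 2 / q) = (2 * a) * (q * n ^ 2) := by
      push_cast
      field_simp
    rw [h1] at hsum
    have h2 : ((((2 * a) * (q * n ^ 2) + (2 * b * (q * a) ^ 2 + B.card * (q * n) ^ 2) + q * n : ℕ)) : ℂ) =
        ((q * (p ^ q * n) : ℕ) : ℂ) := by
      push_cast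
      push_cast at hsum
      linear_combination hsum
    exact_mod_cast h2
  -- pass to real numbers
  have hpa : p = 2 * a + 1 := by have := hpp.one_lt; omega
  have keyR : (2 * (a : ℝ)) * (q * n ^ 2) + (2 * b * (q * a) ^ 2 + B.card * (q * n) ^ 2) + q * n =
      q * ((2 * a + 1) ^ q * n) := by
    rw [hpa] at key
    exact_mod_cast key
  have hnR : (n : ℝ) = a * b := by exact_mod_cast hn
  have ha1 : (1 : ℝ) ≤ a := by exact_mod_cast hapos
  have hb1 : (1 : ℝ) ≤ b := by exact_mod_cast hb.le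
  have hba' : (b : ℝ) ≤ a := by exact_mod_cast hba
  have hq3' : (3 : ℝ) ≤ q := by exact_mod_cast hq3
  have hqR : (0 : ℝ) < q := by linarith
  have hnR0 : (0 : ℝ) < n := by rw [hnR]; positivity
  have harith := arith_pow ha1 hq3
  -- divide by `q n`
  have e1 : 2 * a * n + 2 * q * a + q * a * (b * B.card) + 1 = (2 * (a : ℝ) + 1) ^ q := by
    have h1 : (q : ℝ) * n * (2 * a * n + 2 * q * a + q * a * (b * B.card) + 1) =
        q * n * (2 * (a : ℝ) + 1) ^ q := by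
      have h2 : (q : ℝ) * n * (2 * q * a) = 2 * b * (q * a) ^ 2 := by rw [hnR]; ring
      have h3 : (q : ℝ) * n * (q * a * (b * B.card)) = B.card * (q * n) ^ 2 := by rw [hnR]; ring
      linear_combination keyR + h2 + h3
    exact mul_left_cancel₀ (mul_pos hqR hnR0).ne' h1
  have e2 : q * a * (b * B.card) ≤ (q : ℝ) * a * (a * b + (q - 1) * a) :=
    mul_le_mul_of_nonneg_left hbound (by positivity)
  have e3 : 2 * (a : ℝ) * n ≤ 2 * a ^ 3 := by
    rw [hnR]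
    have : (a : ℝ) * b ≤ a * a := mul_le_mul_of_nonneg_left hba' (by linarith)
    nlinarith
  have e4 : (q : ℝ) * a * (a * b + (q - 1) * a) ≤ q * a ^ 3 + q * (q - 1) * a ^ 2 := by
    have h1 : (q : ℝ) * a ^ 2 * b ≤ q * a ^ 2 * a := mul_le_mul_of_nonneg_left hba' (by positivity)
    nlinarith
  nlinarith

end Cfsg.Agent.OddOrderCharacters.PF9.ElevenD
end

-- part: OddOrderCharacters/PF9/Coherence
section
/-!
# Peterfalvi (9.11)
-/

set_option autoImplicit false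

open scoped ComplexConjugate
open Cfsg
open Cfsg.Agent.OddOrderCharacters.PFDefs
open Cfsg.Agent.OddOrderCharacters.PF9.Defs
open Cfsg.Agent.OddOrderCharacters.CoherenceStep
open Cfsg.Agent.OddOrderCharacters

namespace Cfsg.Agent.OddOrderCharacters.PF9.Coherence

universe u v

variable {L : Type u} [Group L] [Fintype L] {G : Type v} [Group G] [Fintype G]
  {K H U W₁ W₂ H₀ C H₁ U₁ : Subgroup L} {p q n a : ℕ}

omit [Fintype L] in
theorem relIndex_pos [Finite L] (A B : Subgroup L) : 0 < A.relIndex B :=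
  Nat.pos_of_dvd_of_pos (Subgroup.relIndex_dvd_card A B) Nat.card_pos

theorem K_index (s : Setup K H U W₁ W₂ H₀ C p q n) : K.index = q := by
  have := s.hyp.K_normal
  rw [Cliff3.index_eq s.hyp.W₁_sup s.hyp.W₁_inf, s.q_eq]

/-- The degree of an induced function. -/
theorem ind_one (s : Setup K H U W₁ W₂ H₀ C p q n) (θ : ↥K → ℂ) :
    indFun K θ 1 = (q : ℂ) * θ 1 := by
  have := s.hyp.K_normal
  rw [InducedNormal.indFun_one, K_index s]

omit [Fintype L] in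
theorem q_pos (s : Setup K H U W₁ W₂ H₀ C p q n) : 0 < q := by
  have := s.hyp.W₁_prime.pos
  rwa [s.q_eq] at this

/-- (9.11) in the Galois case. -/
theorem coherence_galois (s : Setup K H U W₁ W₂ H₀ C p q n) (hg : Galois H U H₀)
    (τ : (L → ℂ) → (G → ℂ)) (R : (L → ℂ) → Finset (G → ℂ))
    (hS : IsCoherenceSystem (seqIndD K H (H₀ ⊔ ⁅C, C⁆)) τ R) :
    IsCoherent (seqIndD K H (H₀ ⊔ ⁅C, C⁆)) {1}ᶜ τ := by
  have hdeg : ∀ φ ∈ seqIndD K H (H₀ ⊔ ⁅C, C⁆), φ 1 = (q : ℂ) * n := by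
    intro φ hφ
    obtain ⟨θ, hθ, rfl⟩ := (mem_seqIndD_iff _ _ _ _).mp hφ
    rw [ind_one s, (Nine.galois_degree s hg hθ).1]
  exact Cfsg.Agent.S1517.result _ τ R hS (fun φ hφ ψ hψ => by rw [hdeg φ hφ, hdeg ψ hψ])

/-- Degrees of the members of `S(H₀C')` in the non-Galois case. -/
theorem degree_form (g : NonGalois K H U W₁ W₂ H₀ C H₁ U₁ p q n a) {φ : L → ℂ}
    (hφ : φ ∈ seqIndD K H (H₀ ⊔ ⁅C, C⁆)) :
    ∃ k : ℕ, φ 1 = ((q * (a * k) : ℕ) : ℂ) ∧ 0 < k ∧ a * k ≤ n := by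
  obtain ⟨θ, hθ, rfl⟩ := (mem_seqIndD_iff _ _ _ _).mp hφ
  obtain ⟨k, hk⟩ := Eight.nonGalois_dvd g (Cliff.inX_mono le_sup_left hθ)
  obtain ⟨m, hm, hmn⟩ := Cliff.degree_le g.setup hθ
  have h1 : a * k = m := by
    have : ((a * k : ℕ) : ℂ) = m := by rw [← hm, hk]; push_cast; ring
    exact_mod_cast this
  obtain ⟨m', hm'0, hm'⟩ := Characters.Core.isIrr_apply_one hθ.irr
  have h2 : m = m' := by
    have : (m : ℂ) = m' := by rw [← hm, hm']
    exact_mod_cast this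
  refine ⟨k, ?_, ?_, by omega⟩
  · rw [ind_one g.setup, hk]; push_cast; ring
  · rcases Nat.eq_zero_or_pos k with h | h
    · rw [h, mul_zero] at h1; omega
    · exact h

/-- (9.11) in the non-Galois case. -/
theorem coherence_nonGalois (g : NonGalois K H U W₁ W₂ H₀ C H₁ U₁ p q n a)
    (τ : (L → ℂ) → (G → ℂ))
    (R : (L → ℂ) → Finset (G → ℂ)) (A₀ : Set L)
    (hS : IsCoherenceSystem (seqIndD K H (H₀ ⊔ ⁅C, C⁆)) τ R)
    (hA : ∀ x ∈ K, x ≠ 1 → ∀ h ∈ H, h ≠ 1 → x * h = h * x → x ∈ A₀)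
    (hsupp : ∀ α ∈ zspanOn (seqIndD K H (H₀ ⊔ ⁅C, C⁆)) {1}ᶜ, ∀ x, x ∉ A₀ → α x = 0)
    (hτ : IsLinearIsometryOn {α : L → ℂ | IsGeneralizedCharacter L α ∧ ∀ x, x ∉ A₀ → α x = 0} τ) :
    IsCoherent (seqIndD K H (H₀ ⊔ ⁅C, C⁆)) {1}ᶜ τ := by
  classical
  have s := g.setup
  set S : Set (L → ℂ) := seqIndD K H (H₀ ⊔ ⁅C, C⁆) with hSdef
  have hq : 0 < q := q_pos s
  have ha0 : 0 < a := by have := g.a_gt; omega
  -- degrees and norms
  have hdex : ∀ φ : L → ℂ, ∃ m : ℕ, φ ∈ S → φ 1 = (m : ℂ) := by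
    intro φ
    by_cases hφ : φ ∈ S
    · obtain ⟨m, hm⟩ := exists_degree hS hφ
      exact ⟨m, fun _ => hm⟩
    · exact ⟨0, fun h => absurd h hφ⟩
  choose d hd using hdex
  have hnex : ∀ φ : L → ℂ, ∃ m : ℕ, φ ∈ S → classInner φ φ = (m : ℂ) := by
    intro φ
    by_cases hφ : φ ∈ S
    · obtain ⟨m, hm⟩ := InnerLite.ci_char_nat (hS.isCharacter φ hφ) (hS.isCharacter φ hφ)
      exact ⟨m, fun _ => hm⟩
    · exact ⟨0, fun h => absurd h hφ⟩
  choose m hm using hnex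
  have hdk : ∀ φ ∈ S, ∃ k : ℕ, d φ = q * (a * k) ∧ 0 < k ∧ a * k ≤ n := by
    intro φ hφ
    obtain ⟨k, hk, hk0, hkn⟩ := degree_form g hφ
    refine ⟨k, ?_, hk0, hkn⟩
    rw [hd φ hφ] at hk
    exact_mod_cast hk
  have hdle : ∀ φ ∈ S, d φ ≤ q * n := by
    intro φ hφ
    obtain ⟨k, hk, -, hkn⟩ := hdk φ hφ
    rw [hk]; exact Nat.mul_le_mul_left q hkn
  have hddvd : ∀ φ ∈ S, q * a ∣ d φ := by
    intro φ hφ
    obtain ⟨k, hk, -, -⟩ := hdk φ hφ
    exact ⟨k, by rw [hk]; ring⟩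
  have hmirr : ∀ φ, φ ∈ S → IsIrrCharacter L φ → m φ = 1 := by
    intro φ hφ hirr
    have h := hm φ hφ
    rw [Characters.Core.classInner_irr_self hirr] at h
    exact_mod_cast h.symm
  have hconj1 : ∀ φ ∈ S, d (conjFun φ) = d φ := by
    intro φ hφ
    have h := hd _ (hS.conj_mem φ hφ)
    rw [CoherenceIter.conjFun_apply, hd φ hφ, map_natCast] at h
    exact_mod_cast h.symm
  -- finiteness
  have hfin : S.Finite := CoherenceExt.finite_of_orthogonal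
    (fun x hx y hy hxy => hS.orthogonal x hx y hy hxy) (fun x hx => ne_zero_of_mem hS hx)
  set F : Finset (L → ℂ) := hfin.toFinset with hF
  have hFm : ∀ φ, φ ∈ F ↔ φ ∈ S := fun φ => Set.Finite.mem_toFinset hfin
  have hFS : (↑F : Set (L → ℂ)) = S := Set.Finite.coe_toFinset hfin
  set S1 : Finset (L → ℂ) := F.filter (fun φ => IsIrrCharacter L φ ∧ d φ = q * a) with hS1
  have hS1m : ∀ φ, φ ∈ S1 ↔ φ ∈ S ∧ IsIrrCharacter L φ ∧ d φ = q * a := by
    intro φ; rw [hS1, Finset.mem_filter, hFm]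
  have hS1S : (↑S1 : Set (L → ℂ)) ⊆ S := fun φ hφ => ((hS1m φ).mp hφ).1
  have hS1c : ∀ φ ∈ S1, conjFun φ ∈ S1 := by
    intro φ hφ
    obtain ⟨h1, h2, h3⟩ := (hS1m φ).mp hφ
    exact (hS1m _).mpr ⟨hS.conj_mem φ h1, Characters.Core.isIrr_conj h2, by rw [hconj1 φ h1, h3]⟩
  -- the counting lemma
  have hcnt := Eight.nonGalois_count' g
  set T1 : Set (L → ℂ) := {ζ | ζ ∈ seqIndD K H (H₀ ⊔ ⁅C, C⁆) ∧ IsIrrCharacter L ζ ∧
    ζ 1 = (q : ℂ) * a ∧ ∃ ξ : ↥(H ⊔ U₁) →* ℂˣ, ζ = indFun (H ⊔ U₁) (fun x => (ξ x : ℂ))} with hT1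
  have hT1S : T1 ⊆ ↑S1 := by
    rintro ζ ⟨h1, h2, h3, -⟩
    refine (hS1m ζ).mpr ⟨h1, h2, ?_⟩
    rw [hd ζ h1] at h3
    exact_mod_cast h3
  have hT1card : T1.ncard ≤ S1.card := by
    rw [← Set.ncard_coe_finset]
    exact Set.ncard_le_ncard hT1S (Finset.finite_toSet _)
  have hp2 : 2 < p := by
    have h1 := s.p_prime.two_le
    have h2 := s.p_odd
    rcases h2 with ⟨r, hr⟩
    omega
  have hU₁pos : 0 < ⁅U₁, U₁⁆.relIndex U₁ := relIndex_pos _ _
  have hT1pos : 0 < T1.ncard := by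
    rcases Nat.eq_zero_or_pos T1.ncard with h | h
    · rw [h, mul_zero] at hcnt
      have : 0 < (p - 1) * ⁅U₁, U₁⁆.relIndex U₁ := Nat.mul_pos (by omega) hU₁pos
      omega
    · exact h
  obtain ⟨φ₁, hφ₁T⟩ := Set.nonempty_of_ncard_ne_zero hT1pos.ne'
  have hφ₁ : φ₁ ∈ S1 := hT1S hφ₁T
  have hφ₁S : φ₁ ∈ S := hS1S hφ₁
  have hdφ₁ : d φ₁ = q * a := ((hS1m φ₁).mp hφ₁).2.2
  -- `S1` is coherent
  have hcoh1 : IsCoherent (↑S1 : Set (L → ℂ)) {1}ᶜ τ := by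
    refine Cfsg.Agent.S1517.result _ τ R (SystemRestrict.isCoherenceSystem_subset hS hS1S
      ⟨φ₁, hφ₁⟩ hS1c) ?_
    intro φ hφ ψ hψ
    rw [hd φ (hS1S hφ), hd ψ (hS1S hψ), ((hS1m φ).mp hφ).2.2, ((hS1m ψ).mp hψ).2.2]
  have hsum1 : ∑ φ ∈ S1, ((d φ : ℝ) ^ 2 / (m φ : ℝ)) = S1.card * ((q : ℝ) * a) ^ 2 := by
    rw [Finset.sum_congr rfl (fun φ hφ => by
      rw [((hS1m φ).mp hφ).2.2, hmirr φ (hS1S hφ) ((hS1m φ).mp hφ).2.1]), Finset.sum_const,
      nsmul_eq_mul]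
    push_cast
    ring
  have hqr : (0 : ℝ) < q := by exact_mod_cast hq
  have har : (0 : ℝ) < a := by exact_mod_cast ha0
  by_contra hnot
  -- `a < n`
  have hdvdn : a ∣ n := by
    rw [← s.u_eq, ← g.a_eq, ← Subgroup.relIndex_mul_relIndex C U₁ U g.C_le
      (fun x hx => ((g.mem_U₁ x).mp hx).1)]
    exact dvd_mul_left _ _
  have han : a < n := by
    rcases Nat.lt_or_ge a n with h | h
    · exact h
    · exfalso
      apply hnot
      refine Cfsg.Agent.S1517.result _ τ R hS ?_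
      have hk1 : ∀ φ ∈ S, d φ = q * a := by
        intro φ hφ
        obtain ⟨k, hk, hk0, hkn⟩ := hdk φ hφ
        have h1 : a * k ≤ a * 1 := by omega
        have h2 : k ≤ 1 := Nat.le_of_mul_le_mul_left h1 ha0
        have h3 : k = 1 := by omega
        rw [hk, h3, mul_one]
      intro φ hφ ψ hψ
      rw [hd φ hφ, hd ψ hψ, hk1 φ hφ, hk1 ψ hψ]
  -- adjoining a set of characters
  have hadj : ∀ T1 T2 : Finset (L → ℂ), S1 ⊆ T1 → (↑T1 : Set (L → ℂ)) ⊆ S →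
      (↑T2 : Set (L → ℂ)) ⊆ S → (∀ φ ∈ T1, conjFun φ ∈ T1) → (∀ φ ∈ T2, conjFun φ ∈ T2) →
      IsCoherent (↑T1 : Set (L → ℂ)) {1}ᶜ τ →
      (∀ χ ∈ T2, (2 * d χ * (q * a) : ℝ) < ∑ φ ∈ T1, ((d φ : ℝ) ^ 2 / (m φ : ℝ))) →
      IsCoherent (↑T1 ∪ ↑T2 : Set (L → ℂ)) {1}ᶜ τ := by
    intro T1 T2 h1 h2 h3 h4 h5 h6 h7
    refine CoherenceIter.isCoherent_union_of_bound hS d m hd hm T1 T2 h2 h3 h4 h5 h6 φ₁ (h1 hφ₁)
      (fun χ hχ => by rw [hdφ₁]; exact hddvd χ (h3 hχ)) (fun χ hχ => ?_)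
    rw [hdφ₁]
    push_cast
    exact h7 χ hχ
  have hFc : ∀ φ ∈ F, conjFun φ ∈ F := fun φ hφ =>
    (hFm _).mpr (hS.conj_mem φ ((hFm φ).mp hφ))
  -- noncoherence bounds the sum over a coherent conjugation-closed set
  have hbd : ∀ T1 : Finset (L → ℂ), S1 ⊆ T1 → (↑T1 : Set (L → ℂ)) ⊆ S →
      (∀ φ ∈ T1, conjFun φ ∈ T1) → IsCoherent (↑T1 : Set (L → ℂ)) {1}ᶜ τ →
      ∑ φ ∈ T1, ((d φ : ℝ) ^ 2 / (m φ : ℝ)) ≤ 2 * (q * n) * (q * a) := by
    intro T1 h1 h2 h4 h6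
    by_contra hcon
    push Not at hcon
    apply hnot
    have h8 := hadj T1 F h1 h2 hFS.subset h4 hFc h6 (fun χ hχ => by
      refine lt_of_le_of_lt ?_ hcon
      have h9 : (d χ : ℝ) ≤ q * n := by exact_mod_cast hdle χ ((hFm χ).mp hχ)
      have h10 : (0 : ℝ) < q * a := by positivity
      nlinarith)
    rwa [hFS, Set.union_eq_self_of_subset_left h2] at h8
  -- `|S1| a ≤ 2 n`
  have hS1le : S1.card * a ≤ 2 * n := by
    have h := hbd S1 (Finset.Subset.refl _) hS1S hS1c hcoh1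
    rw [hsum1] at h
    have h2 : ((q : ℝ) ^ 2 * a) * (S1.card * a) ≤ ((q : ℝ) ^ 2 * a) * (2 * n) := by nlinarith
    have h3 : (S1.card * a : ℝ) ≤ 2 * n := le_of_mul_le_mul_left h2 (by positivity)
    exact_mod_cast h3
  -- the consequences of the equality
  have hder : ⁅U₁, U₁⁆ ≤ C := by
    refine le_trans (Subgroup.commutator_mono ?_ ?_) s.U_der_le <;>
    exact fun x hx => ((g.mem_U₁ x).mp hx).1
  have hnB : n = C.relIndex U₁ * a := by
    rw [← s.u_eq, ← g.a_eq, Subgroup.relIndex_mul_relIndex C U₁ U g.C_le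
      (fun x hx => ((g.mem_U₁ x).mp hx).1)]
  set B := C.relIndex U₁ with hB
  have hcB : ⁅U₁, U₁⁆.relIndex C * B = ⁅U₁, U₁⁆.relIndex U₁ :=
    Subgroup.relIndex_mul_relIndex _ _ _ hder g.C_le
  set c := ⁅U₁, U₁⁆.relIndex C with hc
  have hcpos : 0 < c := relIndex_pos _ _
  have hBpos : 0 < B := relIndex_pos _ _
  have hcB2 : (p - 1) * (c * B) ≤ 2 * (a * B) := by
    rw [hcB]
    calc (p - 1) * ⁅U₁, U₁⁆.relIndex U₁ ≤ a * T1.ncard := hcnt
      _ ≤ a * S1.card := Nat.mul_le_mul_left a hT1card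
      _ = S1.card * a := mul_comm _ _
      _ ≤ 2 * n := hS1le
      _ = 2 * (a * B) := by rw [hnB]; ring
  have hpc : (p - 1) * c ≤ 2 * a := by
    have : (p - 1) * c * B ≤ 2 * a * B := by
      calc (p - 1) * c * B = (p - 1) * (c * B) := by ring
        _ ≤ 2 * (a * B) := hcB2
        _ = 2 * a * B := by ring
    exact Nat.le_of_mul_le_mul_right this hBpos
  have hp2a : 2 * a ≤ p - 1 := by
    obtain ⟨r, hr⟩ := g.a_dvd
    have hev : Even (p - 1) := by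
      obtain ⟨t, ht⟩ := s.p_odd
      exact ⟨t, by omega⟩
    rw [hr, Nat.even_mul] at hev
    have hr2 : Even r := hev.resolve_left (by
      rw [Nat.not_even_iff_odd]; exact g.a_odd)
    obtain ⟨t, ht⟩ := hr2
    have htpos : 0 < t := by
      rcases Nat.eq_zero_or_pos t with h | h
      · rw [h] at ht; rw [ht] at hr; omega
      · exact h
    rw [hr, ht]
    nlinarith
  have hc1 : c = 1 := by
    by_contra hne
    have h2 : 2 ≤ c := by omega
    have h3 : (p - 1) * 2 ≤ (p - 1) * c := Nat.mul_le_mul_left _ h2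
    omega
  have hp : p - 1 = 2 * a := by
    rw [hc1, mul_one] at hpc
    omega
  have hCeq : C = ⁅U₁, U₁⁆ := le_antisymm (Subgroup.relIndex_eq_one.mp hc1) hder
  have hS1card : S1.card = 2 * B := by
    apply le_antisymm
    · have h1 : S1.card * a ≤ 2 * B * a := by
        calc S1.card * a ≤ 2 * n := hS1le
          _ = 2 * B * a := by rw [hnB]; ring
      exact Nat.le_of_mul_le_mul_right h1 ha0
    · have h1 : 2 * B * a ≤ S1.card * a := by
        calc 2 * B * a = (p - 1) * (c * B) := by rw [hp, hc1]; ring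
          _ = (p - 1) * ⁅U₁, U₁⁆.relIndex U₁ := by rw [hcB]
          _ ≤ a * T1.ncard := hcnt
          _ ≤ a * S1.card := Nat.mul_le_mul_left a hT1card
          _ = S1.card * a := mul_comm _ _
      exact Nat.le_of_mul_le_mul_right h1 ha0
  have hsum1' : ∑ φ ∈ S1, ((d φ : ℝ) ^ 2 / (m φ : ℝ)) = 2 * (q * n) * (q * a) := by
    rw [hsum1, hS1card, hnB]
    push_cast
    ring
  -- the other members have degree `q n`
  have hother : ∀ χ ∈ S, χ ∉ S1 → d χ = q * n := by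
    intro χ hχ hχ1
    by_contra hne
    let T : Finset (L → ℂ) := F.filter (fun φ => φ ∉ S1 ∧ d φ ≠ q * n)
    have hTm : ∀ φ, φ ∈ T ↔ φ ∈ S ∧ φ ∉ S1 ∧ d φ ≠ q * n := by
      intro φ
      change φ ∈ F.filter (fun φ => φ ∉ S1 ∧ d φ ≠ q * n) ↔ _
      rw [Finset.mem_filter, hFm]
    have hTS : (↑T : Set (L → ℂ)) ⊆ S := fun φ hφ => ((hTm φ).mp hφ).1
    have hTc : ∀ φ ∈ T, conjFun φ ∈ T := by
      intro φ hφ
      obtain ⟨h1, h2, h3⟩ := (hTm φ).mp hφ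
      refine (hTm _).mpr ⟨hS.conj_mem φ h1, fun h => h2 ?_, by rwa [hconj1 φ h1]⟩
      have := hS1c _ h
      rwa [CoherenceIter.conjFun_conjFun] at this
    have h1 := hadj S1 T (Finset.Subset.refl _) hS1S hTS hS1c hTc hcoh1 (by
      intro φ hφ
      rw [hsum1']
      obtain ⟨h1, h2, h3⟩ := (hTm φ).mp hφ
      have h4 : d φ < q * n := lt_of_le_of_ne (hdle φ h1) h3
      have h5 : (d φ : ℝ) < q * n := by exact_mod_cast h4
      have h6 : (0 : ℝ) < q * a := by positivity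
      nlinarith)
    rw [← Finset.coe_union] at h1
    have h2 := hbd (S1 ∪ T) Finset.subset_union_left (by
      rw [Finset.coe_union]; exact Set.union_subset hS1S hTS) (by
      intro φ hφ
      rcases Finset.mem_union.mp hφ with h | h
      · exact Finset.mem_union_left _ (hS1c φ h)
      · exact Finset.mem_union_right _ (hTc φ h)) h1
    have hχT : χ ∈ T := (hTm χ).mpr ⟨hχ, hχ1, hne⟩
    have h3 : ∑ φ ∈ S1, ((d φ : ℝ) ^ 2 / (m φ : ℝ)) <
        ∑ φ ∈ S1 ∪ T, ((d φ : ℝ) ^ 2 / (m φ : ℝ)) := by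
      refine Finset.sum_lt_sum_of_subset Finset.subset_union_left (i := χ)
        (Finset.mem_union_right _ hχT) hχ1 ?_ (fun j _ _ => by positivity)
      have h4 : d χ ≠ 0 := by
        intro h0
        have h5 := one_ne_zero_of_mem hS hχ
        rw [hd χ hχ, h0] at h5
        exact h5 (by simp)
      have h5 : m χ ≠ 0 := by
        intro h0
        have h6 := CoherenceExt.ci_self_ne (ne_zero_of_mem hS hχ)
        rw [hm χ hχ, h0] at h6
        exact h6 (by simp)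
      positivity
    rw [hsum1'] at h3
    exact absurd h3 (not_lt.mpr h2)
  have hdX : ∀ θ : ↥K → ℂ, InX K H (H₀ ⊔ ⁅C, C⁆) θ → θ 1 = a ∨ θ 1 = n := by
    intro θ hθ
    have hmem : indFun K θ ∈ S := (mem_seqIndD_iff _ _ _ _).mpr ⟨θ, hθ, rfl⟩
    have hqc : (q : ℂ) ≠ 0 := by exact_mod_cast hq.ne'
    have h1 := hd _ hmem
    rw [ind_one s] at h1
    by_cases h : indFun K θ ∈ S1
    · left
      rw [((hS1m _).mp h).2.2] at h1
      push_cast at h1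
      exact mul_left_cancel₀ hqc h1
    · right
      rw [hother _ hmem h] at h1
      push_cast at h1
      exact mul_left_cancel₀ hqc h1
  have hinf := ElevenA.inf_conj_le g han hdX
  obtain ⟨hCbot, hnU₁, -, hba⟩ := ElevenB.C_eq_bot g hinf hCeq
  have hBU : B = Nat.card ↥U₁ := by
    have : B * a = Nat.card ↥U₁ * a := by rw [← hnB, hnU₁]; ring
    exact Nat.eq_of_mul_eq_mul_right ha0 this
  have hb1 : 1 < Nat.card ↥U₁ := by
    by_contra hcon
    have h1 : Nat.card ↥U₁ ≤ 1 := by omega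
    have h2 : a * Nat.card ↥U₁ ≤ a * 1 := Nat.mul_le_mul_left a h1
    omega
  have hSH : seqIndD K H H₀ = S := by
    rw [hSdef, hCbot, Subgroup.commutator_bot_left, sup_bot_eq]
  obtain ⟨-, hφ₁irr, -, ξ, hξ⟩ := hφ₁T
  set γ : L → ℂ := indFun (H ⊔ U₁) (fun _ => 1) - indFun (H ⊔ U₁) (fun x => (ξ x : ℂ)) with hγ
  obtain ⟨hγ1, hγ2, hγ3, hγ4⟩ := ElevenC.gamma_props g hCbot hinf ξ (hξ ▸ hφ₁irr)
    (by rw [hSH, ← hξ]; exact hφ₁S) γ hγ
  rw [hSH, ← hξ] at hγ3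
  -- apply the borderline lemma
  set S2 : Finset (L → ℂ) := F.filter (fun φ => φ ∉ S1) with hS2
  have hS2m : ∀ φ, φ ∈ S2 ↔ φ ∈ S ∧ φ ∉ S1 := by
    intro φ; rw [hS2, Finset.mem_filter, hFm]
  have hφ₁n : classInner φ₁ φ₁ = 1 := Characters.Core.classInner_irr_self hφ₁irr
  have hbb := Border.border_bound hS A₀ hsupp hτ d m hd hm S1 S2 hS1S
    (fun φ hφ => ((hS2m φ).mp hφ).1) (fun φ hφ => ((hS2m φ).mp hφ).2) hS1c
    (by
      intro φ hφ
      obtain ⟨h1, h2⟩ := (hS2m φ).mp hφ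
      refine (hS2m _).mpr ⟨hS.conj_mem φ h1, fun h => h2 ?_⟩
      have := hS1c _ h
      rwa [CoherenceIter.conjFun_conjFun] at this) hcoh1 (q * a) (Nat.card ↥U₁) hb1
    (fun φ hφ => ((hS1m φ).mp hφ).2.2)
    (fun φ hφ => hmirr φ (hS1S hφ) ((hS1m φ).mp hφ).2.1)
    (fun χ hχ => by
      obtain ⟨h1, h2⟩ := (hS2m χ).mp hχ
      rw [hother χ h1 h2, hnU₁]; ring)
    (by rw [hS1card, hBU]) hφ₁ hγ1
    (fun x hx => by
      by_contra h0
      obtain ⟨h1, h2, h, h3, h4, h5⟩ := hγ2 x h0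
      exact hx (hA x h1 h2 h h3 h4 h5))
    (by rw [hγ3 φ₁ hφ₁S, hφ₁n])
    (fun χ hχ hne => by rw [hγ3 χ hχ, hS.orthogonal φ₁ hφ₁S χ hχ (Ne.symm hne), neg_zero])
  have hunion : (↑S1 ∪ ↑S2 : Set (L → ℂ)) = S := by
    ext φ
    constructor
    · rintro (h | h)
      · exact hS1S h
      · exact ((hS2m φ).mp h).1
    · intro h
      by_cases h1 : φ ∈ S1
      · exact Or.inl h1
      · exact Or.inr ((hS2m φ).mpr ⟨h, h1⟩)
  rw [hunion] at hbb
  have hbb2 := hbb.resolve_left hnot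
  have hUr : (0 : ℝ) < Nat.card ↥U₁ := by exact_mod_cast (by omega : 0 < Nat.card ↥U₁)
  have hγ4' : (Nat.card ↥U₁ : ℝ) * (classInner γ γ).re =
      Nat.card ↥U₁ + a * Nat.card ↥U₁ + (q - 1) * a := by
    have h := congrArg Complex.re hγ4
    simpa using h
  obtain ⟨hred, hred'⟩ := Reducible.reducible_members s
  refine ElevenD.final_count g hCbot hnU₁ hb1 hba hp hred ?_ ?_ ?_ ?_
  · intro ζ hζ hnirr
    refine ⟨(hred' ζ hζ hnirr).degree, ?_⟩
    obtain ⟨θ, hθ, rfl⟩ := (mem_seqIndD_iff _ _ _ _).mp hζ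
    rcases Cliff3.ind_irr_iff s hθ.irr with h | h
    · exact absurd h.1 hnirr
    · exact h.2.1
  · intro ζ hζ _
    rw [hSH] at hζ
    by_cases h : ζ ∈ S1
    · left
      rw [hd ζ hζ, ((hS1m ζ).mp h).2.2]; push_cast; ring
    · right
      rw [hd ζ hζ, hother ζ hζ h]; push_cast; ring
  · rw [← hBU, ← hS1card, ← Set.ncard_coe_finset]
    congr 1
    ext ζ
    rw [Finset.mem_coe, hS1m, Set.mem_ofPred_eq, hSH]
    constructor
    · rintro ⟨h1, h2, h3⟩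
      refine ⟨h1, h2, ?_⟩
      rw [hd ζ h1] at h3
      exact_mod_cast h3
    · rintro ⟨h1, h2, h3⟩
      refine ⟨h1, h2, ?_⟩
      rw [hd ζ h1, h3]; push_cast; ring
  · have hle : {ζ | ζ ∈ seqIndD K H H₀ ∧ IsIrrCharacter L ζ ∧ ζ 1 = (q : ℂ) * n}.ncard ≤
        (S2.filter (fun χ => m χ = 1)).card := by
      rw [← Set.ncard_coe_finset]
      refine Set.ncard_le_ncard ?_ (Finset.finite_toSet _)
      rintro ζ ⟨h1, h2, h3⟩
      rw [hSH] at h1
      rw [Finset.mem_coe, Finset.mem_filter, hS2m]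
      refine ⟨⟨h1, fun h => ?_⟩, hmirr ζ h1 h2⟩
      have h4 := ((hS1m ζ).mp h).2.2
      rw [hd ζ h1, h4] at h3
      have h5 : q * a = q * n := by exact_mod_cast h3
      have h6 := Nat.eq_of_mul_eq_mul_left hq h5
      omega
    have hle' : ({ζ | ζ ∈ seqIndD K H H₀ ∧ IsIrrCharacter L ζ ∧ ζ 1 = (q : ℂ) * n}.ncard : ℝ) ≤
        ((S2.filter (fun χ => m χ = 1)).card : ℝ) := by exact_mod_cast hle
    have h1 : ({ζ | ζ ∈ seqIndD K H H₀ ∧ IsIrrCharacter L ζ ∧ ζ 1 = (q : ℂ) * n}.ncard : ℝ) + 1 ≤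
        (classInner γ γ).re := by linarith
    have h2 := mul_le_mul_of_nonneg_left h1 hUr.le
    rw [hγ4'] at h2
    linarith

/-- Peterfalvi (9.11), abstract form. -/
theorem coherence (s : Setup K H U W₁ W₂ H₀ C p q n) (τ : (L → ℂ) → (G → ℂ))
    (R : (L → ℂ) → Finset (G → ℂ)) (A₀ : Set L)
    (hS : IsCoherenceSystem (seqIndD K H (H₀ ⊔ ⁅C, C⁆)) τ R)
    (hA : ∀ x ∈ K, x ≠ 1 → ∀ h ∈ H, h ≠ 1 → x * h = h * x → x ∈ A₀)
    (hsupp : ∀ α ∈ zspanOn (seqIndD K H (H₀ ⊔ ⁅C, C⁆)) {1}ᶜ, ∀ x, x ∉ A₀ → α x = 0)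
    (hτ : IsLinearIsometryOn {α : L → ℂ | IsGeneralizedCharacter L α ∧ ∀ x, x ∉ A₀ → α x = 0} τ) :
    IsCoherent (seqIndD K H (H₀ ⊔ ⁅C, C⁆)) {1}ᶜ τ := by
  by_cases hg : Galois H U H₀
  · exact coherence_galois s hg τ R hS
  · obtain ⟨H₁, U₁, a, g⟩ := NonGalois.nonGalois s hg
    exact coherence_nonGalois g τ R A₀ hS hA hsupp hτ

end Cfsg.Agent.OddOrderCharacters.PF9.Coherence
end

-- part: OddOrderCharacters/PF9/Main
section
/-!
# Peterfalvi (9.11) for the maximal subgroups of types II, III, IV of a minimal simple group of odd order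
-/

set_option autoImplicit false

namespace Cfsg.Agent.OddOrderCharacters.PF9.Main

open Cfsg Cfsg.Agent.OddOrderCharacters.PFDefs Cfsg.Agent.OddOrderCharacters.PF9.Defs

universe u

variable {G : Type u} [Group G] [Fintype G]

/-- `seqIndD K X Y` is antitone in `Y`. -/
theorem seqIndD_anti {L : Type u} [Group L] [Fintype L] {K X Y Y' : Subgroup L} (h : Y' ≤ Y) :
    seqIndD K X Y ⊆ seqIndD K X Y' := by
  rintro φ ⟨θ, h1, h2, h3, h4⟩
  exact ⟨θ, h1, h2, fun y hy => h3 y (h hy), h4⟩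

/-- The members of `seqIndD K H (H₀ C')` exist. -/
theorem seqIndD_nonempty {L : Type u} [Group L] [Fintype L] {K H U W₁ W₂ H₀ C : Subgroup L}
    {p q n : ℕ} (s : Setup K H U W₁ W₂ H₀ C p q n) :
    (seqIndD K H (H₀ ⊔ ⁅C, C⁆)).Nonempty := by
  obtain ⟨h1, h2⟩ := Reducible.reducible_members s
  have hp : 1 < p := s.p_prime.one_lt
  have h3 : {ζ | ζ ∈ seqIndD K H H₀ ∧ ¬ IsIrrCharacter L ζ}.Nonempty := by
    rw [Set.nonempty_iff_ne_empty]
    intro h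
    rw [h, Set.ncard_empty] at h1
    omega
  obtain ⟨ζ, hζ, hζ'⟩ := h3
  exact ⟨ζ, seqIndD_anti (sup_le_sup_left (Subgroup.commutator_le_self C) _) (h2 ζ hζ hζ').mem⟩

/-- (9.11) for the subgroups of `↥M`. -/
theorem core_coherence (hG : IsMinSimpleOddOrder G) (M W₁ U W₂ : Subgroup G) [Fintype ↥M]
    (hM : IsCoatom M) (hP : IsTypePWith M W₁ U W₂) {H₀ C : Subgroup ↥M} {p q n : ℕ}
    (s : Setup (⁅M, M⁆.subgroupOf M) ((fittingHallOf M).subgroupOf M) (U.subgroupOf M)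
      (W₁.subgroupOf M) (W₂.subgroupOf M) H₀ C p q n) :
    IsCoherent (seqIndD (⁅M, M⁆.subgroupOf M) ((fittingHallOf M).subgroupOf M) (H₀ ⊔ ⁅C, C⁆))
      {1}ᶜ (tauOf M) := by
  classical
  have hD := PF8.primeDadeHypF hG hM hP
  obtain ⟨μ, δ, hμ⟩ := PF4.exists_primeTIFam hD.primeTI
  obtain ⟨η, hη⟩ := Cfsg.Agent.S1502.result W₁ W₂ hP.selfNormalizing hD.cyclicTI.odd
  have hη' := cyclicTIFam_of hη
  have hodd : Odd (Nat.card ↥M) := s.hyp.odd
  set S := seqIndD (⁅M, M⁆.subgroupOf M) ((fittingHallOf M).subgroupOf M) (H₀ ⊔ ⁅C, C⁆) with hSdef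
  -- `S` as a family `seqIndOf`
  have hSeq : S = seqIndOf M ⁅M, M⁆ (fittingHallOf M) ((H₀ ⊔ ⁅C, C⁆ : Subgroup ↥M).map M.subtype) := by
    have h1 : ((H₀ ⊔ ⁅C, C⁆ : Subgroup ↥M).map M.subtype).subgroupOf M = H₀ ⊔ ⁅C, C⁆ := by
      rw [Subgroup.subgroupOf, Subgroup.comap_map_eq_self_of_injective M.subtype_injective]
    rw [hSdef, seqIndOf, h1]
  have hSsub : S ⊆ seqIndOf M ⁅M, M⁆ (fittingHallOf M) ⊥ := by
    rw [seqIndOf, Subgroup.bot_subgroupOf]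
    exact seqIndD_anti bot_le
  have hconj : ∀ χ ∈ S, conjFun χ ∈ S := by
    intro χ hχ
    rw [hSeq] at hχ ⊢
    exact PF4b.Subcoherent.conjFun_mem hχ
  obtain ⟨Rf, hsys, -, -⟩ := PF4b.Subcoherent.prDade_subcoherent hD hμ hη' hodd hSsub
    (seqIndD_nonempty s) hconj
  refine Coherence.coherence s (tauOf M) Rf {x : ↥M | (x : G) ∈ typeA0' M} hsys ?_ ?_ ?_
  · intro x hx hx1 h hh hh1 hc
    show (x : G) ∈ typeA0' M
    rw [hD.A₀_eq]
    left
    exact hD.centralizer_sub h hh (fun h0 => hh1 (Subtype.ext h0)) x hx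
      (fun h0 => hx1 (Subtype.ext h0)) (congrArg Subtype.val hc)
  · intro α hα x hx
    refine (PF4b.Prime.zspanOn_supp hD hSsub hα).2 x fun hxA => hx ?_
    show (x : G) ∈ typeA0' M
    rw [hD.A₀_eq]
    exact Or.inl hxA
  · refine ⟨?_, ?_, ?_, ?_⟩
    · intro α hα β hβ
      exact DadeBasic.dadeIsometry_add hD.dade (VChar.gen_isClassFunction hα.1)
        (VChar.gen_isClassFunction hβ.1)
    · intro α hα n
      exact DadeBasic.dadeIsometry_zsmul hD.dade (VChar.gen_isClassFunction hα.1) n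
    · intro α hα β hβ
      exact DadeBasic.classInner_dadeIsometry hD.dade (VChar.gen_isClassFunction hα.1)
        (fun x hx => hα.2 x hx) (VChar.gen_isClassFunction hβ.1)
    · intro α hα
      exact DadeVirtual.dade_gen hD.dade hα.1 fun x hx => hα.2 x hx

/-- (9.11) -/
theorem Ptype_core_coherence (hG : IsMinSimpleOddOrder G) (M W₁ U W₂ H₀ C : Subgroup G) [Fintype ↥M]
    (hM : IsCoatom M) (hP : IsTypePWith M W₁ U W₂)
    (_h234 : IsOfTypeII M ∨ IsOfTypeIII M ∨ IsOfTypeIV M) {p q n : ℕ}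
    (hH₀ : H₀ ≤ fittingHallOf M) (hC : C ≤ U)
    (s : Setup (⁅M, M⁆.subgroupOf M) ((fittingHallOf M).subgroupOf M) (U.subgroupOf M)
      (W₁.subgroupOf M) (W₂.subgroupOf M) (H₀.subgroupOf M) (C.subgroupOf M) p q n) :
    IsCoherent (seqIndOf M ⁅M, M⁆ (fittingHallOf M) (H₀ ⊔ ⁅C, C⁆)) {1}ᶜ (tauOf M) := by
  have hCM : C ≤ M := hC.trans (OddOrderLocal.TypeP.U_le hP)
  have hH₀M : H₀ ≤ M := hH₀.trans (OddOrderLocal.FittingHall.fittingHallOf_le M)
  have h1 := core_coherence hG M W₁ U W₂ hM hP s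
  rw [Three.subgroupOf_commutator hCM hCM, ← Subgroup.subgroupOf_sup hH₀M
    ((Subgroup.commutator_le_self C).trans hCM)] at h1
  exact h1

end Cfsg.Agent.OddOrderCharacters.PF9.Main
end

-- part: OddOrderCharacters/PF11/Assemble
section
/-!
# Section 11 for a maximal subgroup of type III or IV: the standing hypotheses and the coherence of `S₂`
-/

set_option autoImplicit false

open Cfsg

namespace Cfsg.Agent.OddOrderCharacters.PF11.Assemble

open Cfsg.Agent.OddOrderCharacters.PFDefs Cfsg.Agent.OddOrderCharacters.PF11.Defs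
open Cfsg.Agent.OddOrderCharacters Cfsg.Agent.OddOrderLocal

universe u

variable {G : Type u} [Group G]

theorem isSolvable_of_isCoatom (hG : IsMinSimpleOddOrder G) {M : Subgroup G} (hM : IsCoatom M) :
    Group.IsSolvable ↥M :=
  hG.2.2.2 M hM.1

theorem exists_hyp [Finite G] (hG : IsMinSimpleOddOrder G) {M W₁ U W₂ : Subgroup G}
    (hM : IsCoatom M) (hP : IsTypePWith M W₁ U W₂) (h : IsOfTypeIII M ∨ IsOfTypeIV M) :
    ∃ H₀ : Subgroup G, Hyp M U W₁ W₂ H₀ (Nat.card W₂) (Nat.card W₁) :=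
  HypOf.exists_hyp_of_prime hG.1 (isSolvable_of_isCoatom hG hM) hP (Or.inr h)
    (PF9.FromTypeP.typeIII_IV_core M W₁ U W₂ hG hM hP h).1

/-- `S₂ = X(H₀C)` is coherent, from (9.11). -/
theorem S₂_coherent [Fintype G] (hG : IsMinSimpleOddOrder G) {M W₁ U W₂ H₀ : Subgroup G}
    [Fintype ↥M] {p q : ℕ} (hM : IsCoatom M) (h : Hyp M U W₁ W₂ H₀ p q)
    (h34 : IsOfTypeIII M ∨ IsOfTypeIV M) :
    IsCoherent (seqIndOf M ⁅M, M⁆ (fittingHallOf M) (H₀ ⊔ cent M U)) {1}ᶜ (tauOf M) := by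
  have s := ToSetup.setup h
  have h1 := PF9.Main.Ptype_core_coherence hG M W₁ U W₂ H₀ (cent M U) hM h.typeP (Or.inr h34)
    h.H₀_le inf_le_left s
  have hsub : seqIndOf M ⁅M, M⁆ (fittingHallOf M) (H₀ ⊔ cent M U) ⊆
      seqIndOf M ⁅M, M⁆ (fittingHallOf M) (H₀ ⊔ ⁅cent M U, cent M U⁆) :=
    PF9.Main.seqIndD_anti fun x hx => sup_le_sup_left (Subgroup.commutator_le_self _) _ hx
  refine VChar.coherent_mono h1 hsub ?_
  -- a nonzero difference `ζ - ζ̄`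
  obtain ⟨h2, h3⟩ := PF9.Reducible.reducible_members s
  have hp : 1 < p := h.p_prime.one_lt
  have h4 : {ζ | ζ ∈ seqIndD (⁅M, M⁆.subgroupOf M) ((fittingHallOf M).subgroupOf M)
      (H₀.subgroupOf M) ∧ ¬ IsIrrCharacter ↥M ζ}.Nonempty := by
    rw [Set.nonempty_iff_ne_empty]
    intro h0
    rw [h0, Set.ncard_empty] at h2
    omega
  obtain ⟨ζ, hζ, hζ'⟩ := h4
  have h5 : ζ ∈ seqIndOf M ⁅M, M⁆ (fittingHallOf M) (H₀ ⊔ cent M U) := by
    rw [seqIndOf, NonGal.sup_subgroupOf h]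
    exact (h3 ζ hζ hζ').mem
  have h6 : conjFun ζ ∈ seqIndOf M ⁅M, M⁆ (fittingHallOf M) (H₀ ⊔ cent M U) :=
    PF4b.Subcoherent.conjFun_mem h5
  have hD := PF8.primeDadeHypF hG hM h.typeP
  obtain ⟨μ, δ, hμ⟩ := PF4.exists_primeTIFam hD.primeTI
  have hne : conjFun ζ ≠ ζ := PF4b.Subcoherent.conj_ne hD hμ s.hyp.odd h5
  refine ⟨ζ - conjFun ζ, VChar.mem_zspanOn_one_iff.2
    ⟨VChar.zspan_sub (VChar.zspan_subset h5) (VChar.zspan_subset h6), ?_⟩,
    sub_ne_zero.mpr hne.symm⟩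
  have h7 : ζ 1 = (q : ℂ) * ((cent M U).relIndex U : ℕ) := (h3 ζ hζ hζ').degree
  rw [Pi.sub_apply, VChar.conjFun_apply, h7, map_mul, Complex.conj_natCast, Complex.conj_natCast,
    sub_self]

end Cfsg.Agent.OddOrderCharacters.PF11.Assemble
end

-- part: OddOrderCharacters/PF11/Main
section
/-!
# Peterfalvi, section 11: the structure of the maximal subgroups of types III and IV

`FTtype34_structure`: there is no maximal subgroup of type IV; if `M` is of type III with data `(W₁, U, W₂)` then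
`#W₂ < #W₁`, `M_F` is elementary abelian of order `#W₂ ^ #W₁`, `U` is cyclic, `C_U(M_F) = 1`, `M'' = M_F`.
-/

set_option autoImplicit false
set_option linter.unusedSectionVars false

open Cfsg Cfsg.Agent.OddOrderCharacters.PFDefs Cfsg.Agent.OddOrderCharacters.PF11.Defs
  Cfsg.Agent.OddOrderCharacters.PF11.Env

namespace Cfsg.Agent.OddOrderCharacters.PF11.Main

universe u

section fintype

variable {G : Type u} [Group G] [Fintype G] {M W₁ U W₂ : Subgroup G} [Fintype ↥M]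

theorem not_typeII [Finite G] {M : Subgroup G} (h34 : IsOfTypeIII M ∨ IsOfTypeIV M) :
    ¬ IsOfTypeII M := fun h2 => TypeExclusive.not_three_or_four_of_isOfTypeII h2 h34

/-- The results of section 11 for a maximal subgroup of type III or IV, any type P data. -/
theorem results (hG : IsMinSimpleOddOrder G) (hM : IsCoatom M) (hP : IsTypePWith M W₁ U W₂)
    (h34 : IsOfTypeIII M ∨ IsOfTypeIV M) :
    ∃ H₀ : Subgroup G, Hyp M U W₁ W₂ H₀ (Nat.card W₂) (Nat.card W₁) ∧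
      ∀ (μ : (↥(W₁ ⊔ W₂) →* ℂˣ) → (↥M → ℂ)) (δ : (↥(W₁ ⊔ W₂) →* ℂˣ) → ℤ)
        (η : (↥(W₁ ⊔ W₂) →* ℂˣ) → (G → ℂ)),
        PrimeTIFam M ⁅M, M⁆ (W₁ ⊔ W₂) W₁ W₂ μ δ → CyclicTIFam (W₁ ⊔ W₂) W₁ W₂ η →
          Results M U (W₁ ⊔ W₂) W₁ W₂ H₀ (typeA0' M) (supportR M) μ η (Nat.card W₂)
            (Nat.card W₁) := by
  have hII := not_typeII h34
  obtain ⟨H₀, h⟩ := Assemble.exists_hyp hG hM hP h34
  refine ⟨H₀, h, fun μ δ η hμ hη => ?_⟩
  exact Env.results h (PF10.HypM.primeDadeHyp hG hM hP hII) hμ hη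
    (PF10.Noncoh.FTtype345_noncoherence' hG hM hP hII) (Assemble.S₂_coherent hG hM h h34)

theorem exists_results (hG : IsMinSimpleOddOrder G) (hM : IsCoatom M)
    (hP : IsTypePWith M W₁ U W₂) (h34 : IsOfTypeIII M ∨ IsOfTypeIV M) :
    ∃ (H₀ : Subgroup G) (μ : (↥(W₁ ⊔ W₂) →* ℂˣ) → (↥M → ℂ)) (η : (↥(W₁ ⊔ W₂) →* ℂˣ) → (G → ℂ)),
      Hyp M U W₁ W₂ H₀ (Nat.card W₂) (Nat.card W₁) ∧
      Results M U (W₁ ⊔ W₂) W₁ W₂ H₀ (typeA0' M) (supportR M) μ η (Nat.card W₂)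
        (Nat.card W₁) := by
  obtain ⟨H₀, h, hr⟩ := results hG hM hP h34
  obtain ⟨μ, δ, η, d, e, n, hyp⟩ := PF10.HypM.exists_hypM hG hM hP (not_typeII h34)
  exact ⟨H₀, μ, η, h, hr μ δ η hyp.hyp.hμ hyp.hyp.hη⟩

end fintype

variable {G : Type u} [Group G] [Finite G] {M W₁ U W₂ : Subgroup G}

/-- (11.9)(c): `U` is cyclic. -/
theorem U_cyclic (hG : IsMinSimpleOddOrder G) (hM : IsCoatom M) (hP : IsTypePWith M W₁ U W₂)
    (h : IsOfTypeIII M ∨ IsOfTypeIV M) : IsCyclic ↥U := by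
  letI := Fintype.ofFinite G
  letI : Fintype ↥M := Fintype.ofFinite _
  obtain ⟨H₀, μ, η, -, r⟩ := exists_results hG hM hP h
  exact r.U_cyclic

/-- There is no maximal subgroup of type IV. -/
theorem typeIII (hG : IsMinSimpleOddOrder G) (hM : IsCoatom M)
    (h : IsOfTypeIII M ∨ IsOfTypeIV M) : IsOfTypeIII M :=
  GalCase.typeIII_of_cyclic h fun _ _ _ hP => U_cyclic hG hM hP h

theorem not_typeIV (hG : IsMinSimpleOddOrder G) (M : Subgroup G) (hM : IsCoatom M) :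
    ¬ IsOfTypeIV M :=
  fun h => TypeExclusive.not_isOfTypeIV_of_III (typeIII hG hM (Or.inr h)) h

theorem typeIII_cyclic (hG : IsMinSimpleOddOrder G) (M W₁ U W₂ : Subgroup G) (hM : IsCoatom M)
    (h : IsTypePWith M W₁ U W₂) (hIII : IsOfTypeIII M) : IsCyclic ↥U :=
  U_cyclic hG hM h (Or.inl hIII)

/-- (11.9)(b): `#W₂ < #W₁`. -/
theorem card_lt (hG : IsMinSimpleOddOrder G) (hM : IsCoatom M) (hP : IsTypePWith M W₁ U W₂)
    (h : IsOfTypeIII M ∨ IsOfTypeIV M) : Nat.card W₂ < Nat.card W₁ := by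
  letI := Fintype.ofFinite G
  letI : Fintype ↥M := Fintype.ofFinite _
  obtain ⟨H₀, μ, η, -, r⟩ := exists_results hG hM hP h
  exact r.lt

/-- `C_U(M_F) = 1` -/
theorem cent_eq_bot (hG : IsMinSimpleOddOrder G) (hM : IsCoatom M) (hP : IsTypePWith M W₁ U W₂)
    (h : IsOfTypeIII M ∨ IsOfTypeIV M) :
    U ⊓ Subgroup.centralizer (fittingHallOf M : Set G) = ⊥ := by
  letI := Fintype.ofFinite G
  letI : Fintype ↥M := Fintype.ofFinite _
  obtain ⟨H₀, μ, η, -, r⟩ := exists_results hG hM hP h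
  exact r.cent_eq_bot

/-- `M'' = M_F` -/
theorem der2_eq (hG : IsMinSimpleOddOrder G) (hM : IsCoatom M)
    (h : IsOfTypeIII M ∨ IsOfTypeIV M) : ⁅⁅M, M⁆, ⁅M, M⁆⁆ = fittingHallOf M := by
  letI := Fintype.ofFinite G
  letI : Fintype ↥M := Fintype.ofFinite _
  obtain ⟨W₁, U, W₂, hP⟩ : IsOfTypeP M := by
    rcases h with h | h
    · exact TypeExclusive.isOfTypeP_of_III h
    · exact TypeExclusive.isOfTypeP_of_IV h
  obtain ⟨H₀, μ, η, -, r⟩ := exists_results hG hM hP h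
  exact r.der2_eq

/-- `U` acts irreducibly on `M_F`. -/
theorem irreducible (hG : IsMinSimpleOddOrder G) (hM : IsCoatom M) (hP : IsTypePWith M W₁ U W₂)
    (h : IsOfTypeIII M ∨ IsOfTypeIV M) (N : Subgroup G) (hN : N ≤ fittingHallOf M)
    (hU : ∀ x ∈ U, ∀ n ∈ N, x * n * x⁻¹ ∈ N) : N = ⊥ ∨ N = fittingHallOf M := by
  letI := Fintype.ofFinite G
  letI : Fintype ↥M := Fintype.ofFinite _
  obtain ⟨H₀, μ, η, -, r⟩ := exists_results hG hM hP h
  have hHM : fittingHallOf M ≤ M := by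
    rintro _ ⟨y, -, rfl⟩
    exact y.2
  have h0 := r.galois (N.subgroupOf M) (by rw [r.H₀_eq, Subgroup.bot_subgroupOf]; exact bot_le)
    (fun x hx => hN hx) (fun x hx n hn => hU x hx n hn)
  rw [r.H₀_eq, Subgroup.bot_subgroupOf] at h0
  rcases h0 with h0 | h0
  · left
    rw [Subgroup.eq_bot_iff_forall]
    intro x hx
    have h1 : (⟨x, hHM (hN hx)⟩ : ↥M) ∈ N.subgroupOf M := hx
    rw [h0, Subgroup.mem_bot] at h1
    exact congrArg Subtype.val h1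
  · right
    refine le_antisymm hN fun x hx => ?_
    have h1 : (⟨x, hHM hx⟩ : ↥M) ∈ (fittingHallOf M).subgroupOf M := hx
    rw [← h0] at h1
    exact h1

/-- Peterfalvi (11.7), (11.9), in the form used in section 13. -/
theorem FTtype34_structure (hG : IsMinSimpleOddOrder G) (hM : IsCoatom M)
    (hP : IsTypePWith M W₁ U W₂) (h : IsOfTypeIII M ∨ IsOfTypeIV M) :
    IsOfTypeIII M ∧ Nat.card W₂ < Nat.card W₁ ∧
      IsElementaryAbelian (Nat.card W₂) (fittingHallOf M) ∧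
      Nat.card (fittingHallOf M) = Nat.card W₂ ^ Nat.card W₁ := by
  letI := Fintype.ofFinite G
  letI : Fintype ↥M := Fintype.ofFinite _
  obtain ⟨H₀, μ, η, -, r⟩ := exists_results hG hM hP h
  exact ⟨typeIII hG hM h, r.lt, r.elem, r.card_H⟩

end Cfsg.Agent.OddOrderCharacters.PF11.Main
end
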