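import Cfsg.Agent.OddOrderCharacters.PF11.Ctx
import Cfsg.Agent.OddOrderCharacters.PF11.Lattice
import Cfsg.Agent.OddOrderCharacters.PF11.Core8
import Cfsg.Agent.OddOrderCharacters.PF12.Const
import Cfsg.Agent.OddOrderCharacters.PF4b.CohExt2
import Cfsg.Agent.OddOrderCharacters.PF9.Cliff3
import Cfsg.Agent.OddOrderCharacters.InducedExpansion
import Cfsg.Agent.OddOrderCharacters.PF11.ToSetup
import Cfsg.Agent.OddOrderCharacters.PF9.EightCount
import Cfsg.Agent.OddOrderCharacters.PF11.NonGal
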