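import Mathlib
import Cfsg.Agent.OddOrderCharacters.PF11.Lattice
import Cfsg.Agent.OddOrderCharacters.VChar
import Cfsg.Agent.S0161
set_option linter.all false

/-!
# The lattice of generalized characters
-/

set_option autoImplicit false

open Cfsg Cfsg.Agent.OddOrderCharacters.PF11.Lattice

universe u

namespace Cfsg.Agent.OddOrderCharacters.PF11.VLat

open Cfsg.Agent.Characters.Core

/-- The generalized characters of `G` as a `ℤ`-submodule of the functions on `G`. -/
def VC (G : Type u) [Group G] : Submodule ℤ (G → ℂ) where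
  carrier := {φ | IsGeneralizedCharacter G φ}
  add_mem' := fun h1 h2 => VChar.gen_add h1 h2
  zero_mem' := VChar.gen_zero
  smul_mem' := fun n _ h => VChar.gen_zsmul n h

theorem mem_VC {G : Type u} [Group G] {φ : G → ℂ} : φ ∈ VC G ↔ IsGeneralizedCharacter G φ := Iff.rfl

/-- The integer inner product of two generalized characters. -/
noncomputable def formVal (G : Type u) [Group G] [Fintype G] (x y : ↥(VC G)) : ℤ :=
  Classical.choose (VChar.gen_inner x.2 y.2)

theorem formVal_spec (G : Type u) [Group G] [Fintype G] (x y : ↥(VC G)) :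
    ((formVal G x y : ℤ) : ℂ) = classInner (x : G → ℂ) (y : G → ℂ) :=
  (Classical.choose_spec (VChar.gen_inner x.2 y.2)).symm

/-- The inner product, with integer values. -/
noncomputable def form (G : Type u) [Group G] [Fintype G] : ↥(VC G) →ₗ[ℤ] ↥(VC G) →ₗ[ℤ] ℤ :=
  LinearMap.mk₂ ℤ (formVal G)
    (fun x x' y => by
      have h : ((formVal G (x + x') y : ℤ) : ℂ) = ((formVal G x y + formVal G x' y : ℤ) : ℂ) := by
        push_cast
        rw [formVal_spec, formVal_spec, formVal_spec]
        exact classInner_add_left _ _ _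
      exact_mod_cast h)
    (fun n x y => by
      have h : ((formVal G (n • x) y : ℤ) : ℂ) = ((n • formVal G x y : ℤ) : ℂ) := by
        rw [smul_eq_mul]
        push_cast
        rw [formVal_spec, formVal_spec]
        exact VChar.classInner_zsmul_left _ _ _
      exact_mod_cast h)
    (fun x y y' => by
      have h : ((formVal G x (y + y') : ℤ) : ℂ) = ((formVal G x y + formVal G x y' : ℤ) : ℂ) := by
        push_cast
        rw [formVal_spec, formVal_spec, formVal_spec]
        exact classInner_add_right _ _ _
      exact_mod_cast h)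
    (fun n x y => by
      have h : ((formVal G x (n • y) : ℤ) : ℂ) = ((n • formVal G x y : ℤ) : ℂ) := by
        rw [smul_eq_mul]
        push_cast
        rw [formVal_spec, formVal_spec]
        exact VChar.classInner_zsmul_right _ _ _
      exact_mod_cast h)

theorem form_eq {G : Type u} [Group G] [Fintype G] (x y : ↥(VC G)) :
    ((form G x y : ℤ) : ℂ) = classInner (x : G → ℂ) (y : G → ℂ) := formVal_spec G x y

theorem isPosForm (G : Type u) [Group G] [Fintype G] : IsPosForm (form G) where
  symm x y := by
    have h : ((form G x y : ℤ) : ℂ) = ((form G y x : ℤ) : ℂ) := by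
      rw [form_eq, form_eq]
      exact VChar.gen_inner_comm x.2 y.2
    exact_mod_cast h
  pos x hx := by
    obtain ⟨n, hn⟩ := VChar.gen_norm x.2
    have h1 : form G x x = n := by
      have h : ((form G x x : ℤ) : ℂ) = ((n : ℤ) : ℂ) := by
        rw [form_eq, hn]
        simp
      exact_mod_cast h
    rw [h1]
    rcases Nat.eq_zero_or_pos n with h0 | h0
    · exfalso
      apply hx
      rw [h0, Nat.cast_zero] at hn
      exact Subtype.ext (classInner_self_eq_zero hn)
    · exact_mod_cast h0

/-- In a group of odd order the only real irreducible character is the principal one, so the inner product of two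
real generalized characters is congruent mod 2 to the product of the multiplicities of the principal one. -/
theorem parity {G : Type u} [Group G] [Fintype G] (hodd : Odd (Nat.card G)) (x y e : ↥(VC G))
    (he : (e : G → ℂ) = fun _ => 1)
    (hx : conjFun (x : G → ℂ) = x) (hy : conjFun (y : G → ℂ) = y) :
    Even (form G x y - form G x e * form G y e) := by
  classical
  have hfin : Finite (IrrCharacter G) := finite_irr
  have _ : Fintype (IrrCharacter G) := Fintype.ofFinite _
  -- irreducible characters as elements of the lattice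
  let ι : IrrCharacter G → ↥(VC G) := fun χ => ⟨χ, VChar.gen_of_irr χ.2⟩
  let e₀ : IrrCharacter G := ⟨fun _ => 1, isIrr_one⟩
  have he₀ : ι e₀ = e := Subtype.ext he.symm
  have hsum : form G x y = ∑ χ, form G x (ι χ) * form G y (ι χ) := by
    have h : ((form G x y : ℤ) : ℂ) = ((∑ χ, form G x (ι χ) * form G y (ι χ) : ℤ) : ℂ) := by
      push_cast
      rw [form_eq, classInner_eq_sum (VChar.gen_isClassFunction x.2) (VChar.gen_isClassFunction y.2)]
      refine Finset.sum_congr rfl fun χ _ => ?_
      rw [← form_eq x (ι χ), ← form_eq y (ι χ), map_intCast]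
    exact_mod_cast h
  -- the involution
  let c : IrrCharacter G → IrrCharacter G := fun χ => ⟨conjFun χ, VChar.isIrr_conjFun χ.2⟩
  have hc : ∀ z : ↥(VC G), conjFun (z : G → ℂ) = z → ∀ χ, form G z (ι (c χ)) = form G z (ι χ) := by
    intro z hz χ
    have h : ((form G z (ι (c χ)) : ℤ) : ℂ) = ((form G z (ι χ) : ℤ) : ℂ) := by
      rw [form_eq, form_eq]
      show classInner (z : G → ℂ) (conjFun (χ : G → ℂ)) = classInner (z : G → ℂ) (χ : G → ℂ)
      conv_lhs => rw [← hz]
      rw [VChar.classInner_conjFun, ← form_eq z (ι χ), map_intCast]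
    exact_mod_cast h
  have hcc : ∀ χ, c (c χ) = χ := fun χ => Subtype.ext (VChar.conjFun_conjFun _)
  have hcne : ∀ χ, χ ≠ e₀ → c χ ≠ χ := by
    intro χ hχ hcχ
    apply hχ
    have h1 : conjFun (χ : G → ℂ) = χ := congrArg Subtype.val hcχ
    refine Subtype.ext (S0161.result hodd χ fun g => ?_)
    have h2 : (starRingEnd ℂ) ((χ : G → ℂ) g) = (χ : G → ℂ) g := congrFun h1 g
    exact Complex.conj_eq_iff_im.1 h2
  have hce₀ : c e₀ = e₀ := Subtype.ext (by funext g; simp [c, e₀, conjFun])
  rw [hsum, ← Finset.add_sum_erase Finset.univ _ (Finset.mem_univ e₀), he₀, add_sub_cancel_left]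
  rw [even_iff_two_dvd]
  have h2 := (ZMod.intCast_zmod_eq_zero_iff_dvd
    (∑ χ ∈ Finset.univ.erase e₀, form G x (ι χ) * form G y (ι χ)) 2).1
  refine h2 ?_
  push_cast
  refine Finset.sum_involution (fun χ _ => c χ) ?_ ?_ ?_ ?_
  · intro χ _
    rw [hc x hx, hc y hy]
    exact CharTwo.add_self_eq_zero _
  · intro χ hχ _
    exact hcne χ (Finset.ne_of_mem_erase hχ)
  · intro χ hχ
    refine Finset.mem_erase.2 ⟨fun h => Finset.ne_of_mem_erase hχ ?_, Finset.mem_univ _⟩
    rw [← hcc χ, h, hce₀]
  · intro χ _
    exact hcc χ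

end Cfsg.Agent.OddOrderCharacters.PF11.VLat
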