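import Cfsg.Agent.OddOrderCharacters.PF11.Theta
import Cfsg.Agent.OddOrderCharacters.PF11.Data
import Cfsg.Agent.OddOrderCharacters.PF11.Core8
import Cfsg.Agent.OddOrderCharacters.PF11.Core9
import Cfsg.Agent.OddOrderCharacters.PF11.Column
import Cfsg.Agent.OddOrderCharacters.PF11.Row
import Cfsg.Agent.OddOrderCharacters.PF11.TauCol
import Cfsg.Agent.OddOrderCharacters.PF11.Nine
set_option linter.all false

/-!
# Peterfalvi (11.8), (11.9)(a)(b), and the non-Galois case of (11.9)(c)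
-/

set_option autoImplicit false
set_option linter.unusedSectionVars false
set_option linter.dupNamespace false

open scoped ComplexConjugate
open Cfsg Cfsg.Agent.Characters.Core Cfsg.Agent.OddOrderCharacters.VChar
  Cfsg.Agent.OddOrderCharacters.PFDefs Cfsg.Agent.OddOrderCharacters.ColSum
  Cfsg.Agent.OddOrderCharacters.Galois
  Cfsg.Agent.OddOrderCharacters.PF4b.TIFam Cfsg.Agent.OddOrderCharacters.PF4b.Prime
  Cfsg.Agent.OddOrderCharacters.PF10.Ctx Cfsg.Agent.OddOrderCharacters.PF11.Ctx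
  Cfsg.Agent.OddOrderCharacters.PF11.Theta Cfsg.Agent.OddOrderCharacters.PF11.VLat
  Cfsg.Agent.OddOrderCharacters.PF11.Core8 Cfsg.Agent.OddOrderCharacters.PF11.Lattice
  Cfsg.Agent.OddOrderCharacters.PF11.Data

namespace Cfsg.Agent.OddOrderCharacters.PF11.Eight

universe u

variable {G : Type u} [Group G] [Fintype G] {L K W W₁ W₂ : Subgroup G} [Fintype ↥L]
  {A A₀ : Set G} {R : G → Subgroup G}
  {μ : (↥W →* ℂˣ) → (↥L → ℂ)} {δ : (↥W →* ℂˣ) → ℤ} {η : (↥W →* ℂˣ) → (G → ℂ)}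
  {p q n u : ℕ} {S₁ S₂ : Set (↥L → ℂ)} {t : (↥L → ℂ) → (G → ℂ)}

/-- Changing the sign of the two images: for `n = 2`, `ζ ↦ t ζ - Σ t ζ'` is a coherent extension as well. -/
theorem shift_iso (c : Ctx L K W W₁ W₂ A A₀ R μ δ η p q n u S₁ S₂ t) (hn : n = 2)
    {T : G → ℂ} (hT : ∀ s : Finset (↥L → ℂ), (s : Set (↥L → ℂ)) = S₁ → T = ∑ ζ ∈ s, t ζ) :
    ∃ t' : (↥L → ℂ) → (G → ℂ), IsLinearIsometryOn (zspan S₁) t' ∧
      (∀ α ∈ zspanOn S₁ {1}ᶜ, t' α = dadeIsometry A₀ L R α) ∧ ∀ ζ ∈ S₁, t' ζ = t ζ - T := by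
  classical
  obtain ⟨s, hs⟩ := c.S₁_fin.exists_finset_coe
  have hcard : s.card = 2 := by
    have h1 := c.S₁_ncard
    rw [← hs, Set.ncard_coe_finset, hn] at h1
    exact h1
  have hmem : ∀ {ζ}, ζ ∈ s → ζ ∈ S₁ := fun {ζ} h => by rw [← hs]; exact h
  have hTs := hT s hs
  have hTgen : IsGeneralizedCharacter G T := by
    rw [hTs]; exact gen_sum s fun ζ hζ => c.t_gen (hmem hζ)
  -- inner products with `T`
  have hTt : ∀ ζ ∈ S₁, classInner T (t ζ) = 1 := by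
    intro ζ hζ
    have hζs : ζ ∈ s := by rw [← hs] at hζ; exact hζ
    rw [hTs, classInner_sum_left, Finset.sum_eq_single_of_mem ζ hζs, t_norm c hζ]
    intro b hb hne
    exact t_orth c (hmem hb) hζ hne
  have htT : ∀ ζ ∈ S₁, classInner (t ζ) T = 1 := by
    intro ζ hζ
    rw [gen_inner_comm (c.t_gen hζ) hTgen, hTt ζ hζ]
  have hTT : classInner T T = 2 := by
    conv_lhs => rw [hTs]
    rw [classInner_sum_left, ← hTs, Finset.sum_congr rfl (g := fun _ => (1 : ℂ))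
      (fun ζ hζ => htT ζ (hmem hζ)), Finset.sum_const, hcard]
    simp
  obtain ⟨t', ht', hval⟩ := exists_isometry_extending (S := s) (fun χ hχ h0 => by
      have h1 := c.S₁_deg χ (hmem hχ)
      rw [h0] at h1
      have h2 := c.q_three
      have h3 : (q : ℂ) ≠ 0 := by
        have : q ≠ 0 := by omega
        exact_mod_cast this
      exact h3 h1.symm)
    (fun χ hχ φ hφ hne => classInner_irr_ne (c.S₁_irr χ (hmem hχ)) (c.S₁_irr φ (hmem hφ)) hne)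
    (fun ζ => t ζ - T) (fun χ hχ => gen_sub (c.t_gen (hmem hχ)) hTgen)
    (fun χ hχ φ hφ => by
      simp only [classInner_sub_left, classInner_sub_right, hTT, htT χ (hmem hχ), hTt φ (hmem hφ)]
      rw [lin_inner c.t_iso (zspan_subset (hmem hχ)) (zspan_subset (hmem hφ))]
      ring)
  rw [hs] at ht'
  have hval' : ∀ ζ ∈ S₁, t' ζ = t ζ - T := fun ζ hζ => hval ζ (by rw [← hs] at hζ; exact hζ)
  refine ⟨t', ht', ?_, hval'⟩
  obtain ⟨ζ₀, hζ₀⟩ := c.exists_S₁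
  have hadd := (prDade_isometry c.hD c.S₁_sub).1
  refine agree_of_sub hζ₀ ?_ ?_ ht' hadd.1 hadd.2.1 ?_
  · rw [c.S₁_deg ζ₀ hζ₀]
    have : q ≠ 0 := by have := c.q_three; omega
    exact_mod_cast this
  · intro χ hχ
    rw [c.S₁_deg χ hχ, c.S₁_deg ζ₀ hζ₀]
  · intro χ hχ
    rw [hval' χ hχ, hval' ζ₀ hζ₀, c.tau_sub hχ hζ₀]
    abel

/-- (11.8): the column case is impossible. -/
theorem not_column (c : Ctx L K W W₁ W₂ A A₀ R μ δ η p q n u S₁ S₂ t)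
    (h₂ : IsCoherent S₂ {1}ᶜ (dadeIsometry A₀ L R))
    (hncoh : ¬ IsCoherent (S₁ ∪ S₂) {1}ᶜ (dadeIsometry A₀ L R)) {Θ₀ Θ : G → ℂ}
    (hΘ₀ : ∀ ζ ∈ S₁, dadeIsometry A₀ L R (colSum W W₂ μ 1 - ζ) = Θ₀ - t ζ)
    (hΘ : ∀ ζ ∈ S₁, ∀ φ ∈ lin₁ W W₂, ∀ ψ ∈ lin₁ W W₁, ψ ≠ 1 →
      dadeIsometry A₀ L R (PF10.Ctx.alpha μ 1 n ζ φ ψ) = η (φ * ψ) - η φ - (n : ℤ) • t ζ + Θ)
    {T : G → ℂ} (hT : ∀ s : Finset (↥L → ℂ), (s : Set (↥L → ℂ)) = S₁ → T = ∑ ζ ∈ s, t ζ)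
    {y : ℤ} (hy : y = 0 ∨ (y = 1 ∧ n = 2)) (h0 : Θ₀ = colSum W W₂ η 1 + y • T)
    (h1 : Θ = ((n : ℤ) * y) • T) : False := by
  -- the new extension
  obtain ⟨t', ht', he', hval⟩ : ∃ t' : (↥L → ℂ) → (G → ℂ), IsLinearIsometryOn (zspan S₁) t' ∧
      (∀ α ∈ zspanOn S₁ {1}ᶜ, t' α = dadeIsometry A₀ L R α) ∧ ∀ ζ ∈ S₁, t' ζ = t ζ - y • T := by
    rcases hy with rfl | ⟨rfl, hn⟩
    · exact ⟨t, c.t_iso, c.t_ext, fun ζ _ => by rw [zero_smul, sub_zero]⟩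
    · obtain ⟨t', h1, h2, h3⟩ := shift_iso c hn hT
      exact ⟨t', h1, h2, fun ζ hζ => by rw [h3 ζ hζ, one_smul]⟩
  refine hncoh (Column.coherent_of_column c ht' he' ?_ h₂)
  intro ζ hζ ω hω
  -- reduce to `ω ∈ lin₁ W W₁`
  obtain ⟨φ₀, hφ₀, ψ, hψ, rfl⟩ := exists_lin_mul c.direct ω
  have hψ1 : ψ ≠ 1 := by
    rintro rfl
    exact hω (by rw [lin_mul_one]; exact hφ₀)
  rw [colSum_mul_of_mem hφ₀, colSum_mul_of_mem hφ₀, TauCol.tau_colSum_sub c hΘ₀ hΘ hζ hψ hψ1,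
    hval ζ hζ, h0, h1, c.u_eq]
  push_cast
  simp only [smul_sub, add_smul, mul_smul, one_smul]
  abel

theorem sum_tee_eq (c : Ctx L K W W₁ W₂ A A₀ R μ δ η p q n u S₁ S₂ t) [Fintype ↥S₁]
    (s : Finset (↥L → ℂ)) (hs : (s : Set (↥L → ℂ)) = S₁) :
    ((∑ z, tee c z : ↥(VC G)) : G → ℂ) = ∑ ζ ∈ s, t ζ := by
  rw [AddSubmonoidClass.coe_finset_sum]
  exact (Finset.sum_subtype s (p := fun x => x ∈ S₁)
    (fun x => by rw [← hs, Finset.mem_coe]) (fun ζ => t ζ)).symm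

/-- (11.9)(a), (b). -/
theorem row_structure (c : Ctx L K W W₁ W₂ A A₀ R μ δ η p q n u S₁ S₂ t)
    (h₂ : IsCoherent S₂ {1}ᶜ (dadeIsometry A₀ L R))
    (hncoh : ¬ IsCoherent (S₁ ∪ S₂) {1}ᶜ (dadeIsometry A₀ L R)) {Θ₀ Θ : G → ℂ}
    (hg₀ : IsGeneralizedCharacter G Θ₀) (hg : IsGeneralizedCharacter G Θ)
    (hΘ₀ : ∀ ζ ∈ S₁, dadeIsometry A₀ L R (colSum W W₂ μ 1 - ζ) = Θ₀ - t ζ)
    (hΘ : ∀ ζ ∈ S₁, ∀ φ ∈ lin₁ W W₂, ∀ ψ ∈ lin₁ W W₁, ψ ≠ 1 →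
      dadeIsometry A₀ L R (PF10.Ctx.alpha μ 1 n ζ φ ψ) = η (φ * ψ) - η φ - (n : ℤ) • t ζ + Θ) :
    p < q ∧ (∀ ψ ∈ lin₁ W W₁, classInner Θ₀ (η ψ) = 1) ∧
      ∀ φ ∈ lin₁ W W₂, φ ≠ 1 → ∀ ψ ∈ lin₁ W W₁, classInner Θ₀ (η (φ * ψ)) = 0 := by
  classical
  haveI := finite_lin c.direct
  letI : Fintype ↥(lin₁ W W₂) := Fintype.ofFinite _
  letI : Fintype ↥(lin₁ W W₁) := Fintype.ofFinite _
  haveI : Finite ↥S₁ := c.S₁_fin
  letI : Fintype ↥S₁ := Fintype.ofFinite _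
  have cd := coreData c hg₀ hg hΘ₀ hΘ
  have hncol : ¬ ((∀ i, form G (⟨Θ₀, hg₀⟩ : ↥(VC G)) (eta c i ⟨1, one_mem_lin₁⟩) = 1) ∧
      ∀ i j, j ≠ ⟨1, one_mem_lin₁⟩ → form G (⟨Θ₀, hg₀⟩ : ↥(VC G)) (eta c i j) = 0) := by
    rintro ⟨hcol, hcol'⟩
    obtain ⟨y, hy, h0, h1⟩ := cd.column hcol hcol'
    refine not_column c h₂ hncoh hΘ₀ hΘ
      (T := ((∑ z, tee c z : ↥(VC G)) : G → ℂ)) (fun s hs => sum_tee_eq c s hs) hy ?_ ?_
    · have h2 := congrArg (fun x : ↥(VC G) => (x : G → ℂ)) h0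
      have h3 : Θ₀ = ((∑ i, eta c i ⟨1, one_mem_lin₁⟩ : ↥(VC G)) : G → ℂ) +
        y • ((∑ z, tee c z : ↥(VC G)) : G → ℂ) := h2
      rw [coe_sum_eta] at h3
      exact h3
    · exact congrArg (fun x : ↥(VC G) => (x : G → ℂ)) h1
  obtain ⟨hrow, hsum⟩ := cd.row_of_not_column hncol
  have hq := c.q_three
  have hp := c.p_three
  -- the value at `φ`
  have hval : ∀ φ (hφ : φ ∈ lin₁ W W₂), ∀ ψ (hψ : ψ ∈ lin₁ W W₁),
      classInner Θ₀ (η (φ * ψ)) = classInner Θ₀ (η φ) := by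
    intro φ hφ ψ hψ
    have h1 := hrow ⟨φ, hφ⟩ ⟨ψ, hψ⟩
    have h2 : ((form G (⟨Θ₀, hg₀⟩ : ↥(VC G)) (eta c ⟨φ, hφ⟩ ⟨ψ, hψ⟩) : ℤ) : ℂ) =
        ((form G (⟨Θ₀, hg₀⟩ : ↥(VC G)) (eta c ⟨φ, hφ⟩ ⟨1, one_mem_lin₁⟩) : ℤ) : ℂ) := by rw [h1]
    rw [form_eq, form_eq] at h2
    have h3 : classInner Θ₀ (η (φ * ψ)) = classInner Θ₀ (η (φ * 1)) := h2
    rwa [lin_mul_one] at h3
  have hone : classInner Θ₀ (η 1) = 1 := inner₀_one c hΘ₀
  -- all terms with `φ ≠ 1` are equal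
  obtain ⟨φ₁, hφ₁, hφ₁1⟩ := PF3bLin.exists_ne_one₁ c.hD.cyclicTI
  obtain ⟨r, hr⟩ := gen_inner hg₀ (gen_of_fam c.hη φ₁)
  have hr' : ∀ φ ∈ lin₁ W W₂, φ ≠ 1 → classInner Θ₀ (η φ) = r := fun φ hφ hne => by
    rw [Row.row_const c hg₀ hΘ₀ hφ hφ₁ hne hφ₁1, hr]
  have hform : ∀ i : ↥(lin₁ W W₂), i ≠ ⟨1, one_mem_lin₁⟩ →
      form G (⟨Θ₀, hg₀⟩ : ↥(VC G)) (eta c i ⟨1, one_mem_lin₁⟩) = r := by
    intro i hi
    refine form_of ?_
    show classInner Θ₀ (η ((i : ↥W →* ℂˣ) * 1)) = r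
    rw [lin_mul_one]
    exact hr' i i.2 fun h => hi (Subtype.ext h)
  rw [← Finset.add_sum_erase Finset.univ _ (Finset.mem_univ
    (⟨1, one_mem_lin₁⟩ : ↥(lin₁ W W₂))), cd.Θ₀_one,
    Finset.sum_congr rfl (g := fun _ => r ^ 2)
      (fun i hi => by rw [hform i (Finset.ne_of_mem_erase hi)]), Finset.sum_const,
    Finset.card_erase_of_mem (Finset.mem_univ _), Finset.card_univ, cd.cardI, nsmul_eq_mul,
    Nat.cast_sub (by omega : 1 ≤ q)] at hsum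
  have hr0 : r = 0 := by
    by_contra hne
    have h1 : 1 ≤ r ^ 2 := by
      have := sq_nonneg r
      have h2 : r ^ 2 ≠ 0 := pow_ne_zero 2 hne
      omega
    have hq' : (3 : ℤ) ≤ q := by exact_mod_cast hq
    have hp' : (3 : ℤ) ≤ p := by exact_mod_cast hp
    have h2 : (q : ℤ) ≤ 1 ^ 2 + ((q : ℤ) - ((1 : ℕ) : ℤ)) * r ^ 2 := by
      push_cast
      nlinarith
    nlinarith
  have hpq : p ≤ q := by
    rw [hr0] at hsum
    have : (p : ℤ) ≤ q := by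
      push_cast at hsum
      linarith
    exact_mod_cast this
  have hne : p ≠ q := by
    have := PF3bBasic.card_ne c.hD.cyclicTI
    rw [c.card_W₁, c.card_W₂] at this
    exact this.symm
  refine ⟨lt_of_le_of_ne hpq hne, ?_, ?_⟩
  · intro ψ hψ
    have := hval 1 one_mem_lin₁ ψ hψ
    rw [lin_one_mul] at this
    rw [this, hone]
  · intro φ hφ hne1 ψ hψ
    rw [hval φ hφ ψ hψ, hr' φ hφ hne1, hr0, Int.cast_zero]

/-- the non-Galois case of (11.9)(c) -/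
theorem nonGalois_false (c : Ctx L K W W₁ W₂ A A₀ R μ δ η p q n u S₁ S₂ t)
    (h₂ : IsCoherent S₂ {1}ᶜ (dadeIsometry A₀ L R))
    (hncoh : ¬ IsCoherent (S₁ ∪ S₂) {1}ᶜ (dadeIsometry A₀ L R))
    {lam : ↥L → ℂ} (hlam : lam ∈ S₂) (hirr : IsIrrCharacter ↥L lam) {a b : ℕ}
    (ha : lam 1 = (q : ℂ) * a) (hba : b * a = u) (ha1 : 1 < a) (hap : 2 * a ≤ p - 1) : False := by
  classical
  haveI := finite_lin c.direct
  letI : Fintype ↥(lin₁ W W₂) := Fintype.ofFinite _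
  letI : Fintype ↥(lin₁ W W₁) := Fintype.ofFinite _
  haveI : Finite ↥S₁ := c.S₁_fin
  letI : Fintype ↥S₁ := Fintype.ofFinite _
  obtain ⟨Θ₀, hg₀, hΘ₀⟩ := exists_theta₀ c
  obtain ⟨Θ, hg, hΘ⟩ := exists_theta c
  obtain ⟨hpq, hrow, -⟩ := row_structure c h₂ hncoh hg₀ hg hΘ₀ hΘ
  have cd := coreData c hg₀ hg hΘ₀ hΘ
  obtain ⟨-, τ₂, hτ₂, he₂⟩ := h₂
  obtain ⟨Θ₃, hg₃, h1, h1', h11', hlt, hlη, hnorm, hx, hz, hrel⟩ :=
    Nine.theta3 c hg₀ hg hΘ₀ hΘ hτ₂ he₂ hlam hirr ha hba (by omega)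
  have hgl : IsGeneralizedCharacter G (τ₂ lam) := lin_gen hτ₂ (zspan_subset hlam)
  have hgl' : IsGeneralizedCharacter G (τ₂ (conjFun lam)) :=
    lin_gen hτ₂ (zspan_subset (c.S₂_conj lam hlam))
  refine Core9.nonGalois cd (c := b) (a := a) ?_ c.q_prime hpq.le (by rw [hba, c.u_eq])
    (by omega) hap ⟨τ₂ lam, hgl⟩ ⟨τ₂ (conjFun lam), hgl'⟩ ?_ ?_ ?_ ?_ ?_ ?_ ?_ ⟨Θ₃, hg₃⟩ ?_ ?_ ?_ ?_
  · intro j
    refine form_of ?_
    show classInner Θ₀ (η ((1 : ↥W →* ℂˣ) * j)) = _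
    rw [lin_one_mul, hrow j j.2, Int.cast_one]
  · exact form_of (by rw [Int.cast_one]; exact h1)
  · exact form_of (by rw [Int.cast_one]; exact h1')
  · exact form_of (by rw [Int.cast_zero]; exact h11')
  · exact fun z => form_of (by rw [Int.cast_zero]; exact (hlt z z.2).1)
  · exact fun z => form_of (by rw [Int.cast_zero]; exact (hlt z z.2).2)
  · exact fun i j => form_of (by rw [Int.cast_zero]; exact (hlη _).1)
  · exact fun i j => form_of (by rw [Int.cast_zero]; exact (hlη _).2)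
  · intro z
    refine form_of ?_
    push_cast
    exact hnorm z z.2
  · exact fun z z' => form_congr (hx z z.2 z' z'.2)
  · exact form_congr hz
  · refine Subtype.ext ?_
    show (b : ℤ) • Θ₃ = (q : ℤ) • Θ + Θ₀ - ((∑ i, eta c i ⟨1, one_mem_lin₁⟩ : ↥(VC G)) : G → ℂ)
    rw [coe_sum_eta]
    exact hrel

end Cfsg.Agent.OddOrderCharacters.PF11.Eight
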