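import Cfsg.Agent.OddOrderCharacters.PF11.ToSetup
import Cfsg.Agent.OddOrderCharacters.PF11.Seven
import Cfsg.Agent.OddOrderCharacters.PF9.NonGalois_mg
set_option linter.all false

/-!
# Peterfalvi (11.7): `H₀ = 1`, `H` is elementary abelian of order `p ^ q`
-/

set_option autoImplicit false

open Cfsg
open scoped commutatorElement

namespace Cfsg.Agent.OddOrderCharacters.PF11.SevenMain

open Cfsg.Agent.OddOrderCharacters.PF11.Defs
open Cfsg.Agent.OddOrderCharacters Cfsg.Agent.OddOrderLocal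

universe u

variable {G : Type u} [Group G] {M U W₁ W₂ H₀ : Subgroup G} {p q : ℕ}

/-- (11.7), from the conclusions of (11.6). -/
theorem of_facts (h : Hyp M U W₁ W₂ H₀ p q) (hp : IsPGroup p ↥(fittingHallOf M))
    (hH₀ : H₀ = ⁅fittingHallOf M, fittingHallOf M⁆) :
    IsElementaryAbelian p (fittingHallOf M) ∧ Nat.card ↥(fittingHallOf M) = p ^ q ∧ H₀ = ⊥ := by
  have := h.finite
  have hpF : Fact p.Prime := ⟨h.p_prime⟩
  have s := ToSetup.setup h
  have hle : H₀.subgroupOf M ≤ (fittingHallOf M).subgroupOf M := fun x hx => h.H₀_le hx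
  have key : H₀.subgroupOf M = ⊥ := by
    refine Seven.core ((fittingHallOf M).subgroupOf M) (U.subgroupOf M) (W₁.subgroupOf M)
      (H₀.subgroupOf M) p q s.q_odd s.hyp.H_normal s.kernel.normal hle ?_ ?_ s.H_pow s.card_bar
      ?_ s.hyp.W₁_norm ?_ ?_ s.fixed ?_
    · rw [PF9.Three.subgroupOf_commutator (ToSetup.H_le M) (ToSetup.H_le M), ← hH₀]
    · exact hp.of_equiv (Subgroup.subgroupOfEquivOfLe (ToSetup.H_le M)).symm
    · intro x hx y hy
      exact Subtype.ext (ToSetup.U_comm_H₀ h x hx y hy)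
    · intro w hw
      have h1 : (⟨w, hw⟩ : ↥(W₁.subgroupOf M)) ^ Nat.card ↥(W₁.subgroupOf M) = 1 :=
        pow_card_eq_one'
      rw [s.q_eq] at h1
      exact congrArg Subtype.val h1
    · have h1 := ToSetup.odd_M h
      rw [← Nat.not_even_iff_odd] at h1 ⊢
      exact fun h2 => h1 (h2.trans_dvd (Subgroup.card_subgroup_dvd_card _))
    · by_cases hg : PF9.Defs.Galois ((fittingHallOf M).subgroupOf M) (U.subgroupOf M)
        (H₀.subgroupOf M)
      · exact Or.inl hg
      · obtain ⟨H₁, U₁, a, hn⟩ := PF9.NonGalois.nonGalois s hg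
        exact Or.inr ⟨H₁, hn.H₀_le, hn.H₁_le, hn.H₁_index, hn.H₁_norm, hn.sup_conj⟩
  have hbot : H₀ = ⊥ := by
    rw [eq_bot_iff]
    intro x hx
    have hxM : x ∈ M := ToSetup.H_le M (h.H₀_le hx)
    have h1 : (⟨x, hxM⟩ : ↥M) ∈ H₀.subgroupOf M := hx
    rw [key, Subgroup.mem_bot] at h1
    exact congrArg Subtype.val h1
  refine ⟨?_, ?_, hbot⟩
  · refine ⟨⟨⟨fun x y => Subtype.ext ?_⟩⟩, fun x hx => ?_⟩
    · have h1 : ⁅(x : G), (y : G)⁆ ∈ H₀ := by
        rw [hH₀]; exact Subgroup.commutator_mem_commutator x.2 y.2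
      rw [hbot, Subgroup.mem_bot, commutatorElement_eq_one_iff_mul_comm] at h1
      exact h1
    · have h1 := s.H_pow ⟨x, ToSetup.H_le M hx⟩ hx
      rw [key, Subgroup.mem_bot] at h1
      exact congrArg Subtype.val h1
  · have h1 := s.card_bar
    rw [key, Subgroup.relIndex_bot_left, PF9.Three.card_subgroupOf (ToSetup.H_le M)] at h1
    exact h1

end Cfsg.Agent.OddOrderCharacters.PF11.SevenMain
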