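import Cfsg.Agent.OddOrderCharacters.PF11.Ctx
import Cfsg.Agent.OddOrderCharacters.PF10.Bridge
import Cfsg.Agent.OddOrderCharacters.PF4b.CohExt
set_option linter.all false

/-!
# Peterfalvi (11.8): the residual characters `Θ₀`, `Θ`

`τ (μ_ij - μ_i0 - n ζ) = η_ij - η_i0 - n t ζ + Θ` with `Θ` independent of `i`, `j ≠ 0` and `ζ`;
`τ (μ_0 - ζ) = Θ₀ - t ζ` with `Θ₀` independent of `ζ`.
-/

set_option autoImplicit false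
set_option linter.unusedSectionVars false
set_option linter.dupNamespace false

open scoped ComplexConjugate
open Cfsg Cfsg.Agent.Characters.Core Cfsg.Agent.OddOrderCharacters.VChar
  Cfsg.Agent.OddOrderCharacters.PFDefs Cfsg.Agent.OddOrderCharacters.ColSum
  Cfsg.Agent.OddOrderCharacters.Galois
  Cfsg.Agent.OddOrderCharacters.PF4b.TIFam Cfsg.Agent.OddOrderCharacters.PF4b.Prime
  Cfsg.Agent.OddOrderCharacters.PF10.Ctx Cfsg.Agent.OddOrderCharacters.PF11.Ctx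

namespace Cfsg.Agent.OddOrderCharacters.PF11.Theta

universe u

variable {G : Type u} [Group G] [Fintype G] {L K W W₁ W₂ : Subgroup G} [Fintype ↥L]
  {A A₀ : Set G} {R : G → Subgroup G}
  {μ : (↥W →* ℂˣ) → (↥L → ℂ)} {δ : (↥W →* ℂˣ) → ℤ} {η : (↥W →* ℂˣ) → (G → ℂ)}
  {p q n u : ℕ} {S₁ S₂ : Set (↥L → ℂ)} {t : (↥L → ℂ) → (G → ℂ)}

/-- `μ_ij - μ_i'j` is induced from `W`. -/
theorem mu_sub_eq_ind (c : Ctx L K W W₁ W₂ A A₀ R μ δ η p q n u S₁ S₂ t) {φ φ' ω : ↥W →* ℂˣ}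
    (hφ : φ ∈ lin₁ W W₂) (hφ' : φ' ∈ lin₁ W W₂) (hδ : δ ω = 1) :
    μ (φ * ω) - μ (φ' * ω) = indFun (W.subgroupOf L)
      (fun w : ↥(W.subgroupOf L) => (((φ * ω) ⟨((w : ↥L) : G), w.2⟩ : ℂˣ) : ℂ) -
        (((φ' * ω) ⟨((w : ↥L) : G), w.2⟩ : ℂˣ) : ℂ)) := by
  have h1 := c.hμ.ind_sub (φ * ω) (φ' * ω) (fun w hw => by
    rw [MonoidHom.mul_apply, MonoidHom.mul_apply, hφ w hw, hφ' w hw])
    (fun w : ↥(W.subgroupOf L) => (((φ * ω) ⟨((w : ↥L) : G), w.2⟩ : ℂˣ) : ℂ) -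
        (((φ' * ω) ⟨((w : ↥L) : G), w.2⟩ : ℂˣ) : ℂ)) (fun w hw => rfl)
  rw [h1, delta_mul c.hμ hφ, hδ]
  simp

section

variable (c : Ctx L K W W₁ W₂ A A₀ R μ δ η p q n u S₁ S₂ t)
include c

theorem bridge_class {ζ : ↥L → ℂ} (hζ : ζ ∈ S₁) (φ ψ : ↥W →* ℂˣ) :
    IsClassFunction ↥L (PF10.Ctx.alpha μ 1 n ζ φ ψ) :=
  gen_isClassFunction (alpha_gen c.hyp10 (c.S₁_irr ζ hζ) φ ψ)

theorem bridge_supp {ζ : ↥L → ℂ} (hζ : ζ ∈ S₁) {φ ψ : ↥W →* ℂˣ} (hφ : φ ∈ lin₁ W W₂)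
    (hψ : ψ ∈ lin₁ W W₁) (hψ1 : ψ ≠ 1) (x : ↥L) (hx : (x : G) ∉ A₀) :
    PF10.Ctx.alpha μ 1 n ζ φ ψ x = 0 :=
  alpha_supp c.hyp10 (c.S₁_sub hζ) (by rw [c.S₁_deg ζ hζ, c.card_W₁]) hφ hψ hψ1 x hx

theorem mu_gen (ω : ↥W →* ℂˣ) : IsGeneralizedCharacter ↥L (μ ω) := gen_of_irr (c.hμ.irr ω)

theorem mu_class (ω : ↥W →* ℂˣ) : IsClassFunction ↥L (μ ω) := isIrr_isClassFunction (c.hμ.irr ω)

theorem zeta_gen {ζ : ↥L → ℂ} (hζ : ζ ∈ S₁) : IsGeneralizedCharacter ↥L ζ :=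
  gen_of_irr (c.S₁_irr ζ hζ)

theorem zeta_class {ζ : ↥L → ℂ} (hζ : ζ ∈ S₁) : IsClassFunction ↥L ζ :=
  isIrr_isClassFunction (c.S₁_irr ζ hζ)

/-- change of `ζ` -/
theorem tau_bridge_zeta {ζ ζ' : ↥L → ℂ} (hζ : ζ ∈ S₁) (hζ' : ζ' ∈ S₁) (φ ψ : ↥W →* ℂˣ) :
    dadeIsometry A₀ L R (PF10.Ctx.alpha μ 1 n ζ φ ψ) =
      dadeIsometry A₀ L R (PF10.Ctx.alpha μ 1 n ζ' φ ψ) - (n : ℤ) • (t ζ - t ζ') := by
  have e : PF10.Ctx.alpha μ 1 n ζ φ ψ = PF10.Ctx.alpha μ 1 n ζ' φ ψ - (n : ℤ) • (ζ - ζ') := by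
    rw [PF10.Ctx.alpha_def, PF10.Ctx.alpha_def, smul_sub]
    abel
  have hcl : IsClassFunction ↥L (ζ - ζ') := gen_isClassFunction
    (gen_sub (zeta_gen c hζ) (zeta_gen c hζ'))
  rw [e, DadeBasic.dadeIsometry_sub c.hD.dade (bridge_class c hζ' φ ψ)
    (gen_isClassFunction (gen_zsmul _ (gen_sub (zeta_gen c hζ) (zeta_gen c hζ')))),
    DadeBasic.dadeIsometry_zsmul c.hD.dade hcl, c.tau_sub hζ hζ']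

/-- change of `j` -/
theorem tau_bridge_col {ζ : ↥L → ℂ} (hζ : ζ ∈ S₁) {φ ψ ψ' : ↥W →* ℂˣ} (hφ : φ ∈ lin₁ W W₂)
    (hψ : ψ ∈ lin₁ W W₁) (hψ1 : ψ ≠ 1) (hψ' : ψ' ∈ lin₁ W W₁) (hψ1' : ψ' ≠ 1) :
    dadeIsometry A₀ L R (PF10.Ctx.alpha μ 1 n ζ φ ψ) - dadeIsometry A₀ L R (PF10.Ctx.alpha μ 1 n ζ φ ψ') =
      η (φ * ψ) - η (φ * ψ') := by
  have h1 := PF10.Ctx.mul_notMem_lin₁ c.hD hφ hψ hψ1
  have h2 := PF10.Ctx.mul_notMem_lin₁ c.hD hφ hψ' hψ1'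
  rw [← DadeBasic.dadeIsometry_sub c.hD.dade (bridge_class c hζ φ ψ) (bridge_class c hζ φ ψ')]
  have e : PF10.Ctx.alpha μ 1 n ζ φ ψ - PF10.Ctx.alpha μ 1 n ζ φ ψ' = μ (φ * ψ) - μ (φ * ψ') := by
    rw [PF10.Ctx.alpha_def, PF10.Ctx.alpha_def]
    abel
  rw [e, prDade_sub_TIirr c.hD c.hμ c.hη h1 h2 ?_ (by rw [c.deg _ h1, c.deg _ h2]), c.sgn _ h1]
  · simp
  · intro w hw
    rw [MonoidHom.mul_apply, MonoidHom.mul_apply, hψ w hw, hψ' w hw]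

/-- change of `i` -/
theorem tau_bridge_row {ζ : ↥L → ℂ} (hζ : ζ ∈ S₁) {φ φ' ψ : ↥W →* ℂˣ} (hφ : φ ∈ lin₁ W W₂)
    (hφ' : φ' ∈ lin₁ W W₂) (hψ : ψ ∈ lin₁ W W₁) (hψ1 : ψ ≠ 1) :
    dadeIsometry A₀ L R (PF10.Ctx.alpha μ 1 n ζ φ ψ) - dadeIsometry A₀ L R (PF10.Ctx.alpha μ 1 n ζ φ' ψ) =
      η (φ * ψ) - η φ - (η (φ' * ψ) - η φ') := by
  rw [← DadeBasic.dadeIsometry_sub c.hD.dade (bridge_class c hζ φ ψ) (bridge_class c hζ φ' ψ)]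
  have e : PF10.Ctx.alpha μ 1 n ζ φ ψ - PF10.Ctx.alpha μ 1 n ζ φ' ψ =
      (μ (φ * ψ) - μ (φ' * ψ)) - (μ (φ * 1) - μ (φ' * 1)) := by
    rw [PF10.Ctx.alpha_def, PF10.Ctx.alpha_def, lin_mul_one, lin_mul_one]
    simp only [one_smul]
    abel
  rw [e, mu_sub_eq_ind c hφ hφ' (c.sgn ψ (notMem_lin₁ c.hD hψ hψ1)),
    mu_sub_eq_ind c hφ hφ' c.hμ.sign_one, ← IndRes.indFun_sub,
    dade_ind_W c.hD (fun w => ((φ w : ℂ) - (φ' w : ℂ)) * ((ψ w : ℂ) -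
      (((1 : ↥W →* ℂˣ) w : ℂˣ) : ℂ))) ?_ _ ?_,
    ind_rect c.hη hφ hφ' hψ one_mem_lin₁, lin_mul_one, lin_mul_one]
  · abel
  · intro w hw
    rcases hw with hw | hw
    · rw [hψ w hw]; simp
    · rw [hφ w hw, hφ' w hw]; simp
  · intro w hw
    simp only [Pi.sub_apply, MonoidHom.mul_apply, MonoidHom.one_apply, Units.val_mul, Units.val_one]
    ring

/-- The residual character `Θ`. -/
theorem exists_theta : ∃ Θ : G → ℂ, IsGeneralizedCharacter G Θ ∧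
    ∀ ζ ∈ S₁, ∀ φ ∈ lin₁ W W₂, ∀ ψ ∈ lin₁ W W₁, ψ ≠ 1 →
      dadeIsometry A₀ L R (PF10.Ctx.alpha μ 1 n ζ φ ψ) = η (φ * ψ) - η φ - (n : ℤ) • t ζ + Θ := by
  obtain ⟨ζ₀, hζ₀⟩ := c.exists_S₁
  obtain ⟨ψ₀, hψ₀, hψ₀1⟩ := PF3bLin.exists_ne_one₂ c.hD.cyclicTI
  have h1 : (1 : ↥W →* ℂˣ) ∈ lin₁ W W₂ := one_mem_lin₁
  refine ⟨dadeIsometry A₀ L R (PF10.Ctx.alpha μ 1 n ζ₀ 1 ψ₀) - η (1 * ψ₀) + η 1 + (n : ℤ) • t ζ₀, ?_, ?_⟩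
  · refine gen_add (gen_add (gen_sub (dade_gen c.hD (alpha_gen c.hyp10 (c.S₁_irr ζ₀ hζ₀) _ _)
      (bridge_supp c hζ₀ h1 hψ₀ hψ₀1)) (gen_of_fam c.hη _)) (gen_of_fam c.hη _))
      (gen_zsmul _ (c.t_gen hζ₀))
  · intro ζ hζ φ hφ ψ hψ hψ1
    have e1 := tau_bridge_zeta c hζ hζ₀ φ ψ
    have e2 := tau_bridge_col c hζ₀ hφ hψ hψ1 hψ₀ hψ₀1
    have e3 := tau_bridge_row c hζ₀ hφ h1 hψ₀ hψ₀1
    rw [e1]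
    rw [sub_eq_iff_eq_add] at e2 e3
    rw [e2, e3, smul_sub]
    abel

end

end Cfsg.Agent.OddOrderCharacters.PF11.Theta
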